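import Cfsg.Agent.H51.Asch.UnitaryForm
import Cfsg.Agent.H39.Basic

/-!
A group `R` with a central subgroup `Z` of index `64` whose squaring map gives a `UForm`: the
consequences for the elements normalising `R` and `Z`, stated in the group.
-/

set_option autoImplicit false
set_option linter.style.haveILetI false

namespace Cfsg.Agent.H51.Asch

open Subgroup
open scoped IsMulCommutative

universe u v

variable {G : Type u} [Group G] {V : Type v} [AddCommGroup V]

/-- An element of odd order cannot multiply a group element by an involution fixed by it. -/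
theorem eq_one_of_conj_odd {c g e : G} (hc : c * g * c⁻¹ = e * g) (he : Commute c e)
    (hee : e * e = 1) (hodd : Odd (orderOf c)) : e = 1 := by
  have key : ∀ k : ℕ, c ^ k * g * (c ^ k)⁻¹ = e ^ k * g := by
    intro k
    induction k with
    | zero => simp
    | succ k ih =>
      calc c ^ (k + 1) * g * (c ^ (k + 1))⁻¹ = c * (c ^ k * g * (c ^ k)⁻¹) * c⁻¹ := by
            rw [pow_succ']; group
        _ = (c * e ^ k * c⁻¹) * (c * g * c⁻¹) := by rw [ih]; group
        _ = e ^ (k + 1) * g := by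
          rw [(he.pow_right k).eq, mul_inv_cancel_right, hc, ← mul_assoc, ← pow_succ]
  obtain ⟨j, hj⟩ := hodd
  have h1 := key (orderOf c)
  rw [pow_orderOf_eq_one, one_mul, inv_one, mul_one, hj, pow_succ, pow_mul, pow_two, hee, one_pow,
    one_mul] at h1
  exact right_eq_mul.mp h1

/-- The product formula as an inequality. -/
theorem card_mul_card_le_inf_mul [Finite G] {C Q P : Subgroup G} (hC : C ≤ P) (hQ : Q ≤ P) :
    Nat.card C * Nat.card Q ≤ Nat.card (Q ⊓ C : Subgroup G) * Nat.card P := by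
  classical
  -- the map `c ↦ c Q` into the cosets of `Q` in `P`
  set Q' := Q.subgroupOf P with hQ'
  have hcard : Nat.card P = Nat.card (P ⧸ Q') * Nat.card Q := by
    rw [← Nat.card_congr (subgroupOfEquivOfLe hQ).toEquiv]
    exact Subgroup.card_eq_card_quotient_mul_card_subgroup Q'
  let r : P ⧸ Q' → G := fun z =>
    if hz : ∃ c : C, QuotientGroup.mk (s := Q') ⟨c, hC c.2⟩ = z then (hz.choose : G) else 1
  have hr : ∀ c : C, (r (QuotientGroup.mk (s := Q') ⟨c, hC c.2⟩))⁻¹ * c ∈ Q ⊓ C := by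
    intro c
    have hz : ∃ d : C, QuotientGroup.mk (s := Q') ⟨d, hC d.2⟩ =
        QuotientGroup.mk (s := Q') ⟨c, hC c.2⟩ := ⟨c, rfl⟩
    simp only [r, dif_pos hz]
    exact Subgroup.mem_inf.mpr ⟨mem_subgroupOf.mp (QuotientGroup.eq.mp hz.choose_spec),
      mul_mem (inv_mem hz.choose.2) c.2⟩
  let f : C → (Q ⊓ C : Subgroup G) × (P ⧸ Q') := fun c =>
    (⟨_, hr c⟩, QuotientGroup.mk (s := Q') ⟨c, hC c.2⟩)
  have hf : Function.Injective f := fun c c' e => by
    simp only [f, Prod.mk.injEq, Subtype.mk.injEq] at e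
    rw [e.2] at e
    exact Subtype.ext (mul_left_cancel e.1)
  have h1 := Nat.card_le_card_of_injective f hf
  rw [Nat.card_prod] at h1
  rw [hcard, ← mul_assoc]
  exact Nat.mul_le_mul_right _ h1

/-- The model of `R / Z`. -/
structure VModel (R Z E : Subgroup G) [IsMulCommutative E] (π : G → V) (q : V → Additive E) (β : V → V → Additive E) :
    Prop where
  form : UForm q β
  Z_le : Z ≤ R
  E_le : E ≤ Z
  π_mul : ∀ g ∈ R, ∀ k ∈ R, π (g * k) = π g + π k
  π_eq : ∀ g ∈ R, (π g = 0 ↔ g ∈ Z)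
  π_surj : ∀ v : V, ∃ g ∈ R, π g = v
  q_π : ∀ g ∈ R, ((Additive.toMul (q (π g)) : E) : G) = g * g
  β_π : ∀ g ∈ R, ∀ k ∈ R, ((Additive.toMul (β (π g) (π k)) : E) : G) = g⁻¹ * k * g * k⁻¹

namespace VModel

variable {R Z E : Subgroup G} [IsMulCommutative E] {π : G → V} {q : V → Additive E} {β : V → V → Additive E}
  (m : VModel R Z E π q β)
include m

theorem π_eq_iff {g k : G} (hg : g ∈ R) (hk : k ∈ R) : π g = π k ↔ k⁻¹ * g ∈ Z := by
  rw [← m.π_eq _ (mul_mem (inv_mem hk) hg), m.π_mul _ (inv_mem hk) _ hg]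
  have h1 := m.π_mul _ (inv_mem hk) _ hk
  rw [inv_mul_cancel, (m.π_eq 1 R.one_mem).mpr Z.one_mem] at h1
  constructor
  · intro e; rw [e, ← h1]
  · intro e; exact add_left_cancel (e.trans h1)

/-- A subgroup of `R` whose image lies in a set of at most `n` vectors. -/
theorem card_le_of_image [Finite G] {X : Subgroup G} (hX : X ≤ R) {p : V → Prop}
    (hp : ∀ g ∈ X, p (π g)) {n k : ℕ} (hn : Nat.card {v // p v} ≤ n)
    (hk : Nat.card (X ⊓ Z : Subgroup G) ≤ k) : Nat.card X ≤ n * k := by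
  classical
  haveI := m.form.finite
  let r : {v // p v} → G := fun v =>
    if hv : ∃ g ∈ X, π g = v.1 then hv.choose else 1
  have hr : ∀ g : X, (r ⟨π g, hp g g.2⟩)⁻¹ * g ∈ X ⊓ Z := fun g => by
    have hv : ∃ g' ∈ X, π g' = π g := ⟨g, g.2, rfl⟩
    simp only [r, dif_pos hv]
    obtain ⟨h1, h2⟩ := hv.choose_spec
    exact Subgroup.mem_inf.mpr ⟨mul_mem (inv_mem h1) g.2, (m.π_eq_iff (hX g.2) (hX h1)).mp h2.symm⟩
  let f : X → {v // p v} × (X ⊓ Z : Subgroup G) := fun g => (⟨π g, hp g g.2⟩, ⟨_, hr g⟩)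
  have hf : Function.Injective f := fun g g' e => by
    simp only [f, Prod.mk.injEq, Subtype.mk.injEq] at e
    simp only [e.1] at e
    exact Subtype.ext (mul_left_cancel e.2)
  have h1 := Nat.card_le_card_of_injective f hf
  rw [Nat.card_prod] at h1
  exact h1.trans (Nat.mul_le_mul hn hk)

/-- `n` acts trivially on `R / Z`. -/
def Triv (_ : VModel R Z E π q β) (n : G) : Prop := ∀ g ∈ R, π (n * g * n⁻¹) = π g

theorem exists_act {n : G} (hR : n ∈ normalizer (R : Set G)) (hZ : n ∈ normalizer (Z : Set G)) :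
    ∃ σ : V →+ V, ∀ g ∈ R, π (n * g * n⁻¹) = σ (π g) := by
  choose rep hrep hπ using m.π_surj
  have hn : ∀ {g}, g ∈ R → n * g * n⁻¹ ∈ R := fun hg => (mem_normalizer_iff.mp hR _).mp hg
  have hwd : ∀ g ∈ R, π (n * g * n⁻¹) = π (n * rep (π g) * n⁻¹) := fun g hg => by
    rw [m.π_eq_iff (hn hg) (hn (hrep _)),
      show (n * rep (π g) * n⁻¹)⁻¹ * (n * g * n⁻¹) = n * ((rep (π g))⁻¹ * g) * n⁻¹ by group]
    exact (mem_normalizer_iff.mp hZ _).mp ((m.π_eq_iff hg (hrep _)).mp (hπ _).symm)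
  refine ⟨AddMonoidHom.mk' (fun v => π (n * rep v * n⁻¹)) fun v w => ?_, fun g hg => hwd g hg⟩
  have h1 : π (rep v * rep w) = v + w := by rw [m.π_mul _ (hrep v) _ (hrep w), hπ, hπ]
  have h2 := hwd _ (mul_mem (hrep v) (hrep w))
  rw [h1] at h2
  rw [← h2, show n * (rep v * rep w) * n⁻¹ = n * rep v * n⁻¹ * (n * rep w * n⁻¹) by group,
    m.π_mul _ (hn (hrep v)) _ (hn (hrep w))]

theorem q_act {n : G} (hR : n ∈ normalizer (R : Set G)) {σ : V →+ V}
    (hσ : ∀ g ∈ R, π (n * g * n⁻¹) = σ (π g)) (v : V) :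
    ((Additive.toMul (q (σ v)) : E) : G) = n * (Additive.toMul (q v) : E) * n⁻¹ := by
  obtain ⟨g, hg, rfl⟩ := m.π_surj v
  rw [← hσ g hg, m.q_π _ ((mem_normalizer_iff.mp hR g).mp hg), m.q_π g hg]
  group

theorem q_act_eq {n : G} (hR : n ∈ normalizer (R : Set G)) (hE : ∀ e ∈ E, n * e * n⁻¹ = e)
    {σ : V →+ V} (hσ : ∀ g ∈ R, π (n * g * n⁻¹) = σ (π g)) (v : V) : q (σ v) = q v := by
  apply Additive.toMul.injective
  refine Subtype.ext ?_
  rw [m.q_act hR hσ, hE _ (Additive.toMul (q v)).2]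

variable {n : G}

theorem triv_iff {σ : V →+ V} (hσ : ∀ g ∈ R, π (n * g * n⁻¹) = σ (π g)) :
    m.Triv n ↔ ∀ v, σ v = v := by
  constructor
  · intro h v
    obtain ⟨g, hg, rfl⟩ := m.π_surj v
    rw [← hσ g hg, h g hg]
  · intro h g hg
    rw [hσ g hg, h]

theorem act_mul {n' : G} (hR' : n' ∈ normalizer (R : Set G)) {σ σ' : V →+ V}
    (hσ : ∀ g ∈ R, π (n * g * n⁻¹) = σ (π g)) (hσ' : ∀ g ∈ R, π (n' * g * n'⁻¹) = σ' (π g)) :
    ∀ g ∈ R, π (n * n' * g * (n * n')⁻¹) = σ (σ' (π g)) := fun g hg => by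
  rw [← hσ' g hg, ← hσ _ ((mem_normalizer_iff.mp hR' g).mp hg)]
  congr 1
  group

/-- The part of `R` moved into `Z` by an involutory isometry. -/
theorem card_fixed_le [Finite G] (hR : n ∈ normalizer (R : Set G))
    (hZ : n ∈ normalizer (Z : Set G)) (hE : ∀ e ∈ E, n * e * n⁻¹ = e) (h2 : m.Triv (n * n))
    (hne : ¬ m.Triv n) {X : Subgroup G} (hX : X ≤ R) (hfix : ∀ g ∈ X, π (n * g * n⁻¹) = π g) {k : ℕ}
    (hk : Nat.card (X ⊓ Z : Subgroup G) ≤ k) : Nat.card X ≤ 8 * k := by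
  obtain ⟨σ, hσ⟩ := m.exists_act hR hZ
  have hss := (m.triv_iff (σ := σ.comp σ) (m.act_mul hR hσ hσ)).mp h2
  have hne' : ∃ v, σ v ≠ v := by
    by_contra hall
    push Not at hall
    exact hne ((m.triv_iff hσ).mpr hall)
  refine m.card_le_of_image hX (p := fun v => σ v = v) (fun g hg => ?_)
    (m.form.isometry_fixed (m.q_act_eq hR hE hσ) hss hne').1.le hk
  rw [← hσ g (hX hg), hfix g hg]

/-- An isometry commuting with an involutory one modulo trivial elements squares to a trivial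
one. -/
theorem triv_mul_self (hR : n ∈ normalizer (R : Set G))
    (hZ : n ∈ normalizer (Z : Set G)) (hE : ∀ e ∈ E, n * e * n⁻¹ = e) (h2 : m.Triv (n * n))
    (hne : ¬ m.Triv n) {c : G} (hcR : c ∈ normalizer (R : Set G)) (hcZ : c ∈ normalizer (Z : Set G))
    (hcE : ∀ e ∈ E, c * e * c⁻¹ = e) (hcomm : ∀ g ∈ R,
      π (c * n * g * (c * n)⁻¹) = π (n * c * g * (n * c)⁻¹)) : m.Triv (c * c) := by
  obtain ⟨σ, hσ⟩ := m.exists_act hR hZ
  obtain ⟨τ, hτ⟩ := m.exists_act hcR hcZ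
  have hss := (m.triv_iff (σ := σ.comp σ) (m.act_mul hR hσ hσ)).mp h2
  have hne' : ∃ v, σ v ≠ v := by
    by_contra hall
    push Not at hall
    exact hne ((m.triv_iff hσ).mpr hall)
  refine (m.triv_iff (σ := τ.comp τ) (m.act_mul hcR hτ hτ)).mpr
    (m.form.apply_apply_of_commute (m.q_act_eq hR hE hσ) hss hne' (m.q_act_eq hcR hcE hτ) fun v => ?_)
  obtain ⟨g, hg, rfl⟩ := m.π_surj v
  rw [← m.act_mul hR hτ hσ g hg, ← m.act_mul hcR hσ hτ g hg, hcomm g hg]

/-- The centraliser in `R` of an element outside `Z` is small modulo `Z`. -/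
theorem card_commute_le [Finite G] {g : G} (hg : g ∈ R) (hgZ : g ∉ Z) {X : Subgroup G} (hX : X ≤ R)
    (hcomm : ∀ k ∈ X, Commute k g) {k : ℕ} (hk : Nat.card (X ⊓ Z : Subgroup G) ≤ k) :
    Nat.card X ≤ 8 * k := by
  refine m.card_le_of_image hX (p := fun v => β v (π g) = 0) (fun x hx => ?_)
    (m.form.card_perp fun e => hgZ ((m.π_eq g hg).mp e)).le hk
  apply Additive.toMul.injective
  refine Subtype.ext ?_
  rw [m.β_π x (hX hx) g hg]
  rw [show x⁻¹ * g * x * g⁻¹ = x⁻¹ * (g * x) * g⁻¹ by group, ← (hcomm x hx).eq]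
  simp

/-- No element twists the squaring map by an involution. -/
theorem false_of_twisted (hR : n ∈ normalizer (R : Set G)) (hZ : n ∈ normalizer (Z : Set G))
    (hEn : n ∈ normalizer (E : Set G))
    (hsq : ∀ e ∈ E, n * (n * e * n⁻¹) * n⁻¹ = e) (hne : ∃ e ∈ E, n * e * n⁻¹ ≠ e)
    (h4 : m.Triv (n * n * (n * n))) : False := by
  obtain ⟨σ, hσ⟩ := m.exists_act hR hZ
  have hn : ∀ e : E, n * (e : G) * n⁻¹ ∈ E := fun e => (mem_normalizer_iff.mp hEn _).mp e.2
  let s : Additive E →+ Additive E :=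
    MonoidHom.toAdditive
      { toFun := fun e => ⟨n * e * n⁻¹, hn e⟩
        map_one' := Subtype.ext (by simp)
        map_mul' := fun e f => Subtype.ext (by simp [mul_assoc]) }
  have hsval : ∀ z, ((Additive.toMul (s z) : E) : G) = n * (Additive.toMul z : E) * n⁻¹ :=
    fun _ => rfl
  refine m.form.false_of_twisted (g := σ) (s := s) (fun z => ?_) ?_ (fun v => ?_) ?_
  · apply Additive.toMul.injective
    exact Subtype.ext (by rw [hsval, hsval]; exact hsq _ (Additive.toMul z).2)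
  · obtain ⟨e, he, hne'⟩ := hne
    exact ⟨Additive.ofMul ⟨e, he⟩, fun h => hne' (by
      have := congrArg (fun z => ((Additive.toMul z : E) : G)) h
      simpa [hsval] using this)⟩
  · apply Additive.toMul.injective
    exact Subtype.ext (by rw [m.q_act hR hσ, hsval])
  · intro v
    exact (m.triv_iff (σ := (σ.comp σ).comp (σ.comp σ)) (m.act_mul (mul_mem hR hR) (σ := σ.comp σ)
      (σ' := σ.comp σ) (m.act_mul hR hσ hσ) (m.act_mul hR hσ hσ))).mp h4 v

end VModel

end Cfsg.Agent.H51.Asch
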