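import Cfsg.Agent.H51.Asch.Translation
import Cfsg.Agent.H51.Asch.UnitaryModel

/-!
No line with `|E| = 8` and `|Q| = 512` is without translations.
-/

set_option autoImplicit false
set_option linter.style.haveILetI false

namespace Cfsg.Agent.H51.Asch

open Subgroup MulAction
open Cfsg.Agent.H14.Asch
open Cfsg.Agent.H73.Asch (RankTwoBad Line2 RankOnePairs LineShape)
open Cfsg.Agent.H39 (mul_self_of_orderOf_eq_two ne_one_of_orderOf_eq_two)
open scoped commutatorElement Pointwise IsMulCommutative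

universe u v

variable {G : Type u} [Group G] [Finite G] {Ω : Type v} [MulAction G Ω] [Finite Ω] {D : Set G}

/-- The setting. -/
structure Setup (D : Set G) (u : G) (x y : Ω) (E Q P A : Subgroup G) (a : G) : Prop where
  line : Line2 D u x E Q
  card_E : Nat.card E = 8
  card_Q : Nat.card Q = 512
  noTrans : ¬ HasTranslation u x E
  fix : u • y = y
  ne : y ≠ x
  maxTwo : MaxTwo (coreStab x E) P
  Q_le : Q ≤ P
  E_le : E ≤ P
  u_mem : u ∈ P
  commute : ∀ t ∈ P, Commute t u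
  A_le : A ≤ lineGroup D u ⊓ pairStab G x y
  A_odd : Odd (Nat.card A)
  A_normQ : A ≤ normalizer (Q : Set G)
  A_comm : ∀ b ∈ A, ∀ c ∈ A, Commute b c
  trans : ∀ e ∈ E, ∀ f ∈ E, e ≠ 1 → f ≠ 1 → ∃ k ∈ A, k * e * k⁻¹ = f
  T_norm : P ⊓ stabilizer G y ≤
    normalizer ((A ⊓ centralizer (E : Set G) : Subgroup G) : Set G)
  a_mem : a ∈ A
  a_centE : ∀ e ∈ E, Commute a e
  a_free : ∀ g ∈ Q, Commute a g → g ∈ E

omit [Finite G] [Finite Ω] in
theorem conj_mem_lineGroup' (h : Crit G Ω D) {u g k : G} (hg : Commute g u)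
    (hk : k ∈ lineGroup D u) : g * k * g⁻¹ ∈ lineGroup D u := by
  induction hk using Subgroup.closure_induction with
  | mem z hz =>
    refine mem_lineGroup (h.conj_mem hz.1 g) ?_
    have h1 := commute_conj (mem_centralizer_singleton_iff.mp hz.2 : Commute z u) g
    rwa [hg.eq, mul_inv_cancel_right] at h1
  | one => simp
  | mul s t _ _ ihs iht =>
    rw [show g * (s * t) * g⁻¹ = (g * s * g⁻¹) * (g * t * g⁻¹) by group]
    exact mul_mem ihs iht
  | inv s _ ihs =>
    rw [show g * s⁻¹ * g⁻¹ = (g * s * g⁻¹)⁻¹ by group]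
    exact inv_mem ihs

theorem mem_sup_zpowers_involution {H : Subgroup G} {u g : G} (huu : u * u = 1)
    (hH : ∀ k ∈ H, Commute k u) : g ∈ H ⊔ zpowers u ↔ g ∈ H ∨ g * u ∈ H := by
  have hnorm : zpowers u ≤ normalizer (H : Set G) := zpowers_le.mpr <|
    H39.mem_normalizer_of_conj_mem fun k hk => by
      rw [← (hH k hk).eq, mul_inv_cancel_right]; exact hk
  constructor
  · intro hg
    obtain ⟨k, hk, z, hz, rfl⟩ := (Coprime.mem_sup_iff hnorm).mp hg
    obtain ⟨i, rfl⟩ := mem_zpowers_iff.mp hz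
    rcases Int.even_or_odd i with ⟨j, rfl⟩ | ⟨j, rfl⟩
    · left; rw [← two_mul, zpow_mul, zpow_two, huu, one_zpow, mul_one]; exact hk
    · right
      rw [zpow_add, zpow_mul, zpow_two, huu, one_zpow, one_mul, zpow_one, mul_assoc, huu, mul_one]
      exact hk
  · rintro (hg | hg)
    · exact mem_sup_left hg
    · have : g = g * u * u := by rw [mul_assoc, huu, mul_one]
      rw [this]
      exact mul_mem (mem_sup_left hg) (mem_sup_right (mem_zpowers u))

theorem exists_setup (h : Crit G Ω D) (hP : RankOnePairs (G := G) Ω) {u : G} {x : Ω}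
    {E Q : Subgroup G} (hl : Line2 D u x E Q) (hq : Nat.card E = 8) (hQ : Nat.card Q = 512)
    (hno : ¬ HasTranslation u x E) : ∃ y P A a, Setup D u x y E Q P A a := by
  obtain ⟨-, ⟨p, q, hpq, hp, hq'⟩, -⟩ := hl.bad
  obtain ⟨y, hyx, hy⟩ : ∃ y, y ≠ x ∧ u • y = y := by
    by_cases hpx : p = x
    · exact ⟨q, fun hqx => hpq (hpx.trans hqx.symm), hq'⟩
    · exact ⟨p, hpx, hp⟩
  obtain ⟨P, hQP, hmax, hEP, huP, hPu⟩ := exists_maxTwo_commute_ge h hl hP hno hl.isPGroup
    (fun g hg => mem_inf.mpr ⟨mem_coreStab.mpr ⟨line2_smul hl hg, fun e he => hl.central e he g hg⟩,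
      mem_centralizer_singleton_iff.mpr (line2_commute hl hg).eq⟩)
  -- `Q` is normal in `P`
  have hS : P ⊓ lineGroup D u = Q := by
    refine (eq_of_le_of_card_ge (le_inf hQP fun g hg => (mem_inf.mp (hl.Q_le hg)).1) ?_).symm
    obtain ⟨g, -, hle⟩ := hl.sylow (P ⊓ lineGroup D u) (hmax.1.to_le inf_le_left) fun t ht =>
      mem_inf.mpr ⟨(mem_inf.mp ht).2,
        mem_stabilizer_iff.mpr (mem_coreStab.mp (hmax.2.1 (mem_inf.mp ht).1)).1⟩
    refine (card_le_of_le hle).trans (le_of_eq ?_)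
    exact (Nat.card_congr (Subgroup.equivSMul (MulAut.conj g) Q).toEquiv).symm
  have hPQ : P ≤ normalizer (Q : Set G) := fun t ht =>
    H39.mem_normalizer_of_conj_mem fun g hg => by
      rw [← hS] at hg ⊢
      exact mem_inf.mpr ⟨mul_mem (mul_mem ht (mem_inf.mp hg).1) (inv_mem ht),
        conj_mem_lineGroup' h (hPu t ht) (mem_inf.mp hg).2⟩
  obtain ⟨A, hA, hAodd, hAQ, hAc, htr, hTn, hshape⟩ := hl.torus y hy hyx (P ⊓ stabilizer G y)
    (hmax.1.to_le inf_le_left)
    (fun t ht => mem_inf.mpr ⟨mem_pairStab.mpr ⟨(mem_coreStab.mp (hmax.2.1 (mem_inf.mp ht).1)).1,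
      mem_stabilizer_iff.mp (mem_inf.mp ht).2⟩,
      mem_centralizer_singleton_iff.mpr (hPu t (mem_inf.mp ht).1).eq⟩)
    (fun e he t ht => (mem_coreStab.mp (hmax.2.1 (mem_inf.mp ht).1)).2 e he)
    (inf_le_left.trans hPQ)
  obtain ⟨a, ha, haE, haQ⟩ : ∃ a ∈ A, (∀ e ∈ E, Commute a e) ∧ ∀ g ∈ Q, Commute a g → g ∈ E := by
    rcases hshape with e | ⟨hinj, -⟩ | h3
    · rw [e, hq] at hQ; omega
    · exfalso
      let sqm : Q → E := fun g => ⟨(g : G) * g, hl.sq_mem g g.2⟩
      classical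
      let r : E → G := fun z => if hz : ∃ g : Q, sqm g = z then (hz.choose : G) else 1
      have hr : ∀ g : Q, (g : G) * (r (sqm g))⁻¹ ∈ E := fun g => by
        have hz : ∃ g' : Q, sqm g' = sqm g := ⟨g, rfl⟩
        simp only [r, dif_pos hz]
        exact hinj g g.2 _ hz.choose.2 (congrArg Subtype.val hz.choose_spec).symm
      let f : Q → E × E := fun g => (sqm g, ⟨_, hr g⟩)
      have hf : Function.Injective f := fun g g' e => by
        simp only [f, Prod.mk.injEq, Subtype.mk.injEq] at e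
        obtain ⟨e1, e2⟩ := e
        rw [e1] at e2
        exact Subtype.ext (mul_right_cancel e2)
      have := Nat.card_le_card_of_injective f hf
      rw [Nat.card_prod, hq, hQ] at this
      omega
    · exact h3
  refine ⟨y, P, A, a, hl, hq, hQ, hno, hy, hyx, hmax, hQP, hEP, huP, hPu, hA, hAodd, hAQ,
    fun b hb c hc => ?_, htr, hTn, ha, haE, haQ⟩
  haveI := hAc
  exact congrArg Subtype.val
    (IsCyclic.commGroup.mul_comm (⟨b, hb⟩ : A) ⟨c, hc⟩)

namespace Setup

variable {u : G} {x y : Ω} {E Q P A : Subgroup G} {a : G} (c : Setup D u x y E Q P A a)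
  (h : Crit G Ω D)
include c

theorem sq_u : u * u = 1 := by
  obtain ⟨hu2, -, -⟩ := c.line.bad
  exact mul_self_of_orderOf_eq_two hu2

theorem mem_R {g : G} : g ∈ Q ⊔ zpowers u ↔ g ∈ Q ∨ g * u ∈ Q :=
  mem_sup_zpowers_involution c.sq_u fun _ hk => line2_commute c.line hk

theorem mem_Z {g : G} : g ∈ E ⊔ zpowers u ↔ g ∈ E ∨ g * u ∈ E :=
  mem_sup_zpowers_involution c.sq_u fun _ hk => line2_commute c.line (c.line.E_le hk)

include h

theorem u_notMem_Q : u ∉ Q := fun hu => by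
  have hu2 : orderOf u = 2 := c.line.bad.1
  exact conj_notMem_line h c.line 1 (by simpa using c.line.omega u hu hu2)

theorem inf_Z : Q ⊓ (E ⊔ zpowers u) ≤ E := by
  intro g hg
  obtain ⟨hgQ, hgZ⟩ := mem_inf.mp hg
  rcases c.mem_Z.mp hgZ with h1 | h1
  · exact h1
  · exfalso
    have := Q.mul_mem (inv_mem hgQ) (c.line.E_le h1)
    rw [inv_mul_cancel_left] at this
    exact c.u_notMem_Q h this

theorem card_Z_le : Nat.card (E ⊔ zpowers u : Subgroup G) ≤ 16 := by
  classical
  let f : (E ⊔ zpowers u : Subgroup G) → E × Bool := fun g =>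
    if hg : (g : G) ∈ E then (⟨g, hg⟩, true) else
      (⟨(g : G) * u, (c.mem_Z.mp g.2).resolve_left hg⟩, false)
  have hf : Function.Injective f := by
    intro g g' e
    simp only [f] at e
    split_ifs at e with h1 h2 h2 <;> simp at e
    · exact e
    · exact e
  have := Nat.card_le_card_of_injective f hf
  rwa [Nat.card_prod, c.card_E, Nat.card_eq_fintype_card (α := Bool), Fintype.card_bool] at this

theorem normalizer_R {n : G} (hn : n ∈ normalizer (Q : Set G)) (hnu : Commute n u) :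
    n ∈ normalizer ((Q ⊔ zpowers u : Subgroup G) : Set G) :=
  H39.mem_normalizer_of_conj_mem fun g hg => by
    rcases c.mem_R.mp hg with h1 | h1
    · exact mem_sup_left ((mem_normalizer_iff.mp hn g).mp h1)
    · refine c.mem_R.mpr (Or.inr ?_)
      have h2 := (mem_normalizer_iff.mp hn _).mp h1
      rwa [show n * (g * u) * n⁻¹ = n * g * n⁻¹ * (n * u * n⁻¹) by group, hnu.eq,
        mul_inv_cancel_right] at h2

theorem normalizer_Z {n : G} (hn : n ∈ normalizer (E : Set G)) {e : G} (he : e ∈ E)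
    (hnu : n * u * n⁻¹ = u * e) :
    n ∈ normalizer ((E ⊔ zpowers u : Subgroup G) : Set G) :=
  H39.mem_normalizer_of_conj_mem fun g hg => by
    rcases c.mem_Z.mp hg with h1 | h1
    · exact mem_sup_left ((mem_normalizer_iff.mp hn g).mp h1)
    · have h2 := (mem_normalizer_iff.mp hn _).mp h1
      have h3 : n * g * n⁻¹ = n * (g * u) * n⁻¹ * (u * e)⁻¹ := by rw [← hnu]; group
      rw [h3]
      exact mul_mem (mem_sup_left h2)
        (inv_mem (mul_mem (mem_sup_right (mem_zpowers u)) (mem_sup_left he)))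

theorem normalizer_of_A {b : G} (hb : b ∈ A) :
    b ∈ normalizer (E : Set G) ∧ Commute b u ∧
      b ∈ normalizer ((Q ⊔ zpowers u : Subgroup G) : Set G) ∧
      b ∈ normalizer ((E ⊔ zpowers u : Subgroup G) : Set G) := by
  have hbu : Commute b u := commute_of_mem_lineGroup (mem_inf.mp (c.A_le hb)).1
  have hbE : b ∈ normalizer (E : Set G) := H39.mem_normalizer_of_conj_mem fun e he => by
    by_cases he1 : e = 1
    · simp [he1]
    · refine c.line.omega _ ((mem_normalizer_iff.mp (c.A_normQ hb) e).mp (c.line.E_le he)) ?_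
      rw [H39.orderOf_conj, h.inv (line2_member c.line he he1).1]
  exact ⟨hbE, hbu, c.normalizer_R h (c.A_normQ hb) hbu, c.normalizer_Z h hbE E.one_mem
    (by rw [hbu.eq, mul_inv_cancel_right, mul_one])⟩

theorem P_le_normalizer {t : G} (ht : t ∈ P) : t ∈ normalizer (Q : Set G) := by
  refine H39.mem_normalizer_of_conj_mem fun g hg => ?_
  have hS : P ⊓ lineGroup D u ≤ Q := by
    obtain ⟨k, -, hle⟩ := c.line.sylow (P ⊓ lineGroup D u) (c.maxTwo.1.to_le inf_le_left) fun t ht =>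
      mem_inf.mpr ⟨(mem_inf.mp ht).2,
        mem_stabilizer_iff.mpr (mem_coreStab.mp (c.maxTwo.2.1 (mem_inf.mp ht).1)).1⟩
    refine (eq_of_le_of_card_ge (le_inf c.Q_le fun g hg => (mem_inf.mp (c.line.Q_le hg)).1) ?_).ge
    refine (card_le_of_le hle).trans (le_of_eq ?_)
    exact (Nat.card_congr (Subgroup.equivSMul (MulAut.conj k) Q).toEquiv).symm
  exact hS (mem_inf.mpr ⟨mul_mem (mul_mem ht (c.Q_le hg)) (inv_mem ht),
    conj_mem_lineGroup' h (c.commute t ht) (mem_inf.mp (c.line.Q_le hg)).1⟩)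

theorem normalizer_of_P {t : G} (ht : t ∈ P) :
    t ∈ normalizer ((Q ⊔ zpowers u : Subgroup G) : Set G) ∧
      t ∈ normalizer ((E ⊔ zpowers u : Subgroup G) : Set G) ∧ ∀ e ∈ E, t * e * t⁻¹ = e := by
  have htE : ∀ e ∈ E, t * e * t⁻¹ = e := fun e he => by
    rw [← ((mem_coreStab.mp (c.maxTwo.2.1 ht)).2 e he).eq, mul_inv_cancel_right]
  refine ⟨c.normalizer_R h (c.P_le_normalizer h ht) (c.commute t ht),
    c.normalizer_Z h (H39.mem_normalizer_of_conj_mem fun e he => by rwa [htE e he]) E.one_mem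
      (by rw [(c.commute t ht).eq, mul_inv_cancel_right, mul_one]), htE⟩

theorem decomp {p : G} (hp : p ∈ P) :
    ∃ q ∈ Q, q⁻¹ * p ∈ P ⊓ stabilizer G y := by
  have hpu := c.commute p hp
  have hpy : u • p • y = p • y := smul_fixed_of_commute hpu c.fix
  have hpx : p • y ≠ x := fun e =>
    c.ne (MulAction.injective p (e.trans (mem_coreStab.mp (c.maxTwo.2.1 hp)).1.symm))
  obtain ⟨q, hq, hqy⟩ := c.line.trans y (p • y) c.fix hpy c.ne hpx
  exact ⟨q, hq, mem_inf.mpr ⟨mul_mem (inv_mem (c.Q_le hq)) hp,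
    mem_stabilizer_iff.mpr (by rw [mul_smul, ← hqy, inv_smul_smul])⟩⟩

theorem eq_one_of_fix {q : G} (hq : q ∈ Q) (hqy : q ∈ stabilizer G y) : q = 1 :=
  c.line.free q hq y c.fix c.ne (mem_stabilizer_iff.mp hqy)

theorem involution_eq (hP : RankOnePairs (G := G) Ω) {t : G} (ht : t ∈ P ⊓ stabilizer G y)
    (ht2 : t * t = 1) (ht1 : t ≠ 1) : t = u := by
  obtain ⟨htP, hty⟩ := mem_inf.mp ht
  exact (hP u t x y c.line.bad.1 (orderOf_eq_prime (by rw [pow_two]; exact ht2) ht1)
    (c.commute t htP).symm c.ne.symm c.line.fix c.fix (mem_coreStab.mp (c.maxTwo.2.1 htP)).1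
    (mem_stabilizer_iff.mp hty)).symm

theorem sq_mem {g : G} (hg : g ∈ Q ⊔ zpowers u) : g * g ∈ E := by
  rcases c.mem_R.mp hg with h1 | h1
  · exact c.line.sq_mem g h1
  · have hgu : Commute (g * u) u := line2_commute c.line h1
    have : g * g = (g * u) * (g * u) := by
      obtain ⟨k, rfl⟩ : ∃ k, g = k * u := ⟨g * u, by rw [mul_assoc, c.sq_u, mul_one]⟩
      rw [mul_assoc k u u, c.sq_u, mul_one] at hgu ⊢
      rw [Commute.mul_mul_mul_comm (a := k) (d := u) (hgu : Commute k u).symm, c.sq_u, mul_one]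
    rw [this]
    exact c.line.sq_mem _ h1

end Setup


end Cfsg.Agent.H51.Asch
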