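import Cfsg.Agent.H51.Asch.Top

/-!
An odd automorphism of a `TorusData` group can be corrected inside it to fix a conjugate of `u`.
-/

set_option autoImplicit false
set_option linter.style.haveILetI false

namespace Cfsg.Agent.H51.Asch

open Subgroup
open scoped commutatorElement

universe u

variable {G : Type u} [Group G]

/-- A maximal `2`-subgroup of `K`. -/
def MaxTwo (K P : Subgroup G) : Prop :=
  IsPGroup 2 P ∧ P ≤ K ∧ ∀ P' : Subgroup G, IsPGroup 2 P' → P' ≤ K → P ≤ P' → P' = P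

theorem exists_maxTwo_ge [Finite G] {K W : Subgroup G} (hW : IsPGroup 2 W) (hWK : W ≤ K) :
    ∃ P, W ≤ P ∧ MaxTwo K P := by
  obtain ⟨P, ⟨hWP, hP, hPK⟩, hmax⟩ := Set.Finite.exists_maximalFor id
    {P : Subgroup G | W ≤ P ∧ IsPGroup 2 P ∧ P ≤ K} (Set.toFinite _) ⟨W, le_rfl, hW, hWK⟩
  exact ⟨P, hWP, hP, hPK, fun P' h1 h2 h3 =>
    le_antisymm (hmax ⟨hWP.trans h3, h1, h2⟩ h3) h3⟩

theorem MaxTwo.exists_conj [Finite G] {K P P' : Subgroup G} (h : MaxTwo K P) (h' : MaxTwo K P') :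
    ∃ k ∈ K, ∀ g : G, g ∈ P ↔ k * g * k⁻¹ ∈ P' := by
  haveI : Fact (Nat.Prime 2) := ⟨Nat.prime_two⟩
  have mk : ∀ {P : Subgroup G}, MaxTwo K P → ∃ S : Sylow 2 K, (S : Subgroup K) = P.subgroupOf K := by
    intro P h
    refine ⟨⟨P.subgroupOf K, h.1.comap_of_injective K.subtype K.subtype_injective,
      fun {Q} hQ hle => ?_⟩, rfl⟩
    have h1 := h.2.2 (Q.map K.subtype) (hQ.map K.subtype) (map_subtype_le _) (by
      rw [← map_subgroupOf_eq_of_le h.2.1]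
      exact map_mono hle)
    rw [← h1, subgroupOf, comap_map_eq_self_of_injective K.subtype_injective]
  obtain ⟨S, hS⟩ := mk h
  obtain ⟨S', hS'⟩ := mk h'
  obtain ⟨k, hk⟩ := MulAction.exists_smul_eq K S S'
  refine ⟨k, k.2, fun g => ?_⟩
  constructor
  · intro hg
    have h1 : (⟨g, h.2.1 hg⟩ : K) ∈ (S : Subgroup K) := by rw [hS, mem_subgroupOf]; exact hg
    have h2 : k * ⟨g, h.2.1 hg⟩ * k⁻¹ ∈ (S' : Subgroup K) := by
      rw [← hk, Sylow.coe_subgroup_smul, Subgroup.mem_pointwise_smul_iff_inv_smul_mem]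
      simpa [MulAut.smul_def, mul_assoc] using h1
    rw [hS', mem_subgroupOf] at h2
    exact h2
  · intro hg
    have hgK : g ∈ K := by
      have := K.mul_mem (K.mul_mem (inv_mem k.2) (h'.2.1 hg)) k.2
      simpa [mul_assoc] using this
    have h2 : k * ⟨g, hgK⟩ * k⁻¹ ∈ (S' : Subgroup K) := by rw [hS', mem_subgroupOf]; exact hg
    rw [← hk, Sylow.coe_subgroup_smul, Subgroup.mem_pointwise_smul_iff_inv_smul_mem] at h2
    have h1 : (⟨g, hgK⟩ : K) ∈ (S : Subgroup K) := by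
      simpa [MulAut.smul_def, mul_assoc] using h2
    rw [hS, mem_subgroupOf] at h1
    exact h1

theorem MaxTwo.le_of_normal [Finite G] {K P W : Subgroup G} (h : MaxTwo K P) (hW : IsPGroup 2 W)
    (hWK : W ≤ K) (hKW : K ≤ normalizer (W : Set G)) : W ≤ P := by
  have h1 := h.2.2 (P ⊔ W) (h.1.to_sup_of_normal_right' hW (h.2.1.trans hKW))
    (sup_le h.2.1 hWK) le_sup_left
  rw [← h1]; exact le_sup_right

/-- An odd power of `b` acting as a generator still generates. -/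
theorem exists_odd_pow [Finite G] (b : G) :
    ∃ v : ℕ, Odd (orderOf (b ^ (2 ^ v))) := by
  refine ⟨(orderOf b).factorization 2, ?_⟩
  rw [orderOf_pow' b (by positivity), Nat.gcd_eq_right (Nat.ordProj_dvd _ _), Nat.odd_iff,
    ← Nat.two_dvd_ne_zero]
  exact Nat.not_dvd_ordCompl Nat.prime_two (orderOf_pos b).ne'

theorem conj_pow_eq_of_conj_eq {E : Subgroup G} {a b : G} (hbE : ∀ e ∈ E, a * e * a⁻¹ = b * e * b⁻¹)
    (haE : ∀ e ∈ E, a * e * a⁻¹ ∈ E) (n : ℕ) :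
    ∀ e ∈ E, a ^ n * e * (a ^ n)⁻¹ = b ^ n * e * (b ^ n)⁻¹ ∧ a ^ n * e * (a ^ n)⁻¹ ∈ E := by
  induction n with
  | zero => intro e he; simpa using he
  | succ n ih =>
    intro e he
    obtain ⟨h1, h2⟩ := ih e he
    have hc : ∀ c : G, c ^ (n + 1) * e * (c ^ (n + 1))⁻¹ = c * (c ^ n * e * (c ^ n)⁻¹) * c⁻¹ :=
      fun c => by rw [pow_succ']; group
    rw [hc a, hc b]
    exact ⟨by rw [hbE _ h2, h1], haE _ h2⟩

/-- If `a` has odd order and generates transitively on `E#`, so does a power of any `b` with the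
same action. -/
theorem trans_of_same_action [Finite G] {E : Subgroup G} {a b : G} (ha : Odd (orderOf a))
    (haE : ∀ e ∈ E, a * e * a⁻¹ ∈ E) (hbE : ∀ e ∈ E, a * e * a⁻¹ = b * e * b⁻¹)
    (htrans : ∀ e ∈ E, e ≠ 1 → ∀ e' ∈ E, e' ≠ 1 → ∃ c ∈ zpowers a, c * e * c⁻¹ = e') (v : ℕ) :
    ∀ e ∈ E, e ≠ 1 → ∀ e' ∈ E, e' ≠ 1 → ∃ c ∈ zpowers (b ^ (2 ^ v)), c * e * c⁻¹ = e' := by
  intro e he he1 e' he' he'1
  obtain ⟨c, hc, hce⟩ := htrans e he he1 e' he' he'1
  obtain ⟨i, rfl⟩ : ∃ i : ℕ, a ^ i = c :=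
    (isOfFinOrder_of_finite a).mem_powers_iff_mem_zpowers.mpr hc
  obtain ⟨j, hj⟩ := exists_pow_eq_self_of_coprime (n := 2 ^ v) (x := a)
    ((Nat.coprime_two_left.mpr ha).pow_left v)
  refine ⟨(b ^ (2 ^ v)) ^ (j * i), pow_mem (mem_zpowers _) _, ?_⟩
  rw [← pow_mul, ← (conj_pow_eq_of_conj_eq hbE haE _ e he).1, pow_mul, pow_mul, hj]
  exact hce

namespace TorusData

variable [Finite G] {M E A : Subgroup G} {u : G} (h : TorusData M E A u)
include h

/-- If a conjugate of `u` under `K` lies in `M` outside the coset of `u` modulo the Frattini part,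
the whole coset `⁅M, A⁆ u` consists of such conjugates. -/
theorem forall_exists_conj {K : Subgroup G} (hMK : M ≤ K)
    (hbound : ∀ k ∈ K, k * u * k⁻¹ ∈ M →
      Nat.card (M ⊓ centralizer {k * u * k⁻¹} : Subgroup G) ≤ 2 * Nat.card E)
    (hA : ∀ a ∈ A, ∀ k ∈ K, ∃ k' ∈ K, a * (k * u * k⁻¹) * a⁻¹ = k' * u * k'⁻¹)
    (hout : ∀ k ∈ K, k * u * k⁻¹ ∉ ⁅M, A⁆) {k1 : G} (hk1 : k1 ∈ K) (hw1M : k1 * u * k1⁻¹ ∈ M)
    (hqN : k1 * u * k1⁻¹ * u ∉ nxt M M) :
    ∀ y ∈ ⁅M, A⁆, ∃ k ∈ K, y * u = k * u * k⁻¹ := by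
  classical
  set Q := ⁅M, A⁆ with hQdef
  set N := nxt M M with hNdef
  set q := k1 * u * k1⁻¹ * u with hq
  have hMN : M ≤ normalizer (N : Set G) := norm_nxt le_normalizer le_normalizer
  have hqQ : q ∈ Q := (h.mem_or_mul_mem hw1M).resolve_left (hout k1 hk1)
  have hw1q : k1 * u * k1⁻¹ = q * u := by rw [hq, mul_assoc _ u u, h.sq_u, mul_one]
  have hbase : Nat.card (M ⊓ centralizer {u} : Subgroup G) ≤ 2 * Nat.card E :=
    h.card_centralized_le le_rfl
  intro y hy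
  by_cases hyN : y ∈ N
  · obtain ⟨g, hg, hgw⟩ := h.exists_conj_of_mem h.u_mem hbase hyN
    exact ⟨g, hMK hg, hgw.symm⟩
  obtain ⟨a, ha, hay⟩ := (h.card_mul_le (S := N) (K := Q) h.nxt_le_commutator h.commutator_le
    (norm_nxt h.normM h.normM) (normalizer_commutator_ge_right M A)
    (Or.inr h.u_notMem_commutator) hqQ hqN).2 h.frattini_data.1.le y hy hyN
  obtain ⟨k', hk', hk'e⟩ := hA a ha k1 hk1
  rw [hw1q] at hk'e
  have haq : a * q * a⁻¹ * u = k' * u * k'⁻¹ := by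
    rw [← hk'e, show a * (q * u) * a⁻¹ = a * q * a⁻¹ * (a * u * a⁻¹) by group, h.fix a ha]
  have haqM : a * q * a⁻¹ ∈ M := (mem_normalizer_iff.mp (h.normM ha) q).mp (h.commutator_le hqQ)
  have hn : y * (a * q * a⁻¹)⁻¹ ∈ N := by
    have := (mem_normalizer_iff.mp (hMN haqM) _).mp hay
    rw [mul_inv_cancel_left] at this
    exact this
  have hmem : k' * u * k'⁻¹ ∈ M := haq ▸ M.mul_mem haqM h.u_mem
  obtain ⟨g, hg, hgw⟩ := h.exists_conj_of_mem hmem (hbound k' hk' hmem) hn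
  refine ⟨g * k', K.mul_mem (hMK hg) hk', ?_⟩
  calc y * u = y * (a * q * a⁻¹)⁻¹ * (a * q * a⁻¹ * u) := by group
    _ = g * (k' * u * k'⁻¹) * g⁻¹ := by rw [haq, hgw]
    _ = _ := by group

/-- The conjugates of `u` in `M` under a group `K` centralising `E`. -/
theorem exists_fixing {K : Subgroup G} (hMK : M ≤ K)
    (hbound : ∀ k ∈ K, k * u * k⁻¹ ∈ M →
      Nat.card (M ⊓ centralizer {k * u * k⁻¹} : Subgroup G) ≤ 2 * Nat.card E)
    (hA : ∀ a ∈ A, ∀ k ∈ K, ∃ k' ∈ K, a * (k * u * k⁻¹) * a⁻¹ = k' * u * k'⁻¹)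
    (hout : ∀ k ∈ K, k * u * k⁻¹ ∉ ⁅M, A⁆) :
    ∀ b : G, b ∈ normalizer (M : Set G) → b ∈ normalizer (E : Set G) → Odd (orderOf b) →
      (∀ e ∈ E, b * e * b⁻¹ = e → e = 1) →
      (∀ k ∈ K, ∃ k' ∈ K, b * (k * u * k⁻¹) * b⁻¹ = k' * u * k'⁻¹) →
      ∃ m ∈ M, ∃ k ∈ K, k * u * k⁻¹ ∈ M ∧ Commute (m * b) (k * u * k⁻¹) := by
  classical
  intro b hbM hbE hbodd hbfree hb
  set Q := ⁅M, A⁆ with hQdef
  set N := nxt M M with hNdef
  have hMN : M ≤ normalizer (N : Set G) := norm_nxt le_normalizer le_normalizer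
  have hbN : b ∈ normalizer (N : Set G) :=
    mem_normalizer_iff.mpr fun x => ⟨map_conj_nxt b hbM hbM, fun hx => by
      have := map_conj_nxt b⁻¹ (inv_mem hbM) (inv_mem hbM) hx
      simpa [mul_assoc] using this⟩
  have hbconj : ∀ {x}, x ∈ M → b * x * b⁻¹ ∈ M := fun hx => (mem_normalizer_iff.mp hbM _).mp hx
  obtain ⟨k1, hk1, hk1e⟩ := hb 1 K.one_mem
  rw [one_mul, inv_one, mul_one] at hk1e
  set w1 := b * u * b⁻¹ with hw1
  have hw1M : w1 ∈ M := hbconj h.u_mem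
  have hw1sq : w1 * w1 = 1 := by
    rw [hw1, show b * u * b⁻¹ * (b * u * b⁻¹) = b * (u * u) * b⁻¹ by group, h.sq_u]; group
  have hw1Q : w1 ∉ Q := hk1e ▸ hout k1 hk1
  have hbase : Nat.card (M ⊓ centralizer {u} : Subgroup G) ≤ 2 * Nat.card E :=
    h.card_centralized_le le_rfl
  -- `q = w1 u` lies in `Q`
  set q := w1 * u with hq
  have hqQ : q ∈ Q := (h.mem_or_mul_mem hw1M).resolve_left hw1Q
  have hw1q : w1 = q * u := by rw [hq, mul_assoc, h.sq_u, mul_one]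
  by_cases hqN : q ∈ N
  · obtain ⟨g, hg, hgw⟩ := h.exists_conj_of_mem h.u_mem hbase hqN
    rw [← hw1q] at hgw
    refine ⟨g⁻¹, inv_mem hg, 1, K.one_mem, by simpa using h.u_mem, ?_⟩
    rw [one_mul, inv_one, mul_one]
    refine mul_inv_eq_iff_eq_mul.mp ?_
    calc g⁻¹ * b * u * (g⁻¹ * b)⁻¹ = g⁻¹ * (b * u * b⁻¹) * g := by group
      _ = g⁻¹ * w1 * g := by rw [hw1]
      _ = u := by rw [← hgw]; group
  -- otherwise the whole coset `Q u` consists of conjugates of `u`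
  have hall : ∀ y ∈ Q, ∃ k ∈ K, y * u = k * u * k⁻¹ := h.forall_exists_conj hMK hbound hA hout
    hk1 (hk1e ▸ hw1M) (by rw [← hk1e]; exact hqN)
  -- so `u` inverts `Q`
  have hinv : ∀ y ∈ Q, u * y * u = y⁻¹ := by
    intro y hy
    obtain ⟨k, -, hk⟩ := hall y hy
    have hsq : y * u * (y * u) = 1 := by
      rw [hk, show k * u * k⁻¹ * (k * u * k⁻¹) = k * (u * u) * k⁻¹ by group, h.sq_u]; group
    calc u * y * u = y⁻¹ * (y * u * (y * u)) := by group
      _ = _ := by rw [hsq, mul_one]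
  have hbQ : ∀ y ∈ Q, b * y * b⁻¹ ∈ Q := by
    intro y hy
    obtain ⟨k, hk, hke⟩ := hall y hy
    obtain ⟨k', hk', hk'e⟩ := hb k hk
    have hmem : b * (y * u) * b⁻¹ ∈ M := hbconj (M.mul_mem (h.commutator_le hy) h.u_mem)
    have hnQ : b * (y * u) * b⁻¹ ∉ Q := by rw [hke, hk'e]; exact hout k' hk'
    have hy' := (h.mem_or_mul_mem hmem).resolve_left hnQ
    have e : b * y * b⁻¹ = b * (y * u) * b⁻¹ * u * (u * w1) := by
      rw [hw1]
      calc b * y * b⁻¹ = b * (y * u) * b⁻¹ * (u * u) * (b * u⁻¹ * b⁻¹) := by rw [h.sq_u]; group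
        _ = _ := by rw [h.inv_u]; group
    rw [e]
    refine Q.mul_mem hy' ?_
    have : u * w1 = q⁻¹ := by rw [← hinv q hqQ, hw1q]; simp [mul_assoc]
    rw [this]
    exact inv_mem hqQ
  -- the map `y ↦ y⁻¹ b y b⁻¹` is onto `Q / N`
  set Nq := N.subgroupOf Q with hNq
  haveI : Nq.Normal := ⟨fun n hn g => (mem_normalizer_iff.mp (hMN (h.commutator_le g.2)) _).mp hn⟩
  have hQcomm : ∀ y ∈ Q, ∀ y' ∈ Q, y⁻¹ * y'⁻¹ * y * y' ∈ N := fun y hy y' hy' => by
    have h1 := comm_mem_nxt (R := M) (inv_mem (h.commutator_le hy)) (inv_mem (h.commutator_le hy'))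
    simpa [commutatorElement_def] using h1
  let cb : Q →* Q :=
    { toFun := fun y => ⟨b * y * b⁻¹, hbQ y y.2⟩
      map_one' := Subtype.ext (by simp)
      map_mul' := fun y y' => Subtype.ext (by simp [mul_assoc]) }
  let β : Q ⧸ Nq →* Q ⧸ Nq := QuotientGroup.map Nq Nq cb fun y hy => by
    rw [mem_comap, hNq, mem_subgroupOf]
    exact (mem_normalizer_iff.mp hbN _).mp (mem_subgroupOf.mp hy)
  have hcommQ : ∀ s t : Q ⧸ Nq, s * t = t * s := by
    intro s t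
    induction s using QuotientGroup.induction_on with
    | _ s =>
      induction t using QuotientGroup.induction_on with
      | _ t =>
        rw [← QuotientGroup.mk_mul, ← QuotientGroup.mk_mul, QuotientGroup.eq, hNq, mem_subgroupOf]
        push_cast
        have := hQcomm _ t.2 _ s.2
        simpa [mul_assoc] using this
  let δ : Q ⧸ Nq → Q ⧸ Nq := fun t => t⁻¹ * β t
  have hfix : ∀ y : Q, β (y : Q ⧸ Nq) = y → (y : G) ∈ N := by
    intro y hy
    have h1 : (y : G)⁻¹ * (b * y * b⁻¹) ∈ N := mem_subgroupOf.mp (QuotientGroup.eq.mp hy.symm)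
    have hcop : (Nat.card (zpowers b)).Coprime (Nat.card M) := by
      haveI : Fact (Nat.Prime 2) := ⟨Nat.prime_two⟩
      obtain ⟨n, hn⟩ := IsPGroup.iff_card.mp h.two
      rw [hn, Nat.card_zpowers]
      exact (Nat.coprime_two_right.mpr hbodd).pow_right n
    obtain ⟨c, hc, hcs⟩ := Coprime.exists_centralizer_mem_coset (zpowers_le.mpr hbM) hcop
      (Or.inr h.isSolvable) (N := N) (h.nxt_le_commutator.trans h.commutator_le)
      (zpowers_le.mpr hbN) (h.commutator_le y.2) (by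
        intro x hx
        obtain ⟨i, rfl⟩ : ∃ i : ℕ, b ^ i = x :=
          (isOfFinOrder_of_finite b).mem_powers_iff_mem_zpowers.mpr hx
        induction i with
        | zero => simp
        | succ i ih =>
          have e1 : (y : G)⁻¹ * (b ^ (i + 1) * y * (b ^ (i + 1))⁻¹) =
              (y : G)⁻¹ * (b * y * b⁻¹) * (b * ((y : G)⁻¹ * (b ^ i * y * (b ^ i)⁻¹)) * b⁻¹) := by
            rw [pow_succ']; group
          rw [e1]
          exact mul_mem h1 ((mem_normalizer_iff.mp hbN _).mp (ih (pow_mem (mem_zpowers b) i))))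
    suffices hc1 : c = 1 by
      rw [hc1, mul_one] at hcs
      exact inv_mem_iff.mp hcs
    by_contra hc1
    have hcQ : c ∈ Q := by
      have := Q.mul_mem y.2 (h.nxt_le_commutator hcs)
      rwa [mul_inv_cancel_left] at this
    -- an involution among the powers of `c`
    haveI : Fact (Nat.Prime 2) := ⟨Nat.prime_two⟩
    obtain ⟨n, hn⟩ := IsPGroup.iff_orderOf.mp h.two ⟨c, hc.1⟩
    rw [Subgroup.orderOf_mk] at hn
    have hn0 : n ≠ 0 := fun e => hc1 (orderOf_eq_one_iff.mp (by rw [hn, e, pow_zero]))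
    set t := c ^ (2 ^ (n - 1)) with ht
    have htQ : t ∈ Q := pow_mem hcQ _
    have ht2 : t * t = 1 := by
      rw [ht, ← pow_add, ← mul_two, ← pow_succ, show n - 1 + 1 = n by omega, ← hn,
        pow_orderOf_eq_one]
    have ht1 : t ≠ 1 := fun e => by
      have := Nat.le_of_dvd (by positivity) (orderOf_dvd_of_pow_eq_one e)
      rw [hn] at this
      have h3 : 2 ^ (n - 1) < 2 ^ n := Nat.pow_lt_pow_right (by norm_num) (by omega)
      omega
    have htu : Commute t u := by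
      have h2 := hinv t htQ
      rw [inv_eq_of_mul_eq_one_right ht2] at h2
      refine (mul_inv_eq_iff_eq_mul.mp ?_).symm
      rw [h.inv_u]; exact h2
    have htE : t ∈ E := (h.cent t (h.commutator_le htQ) htu).resolve_right fun h2 => by
      have := Q.mul_mem (inv_mem htQ) (h.le_commutator h2)
      rw [inv_mul_cancel_left] at this
      exact h.u_notMem_commutator this
    have hbt : b * t * b⁻¹ = t := by
      have hbc : Commute b c := mem_centralizer_iff.mp hc.2 b (mem_zpowers b)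
      rw [ht, (hbc.pow_right _).eq, mul_inv_cancel_right]
    exact ht1 (hbfree t htE hbt)
  have hinj : Function.Injective δ := by
    intro s t hst
    have h1 : β (t⁻¹ * s) = t⁻¹ * s := by
      simp only [δ] at hst
      rw [map_mul, map_inv]
      calc (β t)⁻¹ * β s = (β t)⁻¹ * (s * (s⁻¹ * β s)) := by group
        _ = (β t)⁻¹ * (s * (t⁻¹ * β t)) := by rw [hst]
        _ = t⁻¹ * s := by rw [hcommQ s, hcommQ t⁻¹ (β t)]; group
    obtain ⟨r, hr⟩ := QuotientGroup.mk_surjective (t⁻¹ * s)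
    rw [← hr] at h1
    have h2 : (t⁻¹ * s : Q ⧸ Nq) = 1 := by
      rw [← hr, QuotientGroup.eq_one_iff, hNq, mem_subgroupOf]
      exact hfix r h1
    exact (inv_mul_eq_one.mp h2).symm
  obtain ⟨t, ht⟩ := (Finite.injective_iff_surjective.mp hinj) ((⟨q, hqQ⟩ : Q) : Q ⧸ Nq)⁻¹
  obtain ⟨y, rfl⟩ := QuotientGroup.mk_surjective t
  have hy : (y : G)⁻¹ * (b * y * b⁻¹) * q ∈ N := by
    have h1 : ((y : Q ⧸ Nq))⁻¹ * β (y : Q ⧸ Nq) * ((⟨q, hqQ⟩ : Q) : Q ⧸ Nq) = 1 := by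
      have ht' : ((y : Q ⧸ Nq))⁻¹ * β (y : Q ⧸ Nq) = ((⟨q, hqQ⟩ : Q) : Q ⧸ Nq)⁻¹ := ht
      rw [ht', inv_mul_cancel]
    have h2 : ((y⁻¹ * cb y * ⟨q, hqQ⟩ : Q) : Q ⧸ Nq) = 1 := h1
    exact mem_subgroupOf.mp ((QuotientGroup.eq_one_iff _).mp h2)
  -- `y u` is moved by `b` inside its coset
  obtain ⟨k, hk, hke⟩ := hall y y.2
  have hyM : (y : G) * u ∈ M := M.mul_mem (h.commutator_le y.2) h.u_mem
  have hn : b * ((y : G) * u) * b⁻¹ * ((y : G) * u)⁻¹ ∈ N := by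
    have e : b * ((y : G) * u) * b⁻¹ * ((y : G) * u)⁻¹ =
        (y : G) * ((y : G)⁻¹ * (b * y * b⁻¹) * q) * (y : G)⁻¹ := by
      rw [mul_inv_rev, h.inv_u, show b * ((y : G) * u) * b⁻¹ = b * y * b⁻¹ * w1 by rw [hw1]; group,
        hw1q]
      calc b * (y : G) * b⁻¹ * (q * u) * (u * (y : G)⁻¹) = b * y * b⁻¹ * q * (u * u) * (y : G)⁻¹ := by
            group
        _ = _ := by rw [h.sq_u]; group
    rw [e]
    exact (mem_normalizer_iff.mp (hMN (h.commutator_le y.2)) _).mp hy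
  obtain ⟨g, hg, hgw⟩ := h.exists_conj_of_mem hyM (hke ▸ hbound k hk (hke ▸ hyM)) hn
  refine ⟨g⁻¹, inv_mem hg, k, hk, hke ▸ hyM, ?_⟩
  rw [← hke]
  refine mul_inv_eq_iff_eq_mul.mp ?_
  calc g⁻¹ * b * ((y : G) * u) * (g⁻¹ * b)⁻¹ =
        g⁻¹ * (b * (y * u) * b⁻¹ * ((y : G) * u)⁻¹ * (y * u)) * g := by group
    _ = g⁻¹ * (g * (y * u) * g⁻¹) * g := by rw [hgw]
    _ = _ := by group

end TorusData

end Cfsg.Agent.H51.Asch
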