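import Cfsg.Agent.H51.Asch.Climb
import Cfsg.Agent.H14.Asch.Local
import Cfsg.Agent.H1.Asch.Fusion

/-!
P4 for lines with `Q = E`: a Sylow `2`-subgroup `R` of `C_H(E)` through `u` and a torus `A` with
`C_R(A) = ⟨u⟩`; `⁅R, A⁆` contains no conjugate of `u` and is normalised by the elements
normalising `R`, `E` and the image of the torus.
-/

set_option autoImplicit false
set_option linter.style.haveILetI false

namespace Cfsg.Agent.H51.Asch

open Subgroup MulAction
open Cfsg.Agent.H14.Asch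
open Cfsg.Agent.H73.Asch (RankTwoBad Line2 RankOnePairs)
open Cfsg.Agent.H39 (mul_self_of_orderOf_eq_two ne_one_of_orderOf_eq_two)
open scoped commutatorElement Pointwise

universe u v

variable {G : Type u} [Group G] [Finite G] {Ω : Type v} [MulAction G Ω] [Finite Ω] {D : Set G}

/-- The centraliser of `E` in the stabiliser of `x`. -/
def coreStab (x : Ω) (E : Subgroup G) : Subgroup G := stabilizer G x ⊓ centralizer (E : Set G)

omit [Finite G] [Finite Ω] in
theorem mem_coreStab {x : Ω} {E : Subgroup G} {g : G} :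
    g ∈ coreStab x E ↔ g • x = x ∧ ∀ e ∈ E, Commute e g := by
  rw [coreStab, mem_inf, mem_stabilizer_iff, mem_centralizer_iff]
  exact Iff.rfl

/-- The translations: `u` is conjugate to some `u * e` in `C_H(E)`. -/
def HasTranslation (u : G) (x : Ω) (E : Subgroup G) : Prop :=
  ∃ k ∈ coreStab x E, ∃ e ∈ E, e ≠ 1 ∧ k * u * k⁻¹ = u * e

section

variable (h : Crit G Ω D) (hP : RankOnePairs (G := G) Ω) {u : G} {x : Ω} {E : Subgroup G}
  (hl : Line2 D u x E E) (hT : HasTranslation u x E)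
include h hP hl hT

omit hP hT in
theorem mem_coreStab_self : u ∈ coreStab x E :=
  mem_coreStab.mpr ⟨hl.fix, fun _ he => line2_commute hl he⟩

omit hP hT in
theorem line_le_coreStab : E ≤ coreStab x E := fun _ he =>
  mem_coreStab.mpr ⟨line2_smul hl he, fun f hf => hl.central f hf _ he⟩

omit hP hT in
theorem notMem_line : u ∉ E := fun hu => by
  obtain ⟨hu2, ⟨p, q, hpq, hp, hq⟩, -⟩ := hl.bad
  exact hpq (h.eq_of_fixed (line2_member hl hu (ne_one_of_orderOf_eq_two hu2)).1 hp hq)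

/-- The `2`-subgroups of `C_H(E) ∩ C(u)` lie in `E ∪ E u`. -/
theorem two_group_split {W : Subgroup G} (hW : IsPGroup 2 W) (hWK : W ≤ coreStab x E)
    (hWu : ∀ g ∈ W, Commute g u) : ∀ g ∈ W, g ∈ E ∨ g * u ∈ E := by
  haveI : Fact (Nat.Prime 2) := ⟨Nat.prime_two⟩
  obtain ⟨hu2, ⟨p₀, q₀, hpq₀, hp₀, hq₀⟩, -⟩ := hl.bad
  have huu := mul_self_of_orderOf_eq_two hu2
  set Kc := coreStab x E ⊓ centralizer ({u} : Set G) with hKc
  have hmemKc : ∀ {g}, g ∈ Kc ↔ g ∈ coreStab x E ∧ Commute g u := fun {g} =>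
    and_congr Iff.rfl mem_centralizer_singleton_iff
  obtain ⟨P, hWP, hPmax⟩ := exists_maxTwo_ge (K := Kc) hW fun g hg => hmemKc.mpr ⟨hWK hg, hWu g hg⟩
  -- `E` and `u` are central in `Kc`
  have hEKc : E ≤ Kc := fun e he => hmemKc.mpr ⟨line_le_coreStab h hl he, line2_commute hl he⟩
  have hEP : E ≤ P := hPmax.le_of_normal hl.isPGroup hEKc (le_normalizer_iff.mpr fun g hg e he => by
    rw [← ((mem_coreStab.mp (hmemKc.mp hg).1).2 e he).eq, mul_inv_cancel_right]
    exact he)
  obtain ⟨y, hyx, hy⟩ : ∃ y, y ≠ x ∧ u • y = y := by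
    by_cases hp : p₀ = x
    · exact ⟨q₀, fun hq => hpq₀ (hp.trans hq.symm), hq₀⟩
    · exact ⟨p₀, hp, hp₀⟩
  -- the conjugation taking `u` to `u e`, normalising `P`
  obtain ⟨k, hk, e₁, he₁, he₁1, hke⟩ := hT
  have hkx := (mem_coreStab.mp hk).1
  have hkKc : k ∈ normalizer (Kc : Set G) := by
    refine mem_normalizer_iff.mpr fun g => ?_
    have hiff : ∀ {g}, g ∈ coreStab x E → (Commute g (u * e₁) ↔ Commute g u) := fun {g} hg => by
      have hge : Commute g e₁ := ((mem_coreStab.mp hg).2 e₁ he₁).symm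
      constructor
      · intro hc
        have := hc.mul_right hge.inv_right
        rwa [mul_inv_cancel_right] at this
      · exact fun hc => hc.mul_right hge
    rw [hmemKc, hmemKc]
    constructor
    · rintro ⟨hg, hgu⟩
      have hgk : k * g * k⁻¹ ∈ coreStab x E := mul_mem (mul_mem hk hg) (inv_mem hk)
      exact ⟨hgk, (hiff hgk).mp (hke ▸ H14.Asch.commute_conj hgu k)⟩
    · rintro ⟨hgk, hgu⟩
      have hg : g ∈ coreStab x E := by
        have := mul_mem (mul_mem (inv_mem hk) hgk) hk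
        simpa [mul_assoc] using this
      have h1 := H14.Asch.commute_conj ((hiff hgk).mpr hgu) k⁻¹
      rw [← hke] at h1
      exact ⟨hg, by simpa [mul_assoc] using h1⟩
  have hP' : MaxTwo Kc (P.map (MulAut.conj k).toMonoidHom) := by
    refine ⟨hPmax.1.map _, ?_, fun P' h1 h2 h3 => ?_⟩
    · rintro _ ⟨g, hg, rfl⟩
      exact (mem_normalizer_iff.mp hkKc g).mp (hPmax.2.1 hg)
    · have h4 := hPmax.2.2 (P'.map (MulAut.conj k⁻¹).toMonoidHom) (h1.map _) (by
        rintro _ ⟨g, hg, rfl⟩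
        exact (mem_normalizer_iff.mp (inv_mem hkKc) g).mp (h2 hg)) (by
        intro g hg
        refine ⟨k * g * k⁻¹, h3 ⟨g, hg, rfl⟩, ?_⟩
        simp [mul_assoc])
      rw [← h4, Subgroup.map_map]
      convert (Subgroup.map_id P').symm using 2
      ext g; simp [mul_assoc]
  obtain ⟨c, hc, hcP⟩ := hP'.exists_conj hPmax
  set n := c * k with hn
  have hnP : ∀ g ∈ P, n * g * n⁻¹ ∈ P := by
    intro g hg
    have := (hcP (k * g * k⁻¹)).mp ⟨g, hg, rfl⟩
    convert this using 1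
    rw [hn]; group
  have hnu : n * u * n⁻¹ = u * e₁ := by
    have hce : Commute c (u * e₁) :=
      (hmemKc.mp hc).2.mul_right ((mem_coreStab.mp (hmemKc.mp hc).1).2 e₁ he₁).symm
    calc n * u * n⁻¹ = c * (k * u * k⁻¹) * c⁻¹ := by rw [hn]; group
      _ = u * e₁ := by rw [hke, hce.eq, mul_inv_cancel_right]
  -- the part of `P` fixing `y`
  have hsplit : ∀ g ∈ P, ∃ e ∈ E, Commute e (e⁻¹ * g) ∧ (e⁻¹ * g) • y = y := by
    intro g hg
    obtain ⟨hgK, hgu⟩ := hmemKc.mp (hPmax.2.1 hg)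
    have hgy : u • g • y = g • y := smul_fixed_of_commute hgu hy
    have hgx : g • y ≠ x := fun e => hyx (MulAction.injective g (e.trans (mem_coreStab.mp hgK).1.symm))
    obtain ⟨e, he, hey⟩ := hl.trans y (g • y) hy hgy hyx hgx
    exact ⟨e, he, ((Commute.refl e).inv_right).mul_right ((mem_coreStab.mp hgK).2 e he),
      by rw [mul_smul, ← hey, inv_smul_smul]⟩
  have hno : ∀ t ∈ P, t • y = y → t * t ≠ u := by
    intro t ht hty htt
    obtain ⟨e, he, hce, hey⟩ := hsplit (n * t * n⁻¹) (hnP t ht)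
    set t' := e⁻¹ * (n * t * n⁻¹) with ht'
    have h1 : n * t * n⁻¹ * (n * t * n⁻¹) = t' * t' := by
      have : n * t * n⁻¹ = e * t' := by rw [ht', mul_inv_cancel_left]
      rw [this, hce.symm.mul_mul_mul_comm, line2_mul_self hl h he, one_mul]
    have h2 : u * e₁ = t' * t' := by
      rw [← h1, ← hnu, ← htt]; group
    have h3 : (u * e₁) • y = y := by rw [h2, mul_smul, hey, hey]
    have h4 : e₁ • y = y := by
      rw [mul_smul] at h3
      exact MulAction.injective u (h3.trans hy.symm)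
    exact he₁1 (hl.free e₁ he₁ y hy hyx h4)
  have hfix : ∀ t ∈ P, t • y = y → t = 1 ∨ t = u := by
    intro t ht hty
    obtain ⟨hgK, hgu⟩ := hmemKc.mp (hPmax.2.1 ht)
    have key : ∀ s ∈ P, s • y = y → s * s = 1 → s = 1 ∨ s = u := by
      intro s hs hsy hss
      by_cases hs1 : s = 1
      · exact Or.inl hs1
      right
      obtain ⟨hsK, hsu⟩ := hmemKc.mp (hPmax.2.1 hs)
      exact (hP u s x y hu2 (orderOf_eq_prime (by rw [pow_two]; exact hss) hs1) hsu.symm hyx.symm hl.fix hy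
        (mem_coreStab.mp hsK).1 hsy).symm
    obtain ⟨j, hj⟩ := IsPGroup.iff_orderOf.mp hPmax.1 ⟨t, ht⟩
    rw [Subgroup.orderOf_mk] at hj
    by_cases hj1 : j ≤ 1
    · refine key t ht hty ?_
      have : orderOf t ∣ 2 := hj ▸ (by simpa using pow_dvd_pow 2 hj1)
      rw [← pow_two]
      exact orderOf_dvd_iff_pow_eq_one.mp this
    exfalso
    set s := t ^ 2 ^ (j - 2) with hs
    have hsy : s • y = y :=
      mem_stabilizer_iff.mp (pow_mem (mem_stabilizer_iff.mpr hty : t ∈ stabilizer G y) _)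
    have h4 : s * s * (s * s) = 1 := by
      rw [hs, ← pow_add, ← pow_add]
      refine orderOf_dvd_iff_pow_eq_one.mp (hj ▸ dvd_of_eq ?_)
      rw [show j = j - 2 + 2 by omega, pow_add]
      simp only [Nat.add_sub_cancel]
      ring
    have h2 : s * s ≠ 1 := fun e => by
      rw [hs, ← pow_add] at e
      have h5 := Nat.le_of_dvd (by positivity) (hj ▸ orderOf_dvd_of_pow_eq_one e)
      have h6 : 2 ^ (j - 2) + 2 ^ (j - 2) < 2 ^ j := by
        rw [← two_mul, ← pow_succ']
        exact Nat.pow_lt_pow_right (by norm_num) (by omega)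
      omega
    rcases key (s * s) (mul_mem (pow_mem ht _) (pow_mem ht _)) (by rw [mul_smul, hsy, hsy]) h4 with
      e | e
    · exact h2 e
    · exact hno s (pow_mem ht _) hsy e
  intro g hg
  obtain ⟨e, he, -, hey⟩ := hsplit g (hWP hg)
  rcases hfix _ (mul_mem (inv_mem (hEP he)) (hWP hg)) hey with h1 | h1
  · left
    rw [← (inv_mul_eq_one.mp h1)]; exact he
  · right
    have : g * u = e := by
      rw [show g = e * u by rw [← h1, mul_inv_cancel_left], mul_assoc, huu, mul_one]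
    rw [this]; exact he

/-- A `2`-subgroup of `C_H(E)` centralising a conjugate of `u` has at most `2 |E|` elements. -/
theorem card_le_of_centralizes {W : Subgroup G} (hW : IsPGroup 2 W) (hWK : W ≤ coreStab x E)
    {k : G} (hk : k ∈ coreStab x E) (hWu : ∀ g ∈ W, Commute g (k * u * k⁻¹)) :
    Nat.card W ≤ 2 * Nat.card E := by
  classical
  set W' := W.map (MulAut.conj k⁻¹).toMonoidHom with hW'
  have hsplit := two_group_split h hP hl hT (W := W') (hW.map _) (by
    rintro _ ⟨g, hg, rfl⟩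
    simp only [MulEquiv.coe_toMonoidHom, MulAut.conj_apply, inv_inv]
    exact mul_mem (mul_mem (inv_mem hk) (hWK hg)) hk) (by
    rintro _ ⟨g, hg, rfl⟩
    simp only [MulEquiv.coe_toMonoidHom, MulAut.conj_apply]
    have := H14.Asch.commute_conj (hWu g hg) k⁻¹
    simpa [mul_assoc] using this)
  rw [← Subgroup.card_map_of_injective (f := (MulAut.conj k⁻¹).toMonoidHom)
    (MulAut.conj k⁻¹).injective, ← hW']
  let f : W' → Bool × E := fun g =>
    if hg : (g : G) ∈ E then (true, ⟨g, hg⟩) else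
      (false, ⟨(g : G) * u, (hsplit g g.2).resolve_left hg⟩)
  have hf : Function.Injective f := by
    intro g g' e
    simp only [f] at e
    split_ifs at e with h1 h2 h2 <;> simp at e
    · exact e
    · exact e
  have := Nat.card_le_card_of_injective f hf
  rwa [Nat.card_prod, Nat.card_eq_fintype_card (α := Bool), Fintype.card_bool] at this

/-- The same bound for a conjugate of `u` at `x` under the whole group. -/
theorem card_le_of_centralizes_conj {W : Subgroup G} (hW : IsPGroup 2 W)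
    (hWK : W ≤ coreStab x E) (hEW : E ≤ W) {v : G} (hvx : v • x = x) {g₀ : G}
    (hv : g₀ * u * g₀⁻¹ = v) (hWv : ∀ g ∈ W, Commute g v) : Nat.card W ≤ 2 * Nat.card E := by
  haveI : Fact (Nat.Prime 2) := ⟨Nat.prime_two⟩
  obtain ⟨hu2, -, -⟩ := hl.bad
  -- a conjugation fixing `x`
  obtain ⟨a, hax, hau⟩ : ∃ a : G, a • x = x ∧ a * u * a⁻¹ = v := by
    have hfx : u • g₀⁻¹ • x = g₀⁻¹ • x := by
      rw [← hv, mul_smul, mul_smul] at hvx
      exact (inv_smul_eq_iff.mpr hvx.symm).symm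
    obtain ⟨c, hc, hcx⟩ := H1.Asch.exists_commute_smul h hu2 hl.fix hfx
    refine ⟨g₀ * c, by rw [mul_smul, hcx, smul_inv_smul], ?_⟩
    calc g₀ * c * u * (g₀ * c)⁻¹ = g₀ * (c * u * c⁻¹) * g₀⁻¹ := by group
      _ = v := by rw [H14.Asch.conj_eq_of_commute hc, hv]
  set W' := W.map (MulAut.conj a⁻¹).toMonoidHom with hW'
  have hW'u : ∀ g ∈ W', Commute g u := by
    rintro _ ⟨g, hg, rfl⟩
    have := H14.Asch.commute_conj (hWv g hg) a⁻¹
    rw [← hau] at this
    simpa [mul_assoc] using this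
  have hW'x : ∀ g ∈ W', g • x = x := by
    rintro _ ⟨g, hg, rfl⟩
    simp only [MulEquiv.coe_toMonoidHom, MulAut.conj_apply, inv_inv]
    rw [mul_smul, mul_smul, hax, (mem_coreStab.mp (hWK hg)).1, inv_smul_eq_iff, hax]
  obtain ⟨b, hb, hbE⟩ := h.exists_conj_members hl (hW.map _) hW'u hW'x
  have hbu : Commute b u := commute_of_mem_lineGroup hb.1
  have hbx : b • x = x := mem_stabilizer_iff.mp hb.2
  set t := b⁻¹ * a⁻¹ with ht
  set W'' := W.map (MulAut.conj t).toMonoidHom with hW''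
  -- `t` maps `E` onto `E`
  have htE : E.map (MulAut.conj t).toMonoidHom = E := by
    refine eq_of_le_of_card_ge ?_ (by
      rw [Subgroup.card_map_of_injective (f := (MulAut.conj t).toMonoidHom) (MulAut.conj t).injective])
    rintro _ ⟨e, he, rfl⟩
    by_cases he1 : e = 1
    · simp [he1]
    have := hbE (a⁻¹ * e * a⁻¹⁻¹) (h.conj_mem (line2_member hl he he1).1 _) ⟨e, hEW he, rfl⟩
    simp only [MulEquiv.coe_toMonoidHom, MulAut.conj_apply, ht]
    convert this using 1
    group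
  have := card_le_of_centralizes h hP hl hT (W := W'') (hW.map _) (by
    rintro _ ⟨g, hg, rfl⟩
    refine mem_coreStab.mpr ⟨?_, fun e he => ?_⟩
    · have hbx' : b⁻¹ • x = x := inv_smul_eq_iff.mpr hbx.symm
      simp only [MulEquiv.coe_toMonoidHom, MulAut.conj_apply, ht, mul_inv_rev, inv_inv]
      rw [mul_smul, mul_smul, mul_smul, mul_smul, hbx, hax, (mem_coreStab.mp (hWK hg)).1,
        inv_smul_eq_iff.mpr hax.symm, hbx']
    · rw [← htE] at he
      obtain ⟨e', he', rfl⟩ := he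
      exact H14.Asch.commute_conj ((mem_coreStab.mp (hWK hg)).2 e' he') t)
    (k := 1) (one_mem _) (by
    rintro _ ⟨g, hg, rfl⟩
    rw [one_mul, inv_one, mul_one]
    have h1 := H14.Asch.commute_conj (hWv g hg) t
    have h2 : t * v * t⁻¹ = u := by
      rw [ht, ← hau]
      calc b⁻¹ * a⁻¹ * (a * u * a⁻¹) * (b⁻¹ * a⁻¹)⁻¹ = b⁻¹ * u * b := by group
        _ = u := by rw [mul_assoc, ← hbu.eq, inv_mul_cancel_left]
    rw [h2] at h1
    exact h1)
  rwa [hW'', Subgroup.card_map_of_injective (f := (MulAut.conj t).toMonoidHom)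
    (MulAut.conj t).injective] at this

/-- The data of the end of P4 for `Q = E`. -/
structure ShapeOneChain (D : Set G) (u : G) (x : Ω) (E R A : Subgroup G) : Prop where
  maxTwo : MaxTwo (coreStab x E) R
  torus : TorusData R E A u
  torus_fix : ∀ a ∈ A, a • x = x
  no_conj : ∀ g : G, g * u * g⁻¹ ∉ ⁅R, A⁆

/-- A candidate for the climb. -/
def Climbs (u : G) (x : Ω) (E M : Subgroup G) (a w : G) : Prop :=
  IsPGroup 2 M ∧ E ≤ M ∧ M ≤ coreStab x E ∧ w ∈ M ∧
    (∃ k ∈ coreStab x E, k * u * k⁻¹ = w) ∧ Odd (orderOf a) ∧ a • x = x ∧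
    a ∈ normalizer (M : Set G) ∧ a ∈ normalizer (E : Set G) ∧ Commute a w ∧
    ∀ e ∈ E, e ≠ 1 → ∀ e' ∈ E, e' ≠ 1 → ∃ c ∈ zpowers a, c * e * c⁻¹ = e'

theorem climb_torusData {M : Subgroup G} {a w : G} (hc : Climbs u x E M a w) :
    TorusData M E (zpowers a) w := by
  obtain ⟨hM, hEM, hMK, hwM, ⟨k, hk, hkw⟩, hodd, hax, haM, haE, haw, htr⟩ := hc
  obtain ⟨hu2, -, -⟩ := hl.bad
  have huu := mul_self_of_orderOf_eq_two hu2
  refine
    { two := hM
      u_mem := hwM
      sq_u := by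
        rw [← hkw, show k * u * k⁻¹ * (k * u * k⁻¹) = k * (u * u) * k⁻¹ by group, huu]; group
      u_notMem := fun hw => notMem_line h hl (by
        have : u = w := by
          have hkc : Commute k w := ((mem_coreStab.mp hk).2 w hw).symm
          calc u = k⁻¹ * (k * u * k⁻¹) * k := by group
            _ = w := by rw [hkw, mul_assoc, ← hkc.eq, inv_mul_cancel_left]
        rwa [this])
      comm := fun c d => Subtype.ext (by
        obtain ⟨i, hi⟩ := mem_zpowers_iff.mp c.2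
        obtain ⟨j, hj⟩ := mem_zpowers_iff.mp d.2
        push_cast
        rw [← hi, ← hj, ← zpow_add, ← zpow_add, add_comm])
      odd := by rw [Nat.card_zpowers]; exact hodd
      fix := fun c hc => by
        obtain ⟨i, rfl⟩ := mem_zpowers_iff.mp hc
        rw [(haw.zpow_left i).eq, mul_inv_cancel_right]
      normM := zpowers_le.mpr haM
      normE := zpowers_le.mpr haE
      le := hEM
      central := fun e he g hg => (mem_coreStab.mp (hMK hg)).2 e he
      sq := fun e he => line2_mul_self hl h he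
      four_le := hl.four_le
      trans := htr
      cent := fun g hg hgw => ?_ }
  have hW := two_group_split h hP hl hT (W := zpowers (k⁻¹ * g * k))
    ((hM.to_le (zpowers_le.mpr hg)).map (MulAut.conj k⁻¹).toMonoidHom |>.to_le (by
      rw [MonoidHom.map_zpowers]; simp [mul_assoc]))
    (zpowers_le.mpr (mul_mem (mul_mem (inv_mem hk) (hMK hg)) hk))
    (fun y hy => by
      obtain ⟨i, rfl⟩ := mem_zpowers_iff.mp hy
      refine Commute.zpow_left ?_ i
      have h1 := H14.Asch.commute_conj hgw k⁻¹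
      rw [← hkw] at h1
      simpa [mul_assoc] using h1) _ (mem_zpowers _)
  have hconj : ∀ {e}, e ∈ E → k * e * k⁻¹ = e := fun {e} he => by
    rw [← ((mem_coreStab.mp hk).2 e he).eq, mul_inv_cancel_right]
  rcases hW with h1 | h1
  · left
    have h2 := hconj h1
    rw [show k * (k⁻¹ * g * k) * k⁻¹ = g by group] at h2
    rwa [h2]
  · right
    have h2 := hconj h1
    rw [show k * (k⁻¹ * g * k * u) * k⁻¹ = g * (k * u * k⁻¹) by group, hkw] at h2
    rwa [h2]

theorem climb_no_conj {M : Subgroup G} {a w : G} (hc : Climbs u x E M a w) (g : G) :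
    g * u * g⁻¹ ∉ ⁅M, zpowers a⁆ := by
  intro hv
  have htd := climb_torusData h hP hl hT hc
  obtain ⟨hM, hEM, hMK, hwM, -⟩ := hc
  obtain ⟨hu2, ⟨p, q, hpq, hp, hq⟩, -⟩ := hl.bad
  have hvM : g * u * g⁻¹ ∈ M := htd.commutator_le hv
  have hvE : g * u * g⁻¹ ∉ E := fun he => by
    have hne : g * u * g⁻¹ ≠ 1 := fun e => by
      rw [conj_eq_one_iff] at e
      exact ne_one_of_orderOf_eq_two hu2 e
    have hd := (line2_member hl he hne).1
    exact hpq (MulAction.injective g (h.eq_of_fixed hd (H73.Bender.conj_smul_of_smul hp)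
      (H73.Bender.conj_smul_of_smul hq)))
  refine htd.not_small_centralizer hv hvE ?_
  refine card_le_of_centralizes_conj h hP hl hT ((hM.to_le htd.commutator_le).to_le inf_le_left)
    (inf_le_left.trans (htd.commutator_le.trans hMK)) ?_ (mem_coreStab.mp (hMK hvM)).1 rfl
    fun y hy => mem_centralizer_singleton_iff.mp hy.2
  exact fun e he => ⟨htd.le_commutator he,
    mem_centralizer_singleton_iff.mpr ((mem_coreStab.mp (hMK hvM)).2 e he).eq⟩

/-- `a` acts on `E` as `b`. -/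
def SameAct (E : Subgroup G) (a b : G) : Prop := ∀ e ∈ E, a * e * a⁻¹ = b * e * b⁻¹

/-- The torus generator at a second fixed point. -/
theorem exists_climb_start {y : Ω} (hy : u • y = y) (hyx : y ≠ x) :
    ∃ M a, Climbs u x E M a u ∧ a ∈ lineGroup D u ⊓ pairStab G x y := by
  obtain ⟨hu2, -, -⟩ := hl.bad
  obtain ⟨A, hA, hAodd, hAn, hAc, htr, -, -⟩ := hl.torus y hy hyx ⊥ IsPGroup.of_bot bot_le
    (fun e _ t ht => by rw [mem_bot.mp ht]; exact Commute.one_right e) bot_le
  obtain ⟨⟨a, haA⟩, ha⟩ := hAc.exists_generator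
  have hgen : zpowers a = A := le_antisymm (zpowers_le.mpr haA) fun c hc => by
    obtain ⟨i, hi⟩ := mem_zpowers_iff.mp (ha ⟨c, hc⟩)
    exact ⟨i, congrArg Subtype.val hi⟩
  have hau : Commute a u := commute_of_mem_lineGroup (hA haA).1
  have hax : a • x = x := (mem_pairStab.mp (hA haA).2).1
  have hodd : Odd (orderOf a) := hAodd.of_dvd_nat (Subgroup.orderOf_dvd_natCard A haA)
  have haE : a ∈ normalizer (E : Set G) := hAn haA
  refine ⟨E ⊔ zpowers u, a, ⟨?_, le_sup_left, sup_le (line_le_coreStab h hl)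
    (zpowers_le.mpr (mem_coreStab_self h hl)), mem_sup_right (mem_zpowers u),
    ⟨1, one_mem _, by group⟩, hodd, hax, ?_, haE, hau,
    hgen ▸ fun e he he1 e' he' he'1 => htr e he e' he' he1 he'1⟩, hA haA⟩
  · refine hl.isPGroup.to_sup_of_normal_left' (IsPGroup.of_card (n := 1)
      (by rw [Nat.card_zpowers, hu2]; rfl)) (zpowers_le.mpr ?_)
    refine mem_normalizer_iff.mpr fun e => ?_
    have hue : ∀ {f}, f ∈ E → u * f * u⁻¹ = f := fun {f} hf => by
      rw [← (line2_commute hl hf).eq, mul_inv_cancel_right]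
    constructor
    · intro he; rwa [hue he]
    · intro he
      rwa [mul_left_cancel (mul_right_cancel (hue he))] at he
  · have hu' : ∀ b ∈ zpowers u, a * b * a⁻¹ = b := fun b hb => by
      obtain ⟨i, rfl⟩ := mem_zpowers_iff.mp hb
      rw [(hau.zpow_right i).eq, mul_inv_cancel_right]
    refine Coprime.mem_normalizer_of_map_conj ?_
    rw [Subgroup.map_sup, Coprime.map_conj_eq haE]
    congr 1
    rw [MonoidHom.map_zpowers]
    congr 1
    simpa using hu' u (mem_zpowers u)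

omit [Finite Ω] h hP hl hT in
/-- An element fixing `x` and normalising `E` normalises `coreStab x E`. -/
theorem conj_mem_coreStab {c : G} (hcx : c • x = x) (hcE : c ∈ normalizer (E : Set G)) {g : G}
    (hg : g ∈ coreStab x E) : c * g * c⁻¹ ∈ coreStab x E := by
  refine mem_coreStab.mpr ⟨?_, fun e he => ?_⟩
  · rw [mul_smul, mul_smul, inv_smul_eq_iff.mpr hcx.symm, (mem_coreStab.mp hg).1, hcx]
  · have he' : c⁻¹ * e * c ∈ E := by
      have := (mem_normalizer_iff.mp (inv_mem hcE) e).mp he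
      rwa [inv_inv] at this
    have h1 := commute_conj ((mem_coreStab.mp hg).2 _ he') c
    rwa [show c * (c⁻¹ * e * c) * c⁻¹ = e by group] at h1

omit [Finite Ω] h hP hl hT in
/-- A class of conjugates under a normalised subgroup is preserved by powers. -/
theorem exists_conj_pow {K : Subgroup G} {b w : G} (hb : ∀ k ∈ K, b * k * b⁻¹ ∈ K)
    {l : G} (hl : l ∈ K) (hbw : b * w * b⁻¹ = l * w * l⁻¹) :
    ∀ n : ℕ, ∀ k ∈ K, ∃ k' ∈ K, b ^ n * (k * w * k⁻¹) * (b ^ n)⁻¹ = k' * w * k'⁻¹ := by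
  intro n
  induction n with
  | zero => exact fun k hk => ⟨k, hk, by group⟩
  | succ n ih =>
    intro k hk
    obtain ⟨k', hk', he⟩ := ih k hk
    refine ⟨b * k' * b⁻¹ * l, mul_mem (hb k' hk') hl, ?_⟩
    calc b ^ (n + 1) * (k * w * k⁻¹) * (b ^ (n + 1))⁻¹
        = b * (b ^ n * (k * w * k⁻¹) * (b ^ n)⁻¹) * b⁻¹ := by rw [pow_succ']; group
      _ = (b * k' * b⁻¹) * (b * w * b⁻¹) * (b * k' * b⁻¹)⁻¹ := by rw [he]; group
      _ = _ := by rw [hbw]; group

/-- Above a candidate which is not a maximal `2`-subgroup of `C_H(E)` there is a larger one. -/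
theorem exists_climb_gt {M : Subgroup G} {a w : G} (hc : Climbs u x E M a w)
    (hM : ¬ MaxTwo (coreStab x E) M) :
    ∃ M' a' w', M < M' ∧ Climbs u x E M' a' w' ∧ ∃ n : ℕ, SameAct E a' (a ^ n) := by
  classical
  haveI : Fact (Nat.Prime 2) := ⟨Nat.prime_two⟩
  have htd := climb_torusData h hP hl hT hc
  have hno := climb_no_conj h hP hl hT hc
  obtain ⟨hM2, hEM, hMK, hwM, ⟨k0, hk0, hkw⟩, hodd, hax, haM, haE, haw, htr⟩ := hc
  obtain ⟨P, hMP, hPmax⟩ := exists_maxTwo_ge hM2 hMK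
  have hne : M.subgroupOf P ≠ ⊤ := fun e => hM
    ((le_antisymm hMP (subgroupOf_eq_top.mp e)) ▸ hPmax)
  obtain ⟨g, hg, hgn⟩ := SetLike.exists_of_lt (PGroups.lt_normalizer hPmax.1 hne)
  set L := coreStab x E ⊓ normalizer (M : Set G) with hL
  have hgN : (g : G) ∈ normalizer (M : Set G) := by
    refine mem_normalizer_iff.mpr fun y => ?_
    constructor
    · intro hy
      exact (mem_normalizer_iff.mp hg ⟨y, hMP hy⟩).mp hy
    · intro hy
      have h1 := (mem_normalizer_iff.mp (inv_mem hg) ⟨_, hMP hy⟩).mp hy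
      have h2 : (g : G)⁻¹ * ((g : G) * y * (g : G)⁻¹) * (g : G)⁻¹⁻¹ ∈ M := h1
      rwa [show (g : G)⁻¹ * ((g : G) * y * (g : G)⁻¹) * (g : G)⁻¹⁻¹ = y by group] at h2
  obtain ⟨P₁, hP₁, hP₁max⟩ := exists_maxTwo_ge (K := L) (W := P ⊓ normalizer (M : Set G))
    (hPmax.1.to_le inf_le_left) fun y hy => ⟨hPmax.2.1 hy.1, hy.2⟩
  have hMP₁ : M < P₁ := lt_of_le_of_ne (le_trans (le_inf hMP le_normalizer) hP₁) fun e =>
    hgn (show (g : G) ∈ M from e ▸ hP₁ ⟨g.2, hgN⟩)
  -- a torus generator normalising `P₁`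
  have haK : ∀ {y}, y ∈ coreStab x E → a * y * a⁻¹ ∈ coreStab x E :=
    fun hy => conj_mem_coreStab hax haE hy
  have ha' : a⁻¹ • x = x := inv_smul_eq_iff.mpr hax.symm
  have hmap : MaxTwo L (P₁.map (MulAut.conj a).toMonoidHom) := by
    refine ⟨hP₁max.1.map _, ?_, fun P' h1 h2 h3 => ?_⟩
    · rintro _ ⟨y, hy, rfl⟩
      exact Subgroup.mem_inf.mpr ⟨haK (hP₁max.2.1 hy).1, mul_mem
        (mul_mem haM (show y ∈ normalizer (M : Set G) from (hP₁max.2.1 hy).2)) (inv_mem haM)⟩
    · have h4 := hP₁max.2.2 (P'.map (MulAut.conj a⁻¹).toMonoidHom) (h1.map _) (by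
        rintro _ ⟨y, hy, rfl⟩
        exact Subgroup.mem_inf.mpr ⟨conj_mem_coreStab ha' (inv_mem haE) (h2 hy).1,
          mul_mem (mul_mem (inv_mem haM) (show y ∈ normalizer (M : Set G) from (h2 hy).2))
            (inv_mem (inv_mem haM))⟩) (by
        intro y hy
        refine ⟨a * y * a⁻¹, h3 ⟨y, hy, rfl⟩, ?_⟩
        simp [mul_assoc])
      rw [← h4, Subgroup.map_map]
      convert (Subgroup.map_id P').symm using 2
      ext y; simp [mul_assoc]
  obtain ⟨l, hl', hlP⟩ := hmap.exists_conj hP₁max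
  set b0 := l * a with hb0
  have hlK : l ∈ coreStab x E := hl'.1
  have hb0P : b0 ∈ normalizer (P₁ : Set G) := Coprime.mem_normalizer_of_map_conj <|
    eq_of_le_of_card_ge (by
      rintro _ ⟨y, hy, rfl⟩
      have h1 := (hlP (a * y * a⁻¹)).mp ⟨y, hy, rfl⟩
      show b0 * y * b0⁻¹ ∈ P₁
      convert h1 using 1
      rw [hb0]; group) (by
      rw [Subgroup.card_map_of_injective (f := (MulAut.conj b0).toMonoidHom) (MulAut.conj b0).injective])
  have hb0M : b0 ∈ normalizer (M : Set G) := mul_mem hl'.2 haM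
  have hcK : ∀ {c}, c ∈ coreStab x E → c ∈ normalizer (E : Set G) := fun {c} hc' => by
    refine mem_normalizer_iff.mpr fun e => ⟨fun he => ?_, fun he => ?_⟩
    · rwa [← ((mem_coreStab.mp hc').2 e he).eq, mul_inv_cancel_right]
    · have h1 := ((mem_coreStab.mp hc').2 _ he).eq
      have h2 : c * e * c⁻¹ = e := by
        have h3 : c * e * c⁻¹ * c = c * e := by group
        rw [h3] at h1
        exact (mul_left_cancel h1).symm
      rwa [h2] at he
  have hb0E : b0 ∈ normalizer (E : Set G) := mul_mem (hcK hlK) haE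
  have hb0x : b0 • x = x := by rw [hb0, mul_smul, hax, (mem_coreStab.mp hlK).1]
  have haEmem : ∀ e ∈ E, a * e * a⁻¹ ∈ E := fun e he => (mem_normalizer_iff.mp haE e).mp he
  have hb0act : ∀ e ∈ E, a * e * a⁻¹ = b0 * e * b0⁻¹ := fun e he => by
    rw [hb0, show l * a * e * (l * a)⁻¹ = l * (a * e * a⁻¹) * l⁻¹ by group,
      ← ((mem_coreStab.mp hlK).2 _ (haEmem e he)).eq, mul_inv_cancel_right]
  obtain ⟨v, hv⟩ := exists_odd_pow b0
  set b := b0 ^ (2 ^ v) with hb
  have hbtr := trans_of_same_action hodd haEmem hb0act htr v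
  rw [← hb] at hbtr
  have hbx : b • x = x := mem_stabilizer_iff.mp (pow_mem (mem_stabilizer_iff.mpr hb0x : b0 ∈ stabilizer G x) _)
  have hbE : b ∈ normalizer (E : Set G) := pow_mem hb0E _
  have hbfree : ∀ e ∈ E, b * e * b⁻¹ = e → e = 1 := by
    intro e he hfix
    by_contra he1
    have hbe : Commute b e := mul_inv_eq_iff_eq_mul.mp hfix
    have hall : ∀ e' ∈ E, e' ≠ 1 → e' = e := fun e' he' he'1 => by
      obtain ⟨c, hc', hce⟩ := hbtr e he he1 e' he' he'1
      obtain ⟨i, rfl⟩ := mem_zpowers_iff.mp hc'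
      rw [← hce, (hbe.zpow_left i).eq, mul_inv_cancel_right]
    have hcard : Nat.card E ≤ 2 := by
      refine le_trans (Nat.card_le_card_of_injective
        (fun y : E => decide ((y : G) = 1)) fun y y' hy => ?_) (by simp)
      by_cases hy1 : (y : G) = 1
      · simp only [hy1, decide_true] at hy
        exact Subtype.ext (hy1.trans (of_decide_eq_true hy.symm).symm)
      · simp only [hy1, decide_false] at hy
        exact Subtype.ext ((hall y y.2 hy1).trans
          (hall y' y'.2 (of_decide_eq_false hy.symm)).symm)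
    have := hl.four_le
    omega
  have hw : ∀ k, k * w * k⁻¹ = k * k0 * u * (k * k0)⁻¹ := fun k => by rw [← hkw]; group
  obtain ⟨m, hm, k, hk, hkM, hmb⟩ := htd.exists_fixing hMK
    (fun k hk _ => card_le_of_centralizes h hP hl hT (hM2.to_le inf_le_left) (inf_le_left.trans hMK)
      (mul_mem hk hk0) fun y hy => (hw k) ▸ mem_centralizer_singleton_iff.mp hy.2)
    (fun c hc' k hk => by
      have hcx : c • x = x := mem_stabilizer_iff.mp
        ((zpowers_le.mpr (mem_stabilizer_iff.mpr hax : a ∈ stabilizer G x)) hc')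
      refine ⟨c * k * c⁻¹, conj_mem_coreStab hcx (htd.normE hc') hk, ?_⟩
      calc c * (k * w * k⁻¹) * c⁻¹ = c * k * c⁻¹ * (c * w * c⁻¹) * (c * k * c⁻¹)⁻¹ := by group
        _ = _ := by rw [htd.fix c hc'])
    (fun k _ => hw k ▸ hno (k * k0)) b (pow_mem hb0M _) hbE hv hbfree
    (exists_conj_pow (fun k hk => conj_mem_coreStab hb0x hb0E hk) hlK (by
      rw [hb0, show l * a * w * (l * a)⁻¹ = l * (a * w * a⁻¹) * l⁻¹ by group, haw.eq,
        mul_inv_cancel_right]) _)
  set b1 := m * b with hb1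
  have hmK : m ∈ coreStab x E := hMK hm
  have hb1act : ∀ e ∈ E, b * e * b⁻¹ = b1 * e * b1⁻¹ := fun e he => by
    rw [hb1, show m * b * e * (m * b)⁻¹ = m * (b * e * b⁻¹) * m⁻¹ by group,
      ← ((mem_coreStab.mp hmK).2 _ ((mem_normalizer_iff.mp hbE e).mp he)).eq, mul_inv_cancel_right]
  obtain ⟨v', hv'⟩ := exists_odd_pow b1
  have hb1x : b1 • x = x := by rw [hb1, mul_smul, hbx, (mem_coreStab.mp hmK).1]
  refine ⟨P₁, b1 ^ (2 ^ v'), k * w * k⁻¹, hMP₁, ⟨hP₁max.1, hEM.trans hMP₁.le,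
    hP₁max.2.1.trans inf_le_left, hMP₁.le hkM, ⟨k * k0, mul_mem hk hk0, (hw k).symm⟩, hv', ?_, ?_,
    pow_mem (mul_mem (hcK hmK) hbE) _, hmb.pow_left _, ?_⟩, 2 ^ v * 2 ^ v', fun e he => ?_⟩
  · exact mem_stabilizer_iff.mp
      (pow_mem (mem_stabilizer_iff.mpr hb1x : b1 ∈ stabilizer G x) _)
  · exact pow_mem (mul_mem (le_normalizer (hMP₁.le hm)) (pow_mem hb0P _)) _
  · exact trans_of_same_action hv (fun e he => (mem_normalizer_iff.mp hbE e).mp he) hb1act hbtr v'
  · rw [← (conj_pow_eq_of_conj_eq hb1act (fun e he => (mem_normalizer_iff.mp hbE e).mp he) _ e he).1,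
      hb, ← pow_mul, ← (conj_pow_eq_of_conj_eq hb0act haEmem _ e he).1]

/-- The chain exists, with a torus acting on `E` as a power of one in `lineGroup D u`. -/
theorem exists_chain_acts {y : Ω} (hy : u • y = y) (hyx : y ≠ x) :
    ∃ R a, MaxTwo (coreStab x E) R ∧ Climbs u x E R a u ∧
      ∃ a0 ∈ lineGroup D u ⊓ pairStab G x y, a0 ∈ normalizer (E : Set G) ∧
        ∃ n : ℕ, SameAct E a (a0 ^ n) := by
  classical
  obtain ⟨M0, a0, hc0, ha0⟩ := exists_climb_start h hP hl hT hy hyx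
  have ha0E := hc0.2.2.2.2.2.2.2.2.1
  obtain ⟨M, ⟨a, w, n, hc, hn⟩, hmax⟩ := Set.Finite.exists_maximalFor id
    {M : Subgroup G | ∃ a w, ∃ n : ℕ, Climbs u x E M a w ∧ SameAct E a (a0 ^ n)} (Set.toFinite _)
    ⟨M0, a0, u, 1, hc0, fun e _ => by rw [pow_one]⟩
  have hMmax : MaxTwo (coreStab x E) M := by
    by_contra hn'
    obtain ⟨M', a', w', hlt, hc', m, hm⟩ := exists_climb_gt h hP hl hT hc hn'
    refine hlt.not_ge (hmax ⟨a', w', n * m, hc', fun e he => ?_⟩ hlt.le)
    rw [hm e he, pow_mul, (conj_pow_eq_of_conj_eq hn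
      (fun f hf => (mem_normalizer_iff.mp hc.2.2.2.2.2.2.2.2.1 f).mp hf) m e he).1]
  obtain ⟨hM2, hEM, hMK, hwM, ⟨k, hk, hkw⟩, hodd, hax, haM, haE, haw, htr⟩ := hc
  set f := (MulAut.conj k⁻¹).toMonoidHom with hf
  have hfinj : Function.Injective f := (MulAut.conj k⁻¹).injective
  have hf' : ∀ y, f y = k⁻¹ * y * k := fun y => by simp [hf]
  set a' := k⁻¹ * a * k with ha'
  have hkx : k • x = x := (mem_coreStab.mp hk).1
  have hkx' : k⁻¹ • x = x := inv_smul_eq_iff.mpr hkx.symm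
  have hfix : ∀ e ∈ E, f e = e := fun e he => by
    rw [hf', mul_assoc, ((mem_coreStab.mp hk).2 e he).eq, inv_mul_cancel_left]
  have hEmap : E.map f = E := le_antisymm
    (by rintro _ ⟨e, he, rfl⟩; rwa [hfix e he]) (fun e he => ⟨e, he, hfix e he⟩)
  have hnorm : ∀ {S : Subgroup G}, a ∈ normalizer (S : Set G) →
      a' ∈ normalizer ((S.map f : Subgroup G) : Set G) := by
    intro S hS
    have h1 : f a ∈ normalizer ((S.map f : Subgroup G) : Set G) :=
      le_normalizer_map f ⟨a, hS, rfl⟩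
    rwa [hf'] at h1
  have hc' : Climbs u x E (M.map f) a' u := by
    refine ⟨hM2.map _, hEmap ▸ map_mono hEM, ?_, ⟨w, hwM, ?_⟩, ⟨1, one_mem _, by group⟩, ?_, ?_,
      hnorm haM, hEmap ▸ hnorm haE, ?_, ?_⟩
    · rintro _ ⟨y, hy, rfl⟩
      rw [hf']
      exact mul_mem (mul_mem (inv_mem hk) (hMK hy)) hk
    · rw [hf', ← hkw]; group
    · rw [ha', ← hf', orderOf_injective f hfinj a]; exact hodd
    · rw [ha', mul_smul, mul_smul, hkx, hax, hkx']
    · have h1 := commute_conj haw k⁻¹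
      rw [inv_inv, ← hkw, show k⁻¹ * (k * u * k⁻¹) * k = u by group] at h1
      exact h1
    · intro e he he1 e' he' he'1
      obtain ⟨c, hc1, hce⟩ := htr e he he1 e' he' he'1
      refine ⟨f c, by rw [ha', ← hf', ← MonoidHom.map_zpowers]; exact ⟨c, hc1, rfl⟩, ?_⟩
      rw [← hfix e he, ← map_inv, ← map_mul, ← map_mul, hce, hfix e' he']
  refine ⟨M.map f, a', ⟨hc'.1, hc'.2.2.1, fun P' h1 h2 h3 => ?_⟩, hc', a0, ha0, ha0E, n,
    fun e he => ?_⟩
  · have h4 := hMmax.2.2 (P'.map (MulAut.conj k).toMonoidHom) (h1.map _) (by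
      rintro _ ⟨z, hz, rfl⟩
      exact mul_mem (mul_mem hk (h2 hz)) (inv_mem hk)) (by
      intro z hz
      refine ⟨f z, h3 ⟨z, hz, rfl⟩, ?_⟩
      simp [hf, mul_assoc])
    rw [← h4, Subgroup.map_map]
    convert (Subgroup.map_id P').symm using 2
    ext z; simp [hf, mul_assoc]
  · have h1 : f (a * e * a⁻¹) = a * e * a⁻¹ := hfix _ ((mem_normalizer_iff.mp haE e).mp he)
    rw [map_mul, map_mul, map_inv, hfix e he, hf'] at h1
    rw [← hn e he, ← h1]

/-- The chain of a candidate. -/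
theorem shapeOneChain_of_climbs {R : Subgroup G} {a : G} (hR : MaxTwo (coreStab x E) R)
    (hc : Climbs u x E R a u) : ShapeOneChain D u x E R (zpowers a) :=
  ⟨hR, climb_torusData h hP hl hT hc, fun _ hc1 => mem_stabilizer_iff.mp
    ((zpowers_le.mpr (mem_stabilizer_iff.mpr hc.2.2.2.2.2.2.1 : a ∈ stabilizer G x)) hc1),
    climb_no_conj h hP hl hT hc⟩

/-- The chain exists. -/
theorem exists_chain : ∃ R A : Subgroup G, ShapeOneChain D u x E R A := by
  obtain ⟨-, ⟨p, q, hpq, hp, hq⟩, -⟩ := hl.bad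
  obtain ⟨y, hyx, hy⟩ : ∃ y, y ≠ x ∧ u • y = y := by
    by_cases hpx : p = x
    · exact ⟨q, fun hqx => hpq (hpx.trans hqx.symm), hq⟩
    · exact ⟨p, hpx, hp⟩
  obtain ⟨R, a, hR, hc, -⟩ := exists_chain_acts h hP hl hT hy hyx
  exact ⟨R, _, shapeOneChain_of_climbs h hP hl hT hR hc⟩

/-- A `2`-element of `C_H(E)` centralising `u` and fixing a second fixed point is a power of `u`. -/
theorem mem_zpowers_of_fix {y : Ω} (hy : u • y = y) (hyx : y ≠ x) {t : G} (ht : t ∈ coreStab x E)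
    (htu : Commute t u) (hty : t • y = y) (ht2 : IsPGroup 2 (zpowers t)) : t ∈ zpowers u := by
  rcases two_group_split h hP hl hT ht2 (zpowers_le.mpr ht) (fun g hg => by
    obtain ⟨i, rfl⟩ := mem_zpowers_iff.mp hg
    exact htu.zpow_left i) t (mem_zpowers t) with h1 | h1
  · rw [hl.free t h1 y hy hyx hty]; exact one_mem _
  · have h2 := hl.free _ h1 y hy hyx (by rw [mul_smul, hy, hty])
    rw [eq_inv_of_mul_eq_one_left h2]
    exact inv_mem (mem_zpowers u)

namespace ShapeOneChain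

variable {R A : Subgroup G} (c : ShapeOneChain D u x E R A)
include c

/-- The elements of `C_H(E)` normalising `R` normalise `⁅R, A⁆`. -/
theorem mem_normalizer_commutator {k : G} (hk : k ∈ coreStab x E)
    (hkR : k ∈ normalizer (R : Set G)) : k ∈ normalizer ((⁅R, A⁆ : Subgroup G) : Set G) := by
  classical
  haveI : Fact (Nat.Prime 2) := ⟨Nat.prime_two⟩
  have htd := c.torus
  have hRK := c.maxTwo.2.1
  have hleft : R ≤ normalizer ((⁅R, A⁆ : Subgroup G) : Set G) := normalizer_commutator_ge_left R A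
  have hbase : Nat.card (R ⊓ centralizer {u} : Subgroup G) ≤ 2 * Nat.card E :=
    htd.card_centralized_le le_rfl
  by_cases hex : ∃ k1 ∈ coreStab x E, k1 * u * k1⁻¹ ∈ R ∧ k1 * u * k1⁻¹ * u ∉ nxt R R
  · obtain ⟨k1, hk1, hk1R, hk1N⟩ := hex
    have hall := htd.forall_exists_conj hRK
      (fun k' hk' _ => card_le_of_centralizes h hP hl hT (htd.two.to_le inf_le_left)
        (inf_le_left.trans hRK) hk' fun y hy => mem_centralizer_singleton_iff.mp hy.2)
      (fun a ha k' hk' => ⟨a * k' * a⁻¹, conj_mem_coreStab (c.torus_fix a ha) (htd.normE ha) hk', by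
        calc a * (k' * u * k'⁻¹) * a⁻¹ = a * k' * a⁻¹ * (a * u * a⁻¹) * (a * k' * a⁻¹)⁻¹ := by group
          _ = _ := by rw [htd.fix a ha]⟩)
      (fun k' _ => c.no_conj k') hk1 hk1R hk1N
    refine Coprime.mem_normalizer_of_map_conj (eq_of_le_of_card_ge ?_ (by
      rw [Subgroup.card_map_of_injective (f := (MulAut.conj k).toMonoidHom) (MulAut.conj k).injective]))
    rintro _ ⟨y, hy, rfl⟩
    show k * y * k⁻¹ ∈ ⁅R, A⁆
    obtain ⟨k', -, he⟩ := hall y hy
    have h1 : k * (y * u) * k⁻¹ * u ∈ ⁅R, A⁆ := (htd.mem_or_mul_mem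
      ((mem_normalizer_iff.mp hkR _).mp (R.mul_mem (htd.commutator_le hy) htd.u_mem))).resolve_left
      (by rw [he, show k * (k' * u * k'⁻¹) * k⁻¹ = k * k' * u * (k * k')⁻¹ by group]; exact c.no_conj _)
    have h2 : k * u * k⁻¹ * u ∈ ⁅R, A⁆ := (htd.mem_or_mul_mem
      ((mem_normalizer_iff.mp hkR _).mp htd.u_mem)).resolve_left (c.no_conj k)
    have h3 := mul_mem h1 (inv_mem h2)
    rwa [show k * (y * u) * k⁻¹ * u * (k * u * k⁻¹ * u)⁻¹ = k * y * k⁻¹ by group] at h3
  push Not at hex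
  have hkuR : k * u * k⁻¹ ∈ R := (mem_normalizer_iff.mp hkR _).mp htd.u_mem
  obtain ⟨g, hg, hgu⟩ := htd.exists_conj_of_mem htd.u_mem hbase (hex k hk hkuR)
  rw [mul_assoc (k * u * k⁻¹), htd.sq_u, mul_one] at hgu
  set k' := g⁻¹ * k with hk'
  suffices k' ∈ normalizer ((⁅R, A⁆ : Subgroup G) : Set G) by
    have h1 := mul_mem (hleft hg) this
    rwa [hk', mul_inv_cancel_left] at h1
  have hk'K : k' ∈ coreStab x E := mul_mem (inv_mem (hRK hg)) hk
  have hk'R : k' ∈ normalizer (R : Set G) := mul_mem (inv_mem (le_normalizer hg)) hkR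
  have hk'u : Commute k' u := by
    refine mul_inv_eq_iff_eq_mul.mp ?_
    rw [hk', show g⁻¹ * k * u * (g⁻¹ * k)⁻¹ = g⁻¹ * (k * u * k⁻¹) * g by group, ← hgu]
    group
  set d := orderOf k' with hd
  set v := d.factorization 2 with hv
  have hdiv : 2 ^ v ∣ d := Nat.ordProj_dvd _ _
  have hdm : ¬ 2 ∣ d / 2 ^ v := Nat.not_dvd_ordCompl Nat.prime_two (orderOf_pos k').ne'
  set o := k' ^ (2 ^ v) with ho
  set t := k' ^ (d / 2 ^ v) with ht
  -- the `2`-part lies in `R`
  have htR : t ∈ R := by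
    have ht2 : IsPGroup 2 (zpowers t) := by
      intro y
      refine ⟨v, Subtype.ext ?_⟩
      obtain ⟨i, hi⟩ := mem_zpowers_iff.mp y.2
      push_cast
      rw [← hi, ← zpow_natCast (t ^ i) (2 ^ v), ← zpow_mul, mul_comm, zpow_mul, zpow_natCast, ht,
        ← pow_mul, Nat.div_mul_cancel hdiv, hd, pow_orderOf_eq_one, one_zpow]
    have h1 := c.maxTwo.2.2 (R ⊔ zpowers t)
      (htd.two.to_sup_of_normal_left' ht2 (zpowers_le.mpr (pow_mem hk'R _)))
      (sup_le hRK (zpowers_le.mpr (pow_mem hk'K _))) le_sup_left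
    rw [← h1]
    exact mem_sup_right (mem_zpowers t)
  -- the odd part centralises `R`
  have hoR : o ∈ centralizer (R : Set G) := by
    have hodd : Nat.Coprime (orderOf o) 2 := by
      rw [ho, orderOf_pow' k' (by positivity), Nat.gcd_eq_right hdiv]
      exact (Nat.prime_two.coprime_iff_not_dvd.mpr hdm).symm
    have hou : Commute o u := hk'u.pow_left _
    refine Coprime.thompson_AxB (P := zpowers u) (Q := zpowers o) htd.isPGroup_zpowers_u
      (by rwa [Nat.card_zpowers]) ?_ R htd.two ((zpowers_le.mpr htd.u_mem).trans le_normalizer)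
      (zpowers_le.mpr (pow_mem hk'R _)) ?_ (mem_zpowers o)
    · rw [zpowers_le, mem_centralizer_iff]
      rintro _ ⟨i, rfl⟩
      exact (hou.zpow_left i).eq
    · intro y hy
      rw [mem_centralizer_iff]
      rintro _ ⟨i, rfl⟩
      have hoK : o ∈ coreStab x E := pow_mem hk'K _
      have hoy : Commute o y := by
        rcases htd.cent y hy.1 (mem_centralizer_iff.mp hy.2 u (mem_zpowers u)).symm with h1 | h1
        · exact ((mem_coreStab.mp hoK).2 y h1).symm
        · rw [show y = y * u * u by rw [mul_assoc, htd.sq_u, mul_one]]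
          exact (((mem_coreStab.mp hoK).2 _ h1).symm).mul_right hou
      exact (hoy.zpow_left i).eq
  have hoN : o ∈ normalizer ((⁅R, A⁆ : Subgroup G) : Set G) := by
    refine mem_normalizer_iff.mpr fun y => ?_
    constructor
    · intro hy
      rwa [← mem_centralizer_iff.mp hoR y (htd.commutator_le hy), mul_inv_cancel_right]
    · intro hy
      have h1 := mem_centralizer_iff.mp hoR _ (htd.commutator_le hy)
      have h2 : o * y * o⁻¹ = y := by
        have h3 : o * y * o⁻¹ * o = o * y := by group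
        rw [h3] at h1
        exact (mul_left_cancel h1).symm
      rwa [h2] at hy
  have hco : Nat.Coprime (2 ^ v) (d / 2 ^ v) :=
    (Nat.prime_two.coprime_iff_not_dvd.mpr hdm).pow_left v
  have hsplit : k' = o ^ Nat.gcdA (2 ^ v) (d / 2 ^ v) * t ^ Nat.gcdB (2 ^ v) (d / 2 ^ v) := by
    have h1 := Nat.gcd_eq_gcd_ab (2 ^ v) (d / 2 ^ v)
    rw [hco.gcd_eq_one] at h1
    rw [ho, ht, ← zpow_natCast k', ← zpow_natCast k', ← zpow_mul, ← zpow_mul, ← zpow_add, ← h1]
    simp
  rw [hsplit]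
  exact mul_mem (zpow_mem hoN _) (zpow_mem (hleft htR) _)

/-- The elements normalising `R`, `E` and the image of the torus normalise `⁅R, A⁆`. -/
theorem mem_normalizer_of_torus {s : G} (hsx : s • x = x) (hsR : s ∈ normalizer (R : Set G))
    (hsE : s ∈ normalizer (E : Set G))
    (hsA : ∀ a ∈ A, ∃ a' ∈ A, ∀ e ∈ E, (s * a * s⁻¹) * e * (s * a * s⁻¹)⁻¹ = a' * e * a'⁻¹) :
    s ∈ normalizer ((⁅R, A⁆ : Subgroup G) : Set G) := by
  have htd := c.torus
  have hleft : R ≤ normalizer ((⁅R, A⁆ : Subgroup G) : Set G) := normalizer_commutator_ge_left R A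
  have hright : A ≤ normalizer ((⁅R, A⁆ : Subgroup G) : Set G) := normalizer_commutator_ge_right R A
  refine Coprime.mem_normalizer_of_map_conj (eq_of_le_of_card_ge ?_ (by
    rw [Subgroup.card_map_of_injective (f := (MulAut.conj s).toMonoidHom) (MulAut.conj s).injective]))
  rw [map_commutator, Coprime.map_conj_eq hsR, commutator_le]
  rintro r hr _ ⟨a, ha, rfl⟩
  obtain ⟨a', ha', hact⟩ := hsA a ha
  set k := a'⁻¹ * (s * a * s⁻¹) with hk
  have hsaE : s * a * s⁻¹ ∈ normalizer (E : Set G) :=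
    mul_mem (mul_mem hsE (htd.normE ha)) (inv_mem hsE)
  have hsaR : s * a * s⁻¹ ∈ normalizer (R : Set G) :=
    mul_mem (mul_mem hsR (htd.normM ha)) (inv_mem hsR)
  have hkK : k ∈ coreStab x E := by
    refine mem_coreStab.mpr ⟨?_, fun e he => ?_⟩
    · rw [hk, mul_smul, mul_smul, mul_smul, inv_smul_eq_iff.mpr hsx.symm, c.torus_fix a ha, hsx,
        inv_smul_eq_iff.mpr (c.torus_fix a' ha').symm]
    · refine (mul_inv_eq_iff_eq_mul.mp ?_).symm
      rw [hk, show a'⁻¹ * (s * a * s⁻¹) * e * (a'⁻¹ * (s * a * s⁻¹))⁻¹ =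
        a'⁻¹ * ((s * a * s⁻¹) * e * (s * a * s⁻¹)⁻¹) * a' by group, hact e he]
      group
  have hkR : k ∈ normalizer (R : Set G) := mul_mem (inv_mem (htd.normM ha')) hsaR
  have hkQ := c.mem_normalizer_commutator h hP hl hT hkK hkR
  show ⁅r, s * a * s⁻¹⁆ ∈ ⁅R, A⁆
  have e : ⁅r, s * a * s⁻¹⁆ = ⁅r, a'⁆ * (a' * (r * (k * r⁻¹ * k⁻¹)) * a'⁻¹) := by
    rw [hk, commutatorElement_def, commutatorElement_def]; group
  rw [e]
  refine mul_mem (commutator_mem_commutator hr ha') ((mem_normalizer_iff.mp (hright ha') _).mp ?_)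
  have hz : k * r⁻¹ * k⁻¹ ∈ R := (mem_normalizer_iff.mp hkR _).mp (inv_mem hr)
  by_cases hrQ : r ∈ ⁅R, A⁆
  · exact mul_mem hrQ ((mem_normalizer_iff.mp hkQ _).mp (inv_mem hrQ))
  · have hzQ : k * r⁻¹ * k⁻¹ ∉ ⁅R, A⁆ := fun h1 =>
      hrQ (inv_mem_iff.mp ((mem_normalizer_iff.mp hkQ _).mpr h1))
    have h1 := (htd.mem_or_mul_mem hr).resolve_left hrQ
    have h2 := (htd.mem_or_mul_mem hz).resolve_left hzQ
    have h3 := (mem_normalizer_iff.mp (hleft htd.u_mem) _).mp h2
    have h4 := mul_mem h1 h3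
    rw [show r * u * (u * (k * r⁻¹ * k⁻¹ * u) * u⁻¹) = r * (u * u) * (k * r⁻¹ * k⁻¹) by group,
      htd.sq_u, mul_one] at h4
    exact h4

omit h hP hl hT in
/-- `mem_zpowers_of_fix` in the form used with a chain. -/
theorem mem_zpowers_of_fix (h : Crit G Ω D) (hP : RankOnePairs (G := G) Ω) (hl : Line2 D u x E E)
    (hT : HasTranslation u x E) {y : Ω} (hy : u • y = y) (hyx : y ≠ x) {t : G}
    (ht : t ∈ coreStab x E) (htu : Commute t u) (hty : t • y = y) (ht2 : IsPGroup 2 (zpowers t)) :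
    t ∈ zpowers u :=
  Asch.mem_zpowers_of_fix h hP hl hT hy hyx ht htu hty ht2

omit h hP hl hT in
/-- Only powers of `u` are centralised by the torus. -/
theorem mem_zpowers_of_commute {g : G} (hg : g ∈ R) (hgA : ∀ a ∈ A, Commute a g) :
    g ∈ zpowers u := by
  rcases c.torus.eq_one_or_eq_of_centralized hg
    (fun a ha => by rw [(hgA a ha).eq, mul_inv_cancel_right]) with h1 | h1
  · rw [h1]; exact one_mem _
  · rw [h1]; exact mem_zpowers u

omit h hP hl hT in
/-- Every conjugate of `u` in `R` lies in the coset of `u` modulo `⁅R, A⁆`. -/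
theorem conj_mul_mem {g : G} (hg : g * u * g⁻¹ ∈ R) : g * u * g⁻¹ * u ∈ ⁅R, A⁆ :=
  (c.torus.mem_or_mul_mem hg).resolve_left (c.no_conj g)

/-- Conjugates of `u` in `R` congruent modulo the Frattini part are conjugate in `R`. -/
theorem exists_conj_congr {k : G} (hk : k ∈ coreStab x E) (hkR : k * u * k⁻¹ ∈ R) {n : G}
    (hn : n ∈ nxt R R) : ∃ g ∈ R, g * (k * u * k⁻¹) * g⁻¹ = n * (k * u * k⁻¹) :=
  c.torus.exists_conj_of_mem hkR
    (card_le_of_centralizes h hP hl hT (c.torus.two.to_le inf_le_left)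
      (inf_le_left.trans c.maxTwo.2.1) hk fun _ hy => mem_centralizer_singleton_iff.mp hy.2) hn

end ShapeOneChain

end

end Cfsg.Agent.H51.Asch
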