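import Cfsg.Agent.H51.Asch.Chain

/-!
The torus of the chain can be chosen fixing a given second fixed point `y`, inside the odd core of
the normaliser of `E` in `C(u)` at `x` and `y`.
-/

set_option autoImplicit false
set_option linter.style.haveILetI false

namespace Cfsg.Agent.H51.Asch

open Subgroup MulAction
open Cfsg.Agent.H14.Asch
open Cfsg.Agent.H73.Asch (RankTwoBad Line2 RankOnePairs)
open Cfsg.Agent.H39 (mul_self_of_orderOf_eq_two ne_one_of_orderOf_eq_two orderOf_conj)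
open scoped commutatorElement Pointwise

universe u v

variable {G : Type u} [Group G] [Finite G] {Ω : Type v} [MulAction G Ω] [Finite Ω] {D : Set G}

/-- The normaliser of `E` in `C(u)` at `x` and `y`. -/
def pairNorm (u : G) (x y : Ω) (E : Subgroup G) : Subgroup G :=
  pairStab G x y ⊓ ((stabilizer G x ⊓ normalizer (E : Set G)) ⊓ centralizer ({u} : Set G))

omit [Finite G] [Finite Ω] in
theorem mem_pairNorm {u : G} {x y : Ω} {E : Subgroup G} {g : G} :
    g ∈ pairNorm u x y E ↔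
      g • x = x ∧ g • y = y ∧ g ∈ normalizer (E : Set G) ∧ Commute g u := by
  simp only [pairNorm, mem_inf, mem_pairStab, mem_stabilizer_iff, mem_centralizer_singleton_iff]
  exact ⟨fun ⟨⟨h1, h2⟩, ⟨_, h3⟩, h4⟩ => ⟨h1, h2, h3, h4⟩,
    fun ⟨h1, h2, h3, h4⟩ => ⟨⟨h1, h2⟩, ⟨h1, h3⟩, h4⟩⟩

section

variable (h : Crit G Ω D) (hP : RankOnePairs (G := G) Ω) {u : G} {x : Ω} {E : Subgroup G}
  (hl : Line2 D u x E E) (hT : HasTranslation u x E) {y : Ω} (hy : u • y = y) (hyx : y ≠ x)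
include h hP hl hT hy hyx

omit hP hT in
/-- The part of `lineGroup D u` at two fixed points has odd order. -/
theorem odd_card_lineGroup_pairStab : Odd (Nat.card (lineGroup D u ⊓ pairStab G x y : Subgroup G)) := by
  haveI : Fact (Nat.Prime 2) := ⟨Nat.prime_two⟩
  rw [← Nat.not_even_iff_odd, even_iff_two_dvd]
  intro h2
  obtain ⟨t, ht⟩ := exists_prime_orderOf_dvd_card' 2 h2
  have ht' : orderOf (t : G) = 2 := by rw [orderOf_coe, ht]
  obtain ⟨htL, htp⟩ : (t : G) ∈ lineGroup D u ∧ (t : G) ∈ pairStab G x y := mem_inf.mp t.2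
  obtain ⟨htx, hty⟩ := mem_pairStab.mp htp
  obtain ⟨g, hg, hle⟩ := hl.sylow (zpowers (t : G))
    (IsPGroup.of_card (n := 1) (by rw [Nat.card_zpowers, ht']; rfl))
    (zpowers_le.mpr (mem_inf.mpr ⟨htL, mem_stabilizer_iff.mpr htx⟩))
  obtain ⟨hgL, hgx⟩ := mem_inf.mp hg
  have he := (mem_conj_smul_subgroup E).mp (hle (mem_zpowers (t : G)))
  have hgy : u • g⁻¹ • y = g⁻¹ • y :=
    smul_fixed_of_commute (commute_of_mem_lineGroup (inv_mem hgL)) hy
  have hne : g⁻¹ • y ≠ x := fun e => hyx (by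
    rw [inv_smul_eq_iff] at e
    rw [e, mem_stabilizer_iff.mp hgx])
  have h1 := hl.free _ he _ hgy hne (by
    rw [mul_smul, smul_inv_smul, mul_smul, hty])
  refine ne_one_of_orderOf_eq_two ht' ?_
  calc (t : G) = g * (g⁻¹ * t * g) * g⁻¹ := by group
    _ = 1 := by rw [h1]; group

omit hy hyx in
/-- The centraliser of `E` and `u` at `x` and `y` is the product of an odd normal subgroup and
`⟨u⟩`. -/
theorem exists_odd_complement (hy : u • y = y) (hyx : y ≠ x) :
    ∃ K0 : Subgroup G, Odd (Nat.card K0) ∧ K0 ≤ pairNorm u x y E ∧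
      (∀ n ∈ pairNorm u x y E, ∀ k ∈ K0, n * k * n⁻¹ ∈ K0) ∧
      ∀ c ∈ pairNorm u x y E, c ∈ centralizer (E : Set G) → ∃ k ∈ K0, c = k ∨ c = k * u := by
  classical
  haveI : Fact (Nat.Prime 2) := ⟨Nat.prime_two⟩
  set C := pairNorm u x y E ⊓ centralizer (E : Set G) with hC
  have hmem : ∀ {c}, c ∈ C → c ∈ coreStab x E ∧ Commute c u ∧ c • y = y := fun hc => by
    obtain ⟨h1, h2, -, h4⟩ := mem_pairNorm.mp (mem_inf.mp hc).1
    exact ⟨mem_coreStab.mpr ⟨h1, fun e he => mem_centralizer_iff.mp (mem_inf.mp hc).2 e he⟩, h4, h2⟩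
  have huC : u ∈ C := by
    have hue : ∀ e ∈ E, Commute e u := fun e he => line2_commute hl he
    refine mem_inf.mpr ⟨mem_pairNorm.mpr ⟨hl.fix, hy, ?_, Commute.refl u⟩,
      mem_centralizer_iff.mpr fun e he => (hue e he).eq⟩
    exact centralizer_le_normalizer _ (mem_centralizer_iff.mpr fun e he => (hue e he).eq)
  have hcz : zpowers (⟨u, huC⟩ : C) ≤ center C := zpowers_le.mpr (mem_center_iff.mpr fun c =>
    Subtype.ext (hmem c.2).2.1.eq)
  let P : Sylow 2 C := default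
  have hPu : (P : Subgroup C) ≤ zpowers (⟨u, huC⟩ : C) := by
    intro c hc
    have hp : IsPGroup 2 (zpowers (c : G)) := by
      have := (P.2.to_le (zpowers_le.mpr hc)).map C.subtype
      rwa [MonoidHom.map_zpowers] at this
    obtain ⟨hcK, hcu, hcy⟩ := hmem c.2
    obtain ⟨i, hi⟩ := mem_zpowers_iff.mp
      (mem_zpowers_of_fix h hP hl hT hy hyx hcK hcu hcy hp)
    exact mem_zpowers_iff.mpr ⟨i, Subtype.ext (by simpa using hi)⟩
  have hPc : normalizer ((P : Subgroup C) : Set C) ≤ centralizer ((P : Subgroup C) : Set C) :=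
    fun g _ => mem_centralizer_iff.mpr fun p hp => (mem_center_iff.mp (hcz (hPu hp)) g).symm
  have hcompl := MonoidHom.ker_transferSylow_isComplement' P hPc
  set K := (MonoidHom.transferSylow P hPc).ker with hK
  have hKcard : Odd (Nat.card K) := by
    rw [← Nat.not_even_iff_odd, even_iff_two_dvd]
    have h1 := hcompl.index_eq_card
    rw [← h1]
    exact P.not_dvd_index
  have hoddK : ∀ {c : C}, Odd (orderOf c) → c ∈ K := by
    intro c hc
    rw [hK, MonoidHom.mem_ker, ← orderOf_eq_one_iff]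
    obtain ⟨k, hk⟩ := IsPGroup.iff_orderOf.mp P.2 (MonoidHom.transferSylow P hPc c)
    have h1 : orderOf (MonoidHom.transferSylow P hPc c) ∣ orderOf c := orderOf_map_dvd _ c
    rw [hk] at h1 ⊢
    by_contra hne
    have hk0 : k ≠ 0 := fun e => hne (by rw [e, pow_zero])
    exact Nat.not_even_iff_odd.mpr hc (even_iff_two_dvd.mpr ((dvd_pow_self 2 hk0).trans h1))
  refine ⟨K.map C.subtype, by rwa [Subgroup.card_map_of_injective C.subtype_injective],
    (map_subtype_le K).trans inf_le_left, ?_, ?_⟩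
  · rintro n hn _ ⟨k, hk, rfl⟩
    obtain ⟨hkN, hkE⟩ := mem_inf.mp k.2
    have hnC : n * k * n⁻¹ ∈ C := by
      refine mem_inf.mpr ⟨mul_mem (mul_mem hn hkN) (inv_mem hn), mem_centralizer_iff.mpr fun e he => ?_⟩
      have hnE := (mem_pairNorm.mp hn).2.2.1
      have he' : n⁻¹ * e * n ∈ E := by
        have := (mem_normalizer_iff.mp (inv_mem hnE) e).mp he
        rwa [inv_inv] at this
      calc e * (n * k * n⁻¹) = n * ((n⁻¹ * e * n) * k) * n⁻¹ := by group
        _ = n * (k * (n⁻¹ * e * n)) * n⁻¹ := by rw [mem_centralizer_iff.mp hkE _ he']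
        _ = _ := by group
    refine ⟨⟨_, hnC⟩, hoddK ?_, rfl⟩
    rw [← orderOf_coe, show ((⟨n * k * n⁻¹, hnC⟩ : C) : G) = n * k * n⁻¹ from rfl, orderOf_conj,
      orderOf_coe]
    exact hKcard.of_dvd_nat (Subgroup.orderOf_dvd_natCard K hk)
  · intro c hc hcE
    obtain ⟨⟨⟨k, hk⟩, ⟨p, hp⟩⟩, hkp⟩ := hcompl.2 ⟨c, mem_inf.mpr ⟨hc, hcE⟩⟩
    refine ⟨k, ⟨k, hk, rfl⟩, ?_⟩
    have hce : c = (k : G) * p := congrArg Subtype.val hkp.symm
    obtain ⟨i, hi⟩ := mem_zpowers_iff.mp (hPu hp)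
    have hpi : (p : G) = u ^ i := by rw [← hi]; push_cast; rfl
    have huu := mul_self_of_orderOf_eq_two hl.bad.1
    rcases Int.even_or_odd i with ⟨j, rfl⟩ | ⟨j, rfl⟩
    · left; rw [hce, hpi, ← two_mul, zpow_mul, zpow_two, huu, one_zpow, mul_one]
    · right; rw [hce, hpi, zpow_add, zpow_mul, zpow_two, huu, one_zpow, one_mul, zpow_one]

/-- The chain with its torus in the odd core at `x` and `y`. -/
theorem exists_chain_core : ∃ R A : Subgroup G, ShapeOneChain D u x E R A ∧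
    A ≤ (Cfsg.oddCore (pairNorm u x y E)).map (pairNorm u x y E).subtype := by
  classical
  obtain ⟨R, a, hR, hc, a0, ha0, ha0E, n, hn⟩ := exists_chain_acts h hP hl hT hy hyx
  obtain ⟨hR2, hER, hRK, huR, -, hodd, hax, haR, haE, hau, htr⟩ := hc
  have htd : ShapeOneChain D u x E R (zpowers a) := shapeOneChain_of_climbs h hP hl hT hR
    ⟨hR2, hER, hRK, huR, ⟨1, one_mem _, by group⟩, hodd, hax, haR, haE, hau, htr⟩
  have haEmem : ∀ f ∈ E, a * f * a⁻¹ ∈ E := fun f hf => (mem_normalizer_iff.mp haE f).mp hf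
  have hfree : ∀ e ∈ E, a * e * a⁻¹ = e → e = 1 := by
    intro e he hfix
    by_contra he1
    obtain ⟨b, hb, g, hg, hmove⟩ := htd.torus.exists_moving
    refine hmove (htd.torus.fixed_of_fix_one hb he he1 ?_ hg)
    obtain ⟨i, rfl⟩ := mem_zpowers_iff.mp hb
    rw [((show Commute a e from mul_inv_eq_iff_eq_mul.mp hfix).zpow_left i).eq, mul_inv_cancel_right]
  -- move the fixed point of `a` to `y`
  have hay : u • a • y = a • y := smul_fixed_of_commute hau hy
  have hayx : a • y ≠ x := fun e => hyx (MulAction.injective a (e.trans hax.symm))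
  obtain ⟨e, he, hey⟩ := hl.trans y (a • y) hy hay hyx hayx
  let δ : E → E := fun f => ⟨f⁻¹ * (a * f * a⁻¹), mul_mem (inv_mem f.2) (haEmem f f.2)⟩
  have hEc : ∀ f ∈ E, ∀ f' ∈ E, f * f' = f' * f := fun f hf f' hf' => (hl.central f hf f' hf').eq
  have hinj : Function.Injective δ := by
    intro f f' hff
    have h1 : (f : G)⁻¹ * (a * f * a⁻¹) = (f' : G)⁻¹ * (a * f' * a⁻¹) := congrArg Subtype.val hff
    have h2 : a * ((f : G) * (f' : G)⁻¹) * a⁻¹ = (f : G) * (f' : G)⁻¹ := by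
      calc a * ((f : G) * (f' : G)⁻¹) * a⁻¹
          = (f : G) * ((f : G)⁻¹ * (a * f * a⁻¹)) * (a * f' * a⁻¹)⁻¹ := by group
        _ = (f : G) * ((f' : G)⁻¹ * (a * f' * a⁻¹)) * (a * f' * a⁻¹)⁻¹ := by rw [h1]
        _ = _ := by group
    exact Subtype.ext (mul_inv_eq_one.mp (hfree _ (mul_mem f.2 (inv_mem f'.2)) h2))
  obtain ⟨⟨f, hf⟩, hfe⟩ := Finite.injective_iff_surjective.mp hinj ⟨e, he⟩
  have hfe' : f⁻¹ * (a * f * a⁻¹) = e := congrArg Subtype.val hfe
  set a' := f * a * f⁻¹ with ha'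
  have hfu : Commute f u := line2_commute hl hf
  have hfx : f • x = x := line2_smul hl hf
  have hff : f⁻¹ = f := inv_eq_of_mul_eq_one_right (line2_mul_self hl h hf)
  have ha'y : a' • y = y := by
    have h1 : a * f⁻¹ = (a * f⁻¹ * a⁻¹) * a := by group
    have h2 : a * f⁻¹ * a⁻¹ = (a * f * a⁻¹) := by rw [hff]
    rw [ha', mul_assoc, mul_smul, h1, h2, mul_smul, ← hey, ← mul_smul, ← mul_smul,
      show f * (a * f * a⁻¹) * e = f * ((a * f * a⁻¹) * e) by group]
    have h3 : (a * f * a⁻¹) * e = f := by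
      rw [hEc _ (haEmem f hf) e he, ← hfe',
        show f⁻¹ * (a * f * a⁻¹) * (a * f * a⁻¹) = f⁻¹ * (a * (f * f) * a⁻¹) by group,
        line2_mul_self hl h hf, hff]
      group
    rw [h3, line2_mul_self hl h hf, one_smul]
  have ha'act : ∀ g ∈ E, a' * g * a'⁻¹ = a * g * a⁻¹ := fun g hg => by
    rw [ha', show f * a * f⁻¹ * g * (f * a * f⁻¹)⁻¹ = f * (a * (f⁻¹ * g * f) * a⁻¹) * f⁻¹ by group,
      mul_assoc f⁻¹, hEc g hg f hf, inv_mul_cancel_left, hEc f hf _ (haEmem g hg),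
      mul_inv_cancel_right]
  have hfR : f ∈ R := hER hf
  have ha'x : a' • x = x := by
    rw [ha', mul_smul, mul_smul, inv_smul_eq_iff.mpr hfx.symm, hax, hfx]
  have ha'E : a' ∈ normalizer (E : Set G) :=
    mul_mem (mul_mem (le_normalizer hf) haE) (inv_mem (le_normalizer hf))
  have ha'u : Commute a' u := ((hfu.mul_left hau).mul_left hfu.inv_left)
  have hodd' : Odd (orderOf a') := by rwa [ha', orderOf_conj]
  have hc' : Climbs u x E R a' u := by
    refine ⟨hR2, hER, hRK, huR, ⟨1, one_mem _, by group⟩, hodd', ha'x,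
      mul_mem (mul_mem (le_normalizer hfR) haR) (inv_mem (le_normalizer hfR)), ha'E, ha'u, ?_⟩
    intro g hg hg1 g' hg' hg'1
    obtain ⟨b, hb, hbg⟩ := htr g hg hg1 g' hg' hg'1
    obtain ⟨i, rfl⟩ : ∃ i : ℕ, a ^ i = b :=
      (isOfFinOrder_of_finite a).mem_powers_iff_mem_zpowers.mpr hb
    exact ⟨a' ^ i, pow_mem (mem_zpowers _) _, by
      rw [← (conj_pow_eq_of_conj_eq (fun g hg => (ha'act g hg).symm) haEmem i g hg).1, hbg]⟩
  refine ⟨R, zpowers a', shapeOneChain_of_climbs h hP hl hT hR hc', zpowers_le.mpr ?_⟩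
  -- `a'` lies in the odd core
  set N := pairNorm u x y E with hN
  have ha'N : a' ∈ N := mem_pairNorm.mpr ⟨ha'x, ha'y, ha'E, ha'u⟩
  obtain ⟨ha0L, ha0p⟩ := mem_inf.mp ha0
  have ha0N : a0 ∈ N := mem_pairNorm.mpr
    ⟨(mem_pairStab.mp ha0p).1, (mem_pairStab.mp ha0p).2, ha0E, commute_of_mem_lineGroup ha0L⟩
  obtain ⟨K0, hK0odd, hK0N, hK0n, hK0c⟩ := exists_odd_complement h hP hl hT hy hyx
  set M := (Cfsg.oddCore N).map N.subtype with hM
  have hcore : ∀ S : Subgroup G, Odd (Nat.card S) → S ≤ N →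
      (∀ n ∈ N, ∀ k ∈ S, n * k * n⁻¹ ∈ S) → S ≤ M := by
    intro S hS hSN hSn
    haveI : (S.subgroupOf N).Normal := ⟨fun k hk m => mem_subgroupOf.mpr
      (hSn m m.2 k (mem_subgroupOf.mp hk))⟩
    intro k hk
    refine ⟨⟨k, hSN hk⟩, Cores.le_oddCore ?_ (mem_subgroupOf.mpr hk), rfl⟩
    rwa [Nat.card_congr (subgroupOfEquivOfLe hSN).toEquiv]
  have hL0 : lineGroup D u ⊓ N ≤ M := hcore _
    ((odd_card_lineGroup_pairStab h hl hy hyx).of_dvd_nat
      (card_dvd_of_le (inf_le_inf_left _ inf_le_left))) inf_le_right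
    (fun m hm k hk => by
      obtain ⟨hkL, hkN⟩ := mem_inf.mp hk
      refine mem_inf.mpr ⟨?_, mul_mem (mul_mem hm hkN) (inv_mem hm)⟩
      have hmu := (mem_pairNorm.mp hm).2.2.2
      clear hk hkN
      induction hkL using Subgroup.closure_induction with
      | mem z hz =>
        refine mem_lineGroup (h.conj_mem hz.1 m) ?_
        have h1 := commute_conj (mem_centralizer_singleton_iff.mp hz.2 : Commute z u) m
        rwa [hmu.eq, mul_inv_cancel_right] at h1
      | one => simp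
      | mul s t _ _ ihs iht =>
        rw [show m * (s * t) * m⁻¹ = (m * s * m⁻¹) * (m * t * m⁻¹) by group]
        exact mul_mem ihs iht
      | inv s _ ihs =>
        rw [show m * s⁻¹ * m⁻¹ = (m * s * m⁻¹)⁻¹ by group]
        exact inv_mem ihs)
  have hK0M : K0 ≤ M := hcore K0 hK0odd hK0N hK0n
  have hb : a0 ^ n ∈ M := pow_mem (hL0 (mem_inf.mpr ⟨ha0L, ha0N⟩)) _
  set c := a' * (a0 ^ n)⁻¹ with hc0
  have hcN : c ∈ N := mul_mem ha'N (inv_mem (pow_mem ha0N _))
  have hcE : c ∈ centralizer (E : Set G) := mem_centralizer_iff.mpr fun g hg => by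
    have hg' : (a0 ^ n)⁻¹ * g * a0 ^ n ∈ E := by
      have := (mem_normalizer_iff.mp (inv_mem (pow_mem ha0E n)) g).mp hg
      rwa [inv_inv] at this
    have h2 : c * g * c⁻¹ = g := by
      rw [hc0, show a' * (a0 ^ n)⁻¹ * g * (a' * (a0 ^ n)⁻¹)⁻¹ =
        a' * ((a0 ^ n)⁻¹ * g * a0 ^ n) * a'⁻¹ by group, ha'act _ hg', hn _ hg']
      group
    exact (mul_inv_eq_iff_eq_mul.mp h2).symm
  obtain ⟨k, hk, hck | hck⟩ := hK0c c hcN hcE
  · rw [show a' = c * a0 ^ n by rw [hc0]; group, hck]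
    exact mul_mem (hK0M hk) hb
  exfalso
  -- the odd order of `a'` excludes the coset of `u`
  have huN : u ∈ N := by
    have h1 := mul_mem (inv_mem (hK0N hk)) hcN
    rwa [hck, inv_mul_cancel_left] at h1
  set π := QuotientGroup.mk' (Cfsg.oddCore N) with hπ
  have hMker : ∀ g : N, (g : G) ∈ M → π g = 1 := fun g hg => by
    obtain ⟨g', hg', he'⟩ := hg
    rw [hπ, QuotientGroup.mk'_apply, QuotientGroup.eq_one_iff, ← Subtype.ext he']
    exact hg'
  have h1 : π ⟨a', ha'N⟩ = π ⟨u, huN⟩ := by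
    have e1 : (⟨a', ha'N⟩ : N) = ⟨k, hK0N hk⟩ * ⟨u, huN⟩ * ⟨a0 ^ n, pow_mem ha0N n⟩ :=
      Subtype.ext (by
        push_cast
        rw [show a' = c * a0 ^ n by rw [hc0]; group, hck])
    rw [e1, map_mul, map_mul, hMker ⟨k, hK0N hk⟩ (hK0M hk), hMker ⟨a0 ^ n, pow_mem ha0N n⟩ hb,
      one_mul, mul_one]
  have h2 : orderOf (π ⟨u, huN⟩) ∣ 2 := by
    refine (orderOf_map_dvd _ _).trans ?_
    rw [← orderOf_coe]
    exact hl.bad.1.dvd
  have h3 : orderOf (π ⟨u, huN⟩) ∣ orderOf a' := by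
    rw [← h1]
    refine (orderOf_map_dvd _ _).trans ?_
    rw [← orderOf_coe]
  have h4 : orderOf (π ⟨u, huN⟩) = 1 :=
    Nat.eq_one_of_dvd_coprimes (Nat.coprime_two_right.mpr hodd') h3 h2
  rw [orderOf_eq_one_iff, hπ, QuotientGroup.mk'_apply, QuotientGroup.eq_one_iff] at h4
  have h5 := Cores.odd_card_oddCore.of_dvd_nat (Subgroup.orderOf_dvd_natCard (Cfsg.oddCore N) h4)
  rw [← orderOf_coe, hl.bad.1] at h5
  exact Nat.not_odd_iff_even.mpr even_two h5

end

end Cfsg.Agent.H51.Asch
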