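import Cfsg.Agent.H51.Asch.UnitaryFinal

/-!
A line with `|E| = 8` and `|Q| = 512` has translations.
-/

set_option autoImplicit false
set_option linter.style.haveILetI false

namespace Cfsg.Agent.H51.Asch

open Subgroup MulAction
open Cfsg.Agent.H14.Asch
open Cfsg.Agent.H73.Asch (RankTwoBad Line2 RankOnePairs)
open scoped commutatorElement Pointwise IsMulCommutative

universe u v

variable {G : Type u} [Group G] [Finite G] {Ω : Type v} [MulAction G Ω] [Finite Ω] {D : Set G}

/-- **No `U₃(8)` line without translations.** -/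
theorem false_of_unitary_eight (h : Crit G Ω D) (hP : RankOnePairs (G := G) Ω) {u : G} {x : Ω}
    {E Q : Subgroup G} (hl : Line2 D u x E Q) (hq : Nat.card E = 8) (hQ : Nat.card Q = 512)
    (hno : ¬ HasTranslation u x E) : False := by
  classical
  haveI : Fact (Nat.Prime 2) := ⟨Nat.prime_two⟩
  obtain ⟨y, P, A, a, c⟩ := exists_setup h hP hl hq hQ hno
  haveI := Crit.line2_isMulCommutative hl
  obtain ⟨V, instV, π, q, β, m⟩ := c.exists_model h
  letI := instV
  have huu := c.sq_u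
  have hu2 : orderOf u = 2 := hl.bad.1
  set R := Q ⊔ zpowers u with hR
  set Z := E ⊔ zpowers u with hZ
  have hRP : R ≤ P := sup_le c.Q_le (zpowers_le.mpr c.u_mem)
  have hPfix : ∀ t ∈ P, t • x = x ∧ Commute t u := fun t ht =>
    ⟨(mem_coreStab.mp (c.maxTwo.2.1 ht)).1, c.commute t ht⟩
  set NP := stabilizer G x ⊓ normalizer (E : Set G) ⊓ normalizer (P : Set G) with hNP
  have hNPe : ∀ {n}, n ∈ NP → ∃ e ∈ E, n * u * n⁻¹ = u * e := fun hn =>
    exists_eq_mul_of_normalizer h hl hP c.maxTwo.1 hPfix c.E_le c.u_mem (mem_inf.mp hn).2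
  have hfix : ∀ {k}, k ∈ coreStab x E → k ∈ normalizer (P : Set G) → Commute k u := by
    intro k hk hkP
    obtain ⟨e, he, hke⟩ := exists_eq_mul_of_normalizer h hl hP c.maxTwo.1 hPfix c.E_le c.u_mem hkP
    have he1 : e = 1 := by
      by_contra he1
      exact hno ⟨k, hk, e, he, he1, hke⟩
    rw [he1, mul_one] at hke
    exact mul_inv_eq_iff_eq_mul.mp hke
  -- transitivity on `u E`
  have hsurj : ∀ e ∈ E, ∃ n ∈ NP, n * u * n⁻¹ = u * e := by
    intro e he
    obtain ⟨g, hg, hgu⟩ := exists_conj_eq_mul h hl he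
    obtain ⟨hgx, hgE⟩ := mem_inf.mp hg
    have hgK : g ∈ normalizer (coreStab x E : Set G) := H39.mem_normalizer_of_conj_mem fun k hk =>
      conj_mem_coreStab (mem_stabilizer_iff.mp hgx) hgE hk
    obtain ⟨k, hk, hkP⟩ := (c.maxTwo.map_conj hgK).exists_conj c.maxTwo
    have hn : k * g ∈ NP := by
      refine mem_inf.mpr ⟨mem_inf.mpr ⟨mul_mem (mem_inf.mp hk).1 hgx,
        mul_mem (centralizer_le_normalizer _ (mem_inf.mp hk).2) hgE⟩,
        H39.mem_normalizer_of_conj_mem fun t ht => ?_⟩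
      have h1 := (hkP (g * t * g⁻¹)).mp ⟨t, ht, rfl⟩
      convert h1 using 1
      group
    obtain ⟨e', he', hne'⟩ := hNPe hn
    refine ⟨k * g, hn, ?_⟩
    have h2 : k * u * k⁻¹ * e = u * e' := by
      rw [← hne', show k * g * u * (k * g)⁻¹ = k * (g * u * g⁻¹) * k⁻¹ by group, hgu,
        show k * (u * e) * k⁻¹ = k * u * k⁻¹ * (k * e * k⁻¹) by group,
        ← ((mem_coreStab.mp hk).2 e he).eq, mul_inv_cancel_right]
    by_cases hee : e' * e⁻¹ = 1
    · rw [hne', mul_inv_eq_one.mp hee]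
    · exfalso
      refine hno ⟨k, hk, _, mul_mem he' (inv_mem he), hee, ?_⟩
      rw [← mul_assoc, ← h2, mul_inv_cancel_right]
  have hkernel : ∀ {t}, t ∈ P ⊓ stabilizer G y → m.Triv t → t = 1 ∨ t = u := fun ht htr =>
    c.kernel_eq h hP m hsurj ht htr
  -- the trivial elements of `P` lie in `R`
  have htrivR : ∀ p ∈ P, m.Triv p → p ∈ R := by
    intro p hp htr
    obtain ⟨qq, hqq, ht⟩ := c.decomp h hp
    have h1 : m.Triv (qq⁻¹ * p) := m.triv_mul (c.normalizer_of_P h hp).1
      (c.triv_of_mem_R h m (inv_mem (mem_sup_left hqq))) htr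
    rw [show p = qq * (qq⁻¹ * p) by rw [mul_inv_cancel_left]]
    rcases hkernel ht h1 with e | e <;> rw [e]
    · rw [mul_one]; exact mem_sup_left hqq
    · exact mul_mem (mem_sup_left hqq) (mem_sup_right (mem_zpowers u))
  have hcardR : 1024 ≤ Nat.card R := by
    let f : Bool × Q → R := fun p =>
      if p.1 then ⟨p.2, mem_sup_left p.2.2⟩
      else ⟨p.2 * u, mul_mem (mem_sup_left p.2.2) (mem_sup_right (mem_zpowers u))⟩
    have hf : Function.Injective f := by
      rintro ⟨b, g⟩ ⟨b', g'⟩ e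
      have e' := congrArg Subtype.val e
      have hu' := c.u_notMem_Q h
      cases b <;> cases b' <;> simp [f] at e'
      · exact Prod.ext rfl e'
      · refine absurd ?_ hu'
        have := Q.mul_mem (inv_mem g.2) g'.2
        rwa [← e', inv_mul_cancel_left] at this
      · refine absurd ?_ hu'
        have := Q.mul_mem (inv_mem g'.2) g.2
        rwa [e', inv_mul_cancel_left] at this
      · exact Prod.ext rfl e'
    have := Nat.card_le_card_of_injective f hf
    rwa [Nat.card_prod, Nat.card_eq_fintype_card (α := Bool), Fintype.card_bool, c.card_Q] at this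
  have hcardP : Nat.card P ≤ 2 * Nat.card R := by
    refine card_le_two_mul hRP fun p hp p' hp' hn hn' => htrivR _ (mul_mem (inv_mem hp') hp) ?_
    obtain ⟨qq, hqq, ht⟩ := c.decomp h hp
    obtain ⟨qq', hqq', ht'⟩ := c.decomp h hp'
    have hnt : ∀ {r qr}, r ∈ P → qr ∈ Q → r ∉ R → qr⁻¹ * r ∈ P ⊓ stabilizer G y →
        ¬ m.Triv (qr⁻¹ * r) := by
      intro r qr hr hqr hrn hrt htr
      refine hrn (htrivR r hr ?_)
      have := m.triv_mul (c.normalizer_of_P h (mem_inf.mp hrt).1).1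
        (c.triv_of_mem_R h m (mem_sup_left hqr)) htr
      rwa [mul_inv_cancel_left] at this
    have hsR := (c.normalizer_of_P h (mem_inf.mp ht').1).1
    have h1 := c.triv_mul_of_not_triv h m (inv_mem ht') ht (fun hh => hnt hp' hqq' hn' ht' (by
      have := m.triv_inv (inv_mem hsR) hh
      rwa [inv_inv] at this)) (hnt hp hqq hn ht)
    have hqR : qq ∈ normalizer (R : Set G) :=
      (c.normalizer_of_P h (c.Q_le hqq)).1
    intro g hg
    -- conjugation by a member of `R` is trivial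
    have hr : ∀ r ∈ R, ∀ k ∈ R, π (r * k * r⁻¹) = π k := fun r hr => c.triv_of_mem_R h m hr
    have hs : ∀ s ∈ R, ∀ k ∈ R, ∀ n ∈ P, π (n * (s * k * s⁻¹) * n⁻¹) = π (n * k * n⁻¹) := by
      intro s hs k hk n hn'
      have e : n * (s * k * s⁻¹) * n⁻¹ = (n * s * n⁻¹) * (n * k * n⁻¹) * (n * s * n⁻¹)⁻¹ := by group
      rw [e]
      exact hr _ ((mem_normalizer_iff.mp (c.normalizer_of_P h hn').1 s).mp hs) _
        ((mem_normalizer_iff.mp (c.normalizer_of_P h hn').1 k).mp hk)
    have hq1 : qq'⁻¹ * qq ∈ R := mem_sup_left (mul_mem (inv_mem hqq') hqq)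
    have htg : qq⁻¹ * p * g * (qq⁻¹ * p)⁻¹ ∈ R :=
      (mem_normalizer_iff.mp (c.normalizer_of_P h (mem_inf.mp ht).1).1 g).mp hg
    rw [show p'⁻¹ * p * g * (p'⁻¹ * p)⁻¹ = (qq'⁻¹ * p')⁻¹ *
      ((qq'⁻¹ * qq) * (qq⁻¹ * p * g * (qq⁻¹ * p)⁻¹) * (qq'⁻¹ * qq)⁻¹) * ((qq'⁻¹ * p')⁻¹)⁻¹ by group,
      hs _ hq1 _ htg _ (inv_mem (mem_inf.mp ht').1)]
    have h2 := h1 g hg
    rw [← h2]
    congr 1
    group
  have hZ16 := c.card_Z_le h
  -- the elements normalising `P` normalise `R`
  have hNR : ∀ {n}, n ∈ NP → n ∈ normalizer (R : Set G) ∧ n ∈ normalizer (Z : Set G) := by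
    intro n hn
    obtain ⟨⟨hnx, hnE⟩, hnP⟩ : (n ∈ stabilizer G x ∧ n ∈ normalizer (E : Set G)) ∧
        n ∈ normalizer (P : Set G) := ⟨mem_inf.mp (mem_inf.mp hn).1, (mem_inf.mp hn).2⟩
    obtain ⟨e, he, hne⟩ := hNPe hn
    refine ⟨?_, c.normalizer_Z h hnE he hne⟩
    refine H39.mem_normalizer_of_conj_mem fun g hg => ?_
    by_contra hgR
    set R1 := R.map (MulAut.conj n).toMonoidHom with hR1
    set g' := n * g * n⁻¹ with hg'
    have hg'P : g' ∈ P := (mem_normalizer_iff.mp hnP g).mp (hRP hg)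
    obtain ⟨h1, h2, h3⟩ := c.normalizer_of_P h hg'P
    have hne' : ¬ m.Triv g' := fun htr => hgR (htrivR g' hg'P htr)
    have hR1P : R1 ≤ P := by
      rintro _ ⟨k, hk, rfl⟩
      exact (mem_normalizer_iff.mp hnP k).mp (hRP hk)
    have hX : Nat.card (R ⊓ R1 : Subgroup G) ≤ 8 * 16 := by
      refine m.card_fixed_le h1 h2 h3 (c.triv_mul_self_of_mem h m hg'P) hne' inf_le_left
        (fun k hk => ?_) ((card_le_of_le inf_le_right).trans hZ16)
      obtain ⟨hkR, k₀, hk₀, rfl⟩ := mem_inf.mp hk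
      set k' := n * k₀ * n⁻¹ with hk'
      have hkap : k'⁻¹ * g' * k' * g'⁻¹ ∈ E := by
        have := (mem_normalizer_iff.mp hnE _).mp (c.kappa_mem h hk₀ hg)
        convert this using 1
        rw [hk', hg']; group
      have hkR' : k' ∈ R := hkR
      have e : g' * k' * g'⁻¹ = k' * (k'⁻¹ * g' * k' * g'⁻¹) := by group
      show π (g' * k' * g'⁻¹) = π k'
      rw [e, m.π_mul _ hkR' _ (mem_sup_left (c.line.E_le hkap)),
        (m.π_eq _ (mem_sup_left (c.line.E_le hkap))).mpr (mem_sup_left hkap), add_zero]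
    have hfin := card_mul_card_le_inf_mul (C := R1) (Q := R) (P := P) hR1P hRP
    have hR1card : Nat.card R1 = Nat.card R :=
      Subgroup.card_map_of_injective (f := (MulAut.conj n).toMonoidHom) (MulAut.conj n).injective
    rw [hR1card] at hfin
    nlinarith
  -- a two-element inducing an involution on `E`
  let S : Sylow 2 NP := default
  obtain ⟨s, hsS, hsE⟩ : ∃ s : NP, s ∈ (S : Subgroup NP) ∧
      (s : G) ∉ centralizer (E : Set G) := by
    by_contra hall
    push Not at hall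
    let St : Subgroup NP := (centralizer ({u} : Set G)).subgroupOf NP
    have hSt : (S : Subgroup NP) ≤ St := fun s hs => mem_subgroupOf.mpr
      (mem_centralizer_singleton_iff.mpr (hfix (mem_inf.mpr ⟨(mem_inf.mp (mem_inf.mp s.2).1).1,
        hall s hs⟩) (mem_inf.mp s.2).2).eq)
    have hidx : St.index = 8 := by
      rw [← c.card_E]
      choose e he hne using fun e : E => hsurj e e.2
      refine (Nat.card_eq_of_bijective (fun f : E => QuotientGroup.mk (s := St) ⟨e f, he f⟩)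
        ⟨fun f f' hff => ?_, fun z => ?_⟩).symm
      · have h1 := mem_centralizer_singleton_iff.mp (mem_subgroupOf.mp (QuotientGroup.eq.mp hff))
        simp only [Subgroup.coe_mul, Subgroup.coe_inv] at h1
        have h2 : e f * u * (e f)⁻¹ = e f' * u * (e f')⁻¹ := by
          calc e f * u * (e f)⁻¹ = e f * (u * ((e f)⁻¹ * e f')) * (e f')⁻¹ := by group
            _ = e f * (((e f)⁻¹ * e f') * u) * (e f')⁻¹ := by rw [h1]
            _ = _ := by group
        rw [hne f, hne f'] at h2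
        exact Subtype.ext (mul_left_cancel h2)
      · obtain ⟨⟨n, hn⟩, rfl⟩ := QuotientGroup.mk_surjective z
        obtain ⟨e', he', hne'⟩ := hNPe hn
        refine ⟨⟨e', he'⟩, QuotientGroup.eq.mpr (mem_subgroupOf.mpr
          (mem_centralizer_singleton_iff.mpr ?_))⟩
        push_cast
        set n' := e ⟨e', he'⟩
        have h2 : n * u * n⁻¹ = n' * u * n'⁻¹ := by rw [hne', hne ⟨e', he'⟩]
        calc n'⁻¹ * n * u = n'⁻¹ * (n * u * n⁻¹) * n := by group
          _ = n'⁻¹ * (n' * u * n'⁻¹) * n := by rw [h2]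
          _ = u * (n'⁻¹ * n) := by group
    have hdvd := index_dvd_of_le hSt
    rw [hidx] at hdvd
    exact S.not_dvd_index ((by norm_num : (2 : ℕ) ∣ 8).trans hdvd)
  obtain ⟨k, hk⟩ := IsPGroup.iff_orderOf.mp S.2 ⟨s, hsS⟩
  rw [Subgroup.orderOf_mk, ← orderOf_coe] at hk
  have hex : ∃ i, (s : G) ^ 2 ^ i ∈ centralizer (E : Set G) :=
    ⟨k, by rw [← hk, pow_orderOf_eq_one]; exact one_mem _⟩
  obtain ⟨i, hi⟩ : ∃ i, Nat.find hex = i + 1 := by
    refine Nat.exists_eq_succ_of_ne_zero fun e => hsE ?_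
    have := Nat.find_spec hex
    rwa [e, pow_zero, pow_one] at this
  set n := (s : G) ^ 2 ^ i with hn
  have hnNP : n ∈ NP := pow_mem s.2 _
  have hnE' : n ∉ centralizer (E : Set G) := Nat.find_min hex (by omega)
  have hn2E : n * n ∈ centralizer (E : Set G) := by
    have := Nat.find_spec hex
    rw [hi, pow_succ, pow_mul, pow_two] at this
    exact this
  obtain ⟨⟨hnx, hnEn⟩, hnPn⟩ : (n ∈ stabilizer G x ∧ n ∈ normalizer (E : Set G)) ∧
      n ∈ normalizer (P : Set G) := ⟨mem_inf.mp (mem_inf.mp hnNP).1, (mem_inf.mp hnNP).2⟩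
  have hn2P : n * n ∈ P := by
    have hK : n * n ∈ coreStab x E := mem_inf.mpr ⟨mul_mem hnx hnx, hn2E⟩
    have h2 : IsPGroup 2 (zpowers (n * n)) := by
      refine (((S.2.to_le (zpowers_le.mpr hsS)).map NP.subtype).to_le ?_)
      rw [MonoidHom.map_zpowers, zpowers_le, hn, ← pow_add]
      exact pow_mem (mem_zpowers _) _
    have h4 := c.maxTwo.2.2 (P ⊔ zpowers (n * n))
      (c.maxTwo.1.to_sup_of_normal_left' h2 (zpowers_le.mpr (mul_mem hnPn hnPn)))
      (sup_le c.maxTwo.2.1 (zpowers_le.mpr hK)) le_sup_left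
    rw [← h4]
    exact mem_sup_right (mem_zpowers _)
  obtain ⟨hnR, hnZ⟩ := hNR hnNP
  refine m.false_of_twisted hnR hnZ hnEn (fun e he => ?_) ?_ (c.triv_mul_self_of_mem h m hn2P)
  · rw [show n * (n * e * n⁻¹) * n⁻¹ = n * n * e * (n * n)⁻¹ by group,
      ← (mem_centralizer_iff.mp hn2E e he), mul_inv_cancel_right]
  · by_contra hall
    push Not at hall
    exact hnE' (mem_centralizer_iff.mpr fun e he => (mul_inv_eq_iff_eq_mul.mp (hall e he)).symm)

end Cfsg.Agent.H51.Asch
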