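import Cfsg.Agent.H51.Asch.UnitaryFlag

/-!
The two tops of the climb for a line of shape three: the product `R = Q ∘ C_R(a)` (`Split`), or the
wreathed one above a product `M` with one layer.
-/

set_option autoImplicit false

namespace Cfsg.Agent.H51.AschU

open Subgroup
open Cfsg.Agent.H51.Asch (nxt)
open scoped commutatorElement

universe u

variable {G : Type u} [Group G]

/-- `v` is taken to `u` by an element normalising `E` which takes the part of `R` centralising `v`
into `Q⟨u⟩`. -/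
def Good (R Q E : Subgroup G) (u v : G) : Prop :=
  ∃ t : G, t * v * t⁻¹ = u ∧ t ∈ normalizer (E : Set G) ∧
    ∀ m ∈ R, Commute m v → t * m * t⁻¹ ∈ Q ⊔ zpowers u

/-- `R` above `M = Q ∘ C_M(a)` with one layer, moving `u` outside `C_M(a)`. -/
structure Wreath (R M Q E A : Subgroup G) (u a : G) : Prop where
  top : UData R Q E A u a
  base : UData M Q E A u a
  split : Split M Q a
  le : M ≤ R
  normM : R ≤ normalizer (M : Set G)
  F_le : nxt (rk M a) (rk M a) ≤ E
  one_layer : ¬ (⁅rk M a, A⁆ : Subgroup G) ≤ E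
  comm_Q : ∀ g ∈ R, ∀ q ∈ Q, ⁅g, q⁆ ∈ ⁅rk M a, A⁆
  moved : ∃ g ∈ R, ⁅g, u⁆ ∉ ⁅rk M a, A⁆

theorem Wreath.acts {R M Q E A : Subgroup G} {u a : G} (w : Wreath R M Q E A u a) : Acts M E R :=
  ⟨w.normM, fun e he g hg => w.top.shape.central e he g hg⟩

end Cfsg.Agent.H51.AschU
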