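import Cfsg.Agent.H51.Asch.UnitaryTop
import Cfsg.Agent.H14.Asch.UnitaryLayers
import Cfsg.Agent.H29.Asch.ShapeLayer
import Cfsg.Agent.H29.Asch.ShapeThree

/-!
The climb for a line of shape three with scalars. In the normaliser of `M = Q ∘ C_M(a)` the elements
trivial on `Q V / V` are normal, contain the two-elements and are a two-group times the centraliser
of `M`; so the torus normalises a larger two-group, which is again a product or wreathed.
-/

set_option autoImplicit false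
set_option linter.style.haveILetI false
set_option linter.unusedSectionVars false

namespace Cfsg.Agent.H51.AschU

open Subgroup
open Cfsg.Agent.H14.Asch (ShapeData commute_conj)
open Cfsg.Agent.H51.Asch (nxt nxt_le norm_nxt comm_mem_nxt MaxTwo exists_maxTwo_ge exists_odd_pow
  conj_pow_eq_of_conj_eq)
open Cfsg.Agent.H29.Asch (maxTwo_card_le exists_primary)
open scoped commutatorElement

universe u

variable {G : Type u} [Group G] [Finite G]

omit [Finite G] in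
theorem maxTwo_mono {K L P : Subgroup G} (h : MaxTwo L P) (hKL : K ≤ L) (hPK : P ≤ K) :
    MaxTwo K P :=
  ⟨h.1, hPK, fun P' h1 h2 h3 => h.2.2 P' h1 (h2.trans hKL) h3⟩

omit [Finite G] in
/-- A conjugate of a maximal two-subgroup under an element normalising the group. -/
theorem maxTwo_conj {K P : Subgroup G} (h : MaxTwo K P) {a : G}
    (ha : a ∈ normalizer (K : Set G)) : MaxTwo K (P.map (MulAut.conj a).toMonoidHom) := by
  refine ⟨h.1.map _, ?_, fun P' h1 h2 h3 => ?_⟩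
  · rintro _ ⟨z, hz, rfl⟩
    exact (mem_normalizer_iff.mp ha z).mp (h.2.1 hz)
  · have h4 := h.2.2 (P'.map (MulAut.conj a⁻¹).toMonoidHom) (h1.map _) (by
      rintro _ ⟨z, hz, rfl⟩
      exact (mem_normalizer_iff.mp (inv_mem ha) z).mp (h2 hz)) (by
      intro z hz
      refine ⟨a * z * a⁻¹, h3 ⟨z, hz, rfl⟩, ?_⟩
      simp [mul_assoc])
    rw [← h4, Subgroup.map_map]
    convert (Subgroup.map_id P').symm using 2
    ext z; simp [mul_assoc]

/-- A maximal two-subgroup and the odd elements generate. -/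
theorem le_sup_of_maxTwo {L P C : Subgroup G} (hP : MaxTwo L P)
    (hodd : ∀ o ∈ L, Odd (orderOf o) → o ∈ C) : L ≤ P ⊔ (C ⊓ L) := by
  classical
  haveI : Fact (Nat.Prime 2) := ⟨Nat.prime_two⟩
  set J := P ⊔ (C ⊓ L) with hJ
  have hJL : J ≤ L := sup_le hP.2.1 inf_le_right
  have hdvd : Nat.card L ∣ Nat.card J := by
    refine (Nat.dvd_iff_prime_pow_dvd_dvd _ _).mpr fun p k hp hpk => ?_
    haveI : Fact p.Prime := ⟨hp⟩
    obtain ⟨S, hS⟩ := Sylow.exists_subgroup_card_pow_prime p hpk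
    have hcS : Nat.card (S.map L.subtype) = p ^ k := by
      rw [Subgroup.card_map_of_injective L.subtype_injective, hS]
    rcases eq_or_ne p 2 with rfl | h2
    · have h1 := maxTwo_card_le hP (IsPGroup.of_card hcS) (map_subtype_le S)
      rw [hcS] at h1
      obtain ⟨n, hn⟩ := IsPGroup.iff_card.mp hP.1
      rw [hn] at h1
      refine dvd_trans ?_ (card_dvd_of_le (le_sup_left : P ≤ J))
      rw [hn]
      exact pow_dvd_pow 2 ((Nat.pow_le_pow_iff_right (by norm_num)).mp h1)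
    · rw [← hcS]
      refine card_dvd_of_le fun o ho => le_sup_right (a := P) ⟨hodd o (map_subtype_le S ho) ?_,
        map_subtype_le S ho⟩
      refine (hp.odd_of_ne_two h2).pow.of_dvd_nat (n := p ^ k) ?_
      rw [← hcS]
      exact Subgroup.orderOf_dvd_natCard _ ho
  exact (eq_of_le_of_card_ge hJL (Nat.le_of_dvd Nat.card_pos hdvd)).ge

/-- The elements of `L` trivial on `Q V / V`. -/
def flagKer (Q V L : Subgroup G) : Subgroup G where
  carrier := {l | l ∈ L ∧ l ∈ normalizer (V : Set G) ∧ ∀ q ∈ Q, ⁅l, q⁆ ∈ V}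
  one_mem' := ⟨one_mem L, one_mem _,
    fun q _ => by rw [commutatorElement_one_left]; exact V.one_mem⟩
  mul_mem' := fun {l m} hl hm => ⟨mul_mem hl.1 hm.1, mul_mem hl.2.1 hm.2.1, fun q hq => by
    rw [commutator_mul_left_eq]
    exact V.mul_mem ((mem_normalizer_iff.mp hl.2.1 _).mp (hm.2.2 q hq)) (hl.2.2 q hq)⟩
  inv_mem' := fun {l} hl => ⟨inv_mem hl.1, inv_mem hl.2.1, fun q hq => by
    rw [show ⁅l⁻¹, q⁆ = l⁻¹ * ⁅l, q⁆⁻¹ * l⁻¹⁻¹ by simp [commutatorElement_def, mul_assoc]]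
    exact (mem_normalizer_iff.mp (inv_mem hl.2.1) _).mp (V.inv_mem (hl.2.2 q hq))⟩

namespace UData

variable {M Q E A L V : Subgroup G} {u a : G} (h : UData M Q E A u a) (hp : Split M Q a)
  (hL : Acts M E L) (hML : M ≤ L) (f : Flag M Q E A L V a)
include h f

theorem commute_V {v q : G} (hv : v ∈ V) (hq : q ∈ Q) : Commute v q :=
  h.commute_rk (f.V_le hv) hq

theorem exists_sup_V {g : G} (hg : g ∈ Q ⊔ V) : ∃ q ∈ Q, ∃ v ∈ V, g = q * v := by
  have hVn : V ≤ normalizer (Q : Set G) := fun v hv => mem_normalizer_conj fun s hs => by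
    rw [(h.commute_V f hv hs).eq, mul_inv_cancel_right]; exact hs
  obtain ⟨s, hs, v, hv, rfl⟩ := (Coprime.mem_sup_iff hVn).mp hg
  exact ⟨s, hs, v, hv, rfl⟩

theorem ker_norm {x l : G} (hx : x ∈ L) (hl : l ∈ flagKer Q V L) :
    x * l * x⁻¹ ∈ flagKer Q V L := by
  refine ⟨L.mul_mem (L.mul_mem hx hl.1) (inv_mem hx),
    mul_mem (mul_mem (f.normV hx) hl.2.1) (inv_mem (f.normV hx)), fun q hq => ?_⟩
  obtain ⟨q', hq', v, hv, e⟩ := h.exists_sup_V f
    ((mem_normalizer_iff.mp (f.normQV (L.inv_mem hx)) q).mp (mem_sup_left hq))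
  have hlv : ⁅l, v⁆ ∈ V := by
    rw [commutatorElement_def]
    exact V.mul_mem ((mem_normalizer_iff.mp hl.2.1 v).mp hv) (V.inv_mem hv)
  have h1 : ⁅l, q' * v⁆ ∈ V := by
    rw [show ⁅l, q' * v⁆ = ⁅l, q'⁆ * (q' * ⁅l, v⁆ * q'⁻¹) by
      simp [commutatorElement_def, mul_assoc], ← (h.commute_V f hlv hq').eq, mul_inv_cancel_right]
    exact V.mul_mem (hl.2.2 q' hq') hlv
  rw [← e] at h1
  have h2 := (mem_normalizer_iff.mp (f.normV hx) _).mp h1
  rwa [show x * ⁅l, x⁻¹ * q * x⁻¹⁻¹⁆ * x⁻¹ = ⁅x * l * x⁻¹, q⁆ by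
    simp [commutatorElement_def, mul_assoc]] at h2

theorem ker_normA (hAL : A ≤ normalizer (L : Set G)) {b l : G} (hb : b ∈ A)
    (hl : l ∈ flagKer Q V L) : b * l * b⁻¹ ∈ flagKer Q V L := by
  refine ⟨(mem_normalizer_iff.mp (hAL hb) l).mp hl.1,
    mul_mem (mul_mem (f.normA hb) hl.2.1) (inv_mem (f.normA hb)), fun q hq => ?_⟩
  have h1 := (mem_normalizer_iff.mp (f.normA hb) _).mp
    (hl.2.2 _ (h.conj_mem_Q (inv_mem hb) hq))
  rwa [show b * ⁅l, b⁻¹ * q * b⁻¹⁻¹⁆ * b⁻¹ = ⁅b * l * b⁻¹, q⁆ by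
    simp [commutatorElement_def, mul_assoc]] at h1

include hp hML in
theorem le_ker : M ≤ flagKer Q V L := by
  intro g hg
  refine ⟨hML hg, f.normV (hML hg), fun q hq => ?_⟩
  obtain ⟨q', hq', k, hk, rfl⟩ := hp g hg
  rw [commutator_mul_left_eq, commutatorElement_eq_one_iff_commute.mpr (h.commute_rk hk hq),
    mul_one, mul_inv_cancel, one_mul]
  exact f.E_le (h.shape.comm_mem q' hq' q hq)

include hL in
/-- The scalars commute with `L` modulo the kernel. -/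
theorem scalar_comm (hAL : A ≤ normalizer (L : Set G)) {z l : G} (hzA : z ∈ A) (hz : Scalar Q z)
    (hl : l ∈ L) : z * l * z⁻¹ * l⁻¹ ∈ flagKer Q V L := by
  refine ⟨L.mul_mem ((mem_normalizer_iff.mp (hAL hzA) l).mp hl) (L.inv_mem hl),
    mul_mem (mul_mem (mul_mem (f.normA hzA) (f.normV hl)) (inv_mem (f.normA hzA)))
      (inv_mem (f.normV hl)), fun q hq => ?_⟩
  obtain ⟨q₀, hq₀, v₀, hv₀, e₀⟩ := h.exists_sup_V f
    ((mem_normalizer_iff.mp (f.normQV (L.inv_mem hl)) q).mp (mem_sup_left hq))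
  rw [inv_inv] at e₀
  set q₂ := z⁻¹ * q₀ * z with hq₂d
  have hq₂ : q₂ ∈ Q := by simpa using h.conj_mem_Q (inv_mem hzA) hq₀
  obtain ⟨p, hp', v₂, hv₂, e₂⟩ := h.exists_sup_V f
    ((mem_normalizer_iff.mp (f.normQV hl) q₂).mp (mem_sup_left hq₂))
  set v' := v₂ * (l * (z⁻¹ * v₀ * z) * l⁻¹) with hv'd
  have hv' : v' ∈ V := V.mul_mem hv₂ ((mem_normalizer_iff.mp (f.normV hl) _).mp (by
    simpa using (mem_normalizer_iff.mp (inv_mem (f.normA hzA)) v₀).mp hv₀))
  set w := z * v' * z⁻¹ with hwd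
  have hw : w ∈ V := (mem_normalizer_iff.mp (f.normA hzA) v').mp hv'
  set zp := z * p * z⁻¹ with hzpd
  have hzp : zp ∈ Q := h.conj_mem_Q hzA hp'
  have e1 : z * l * z⁻¹ * l⁻¹ * q * (z * l * z⁻¹ * l⁻¹)⁻¹ = zp * w := by
    calc z * l * z⁻¹ * l⁻¹ * q * (z * l * z⁻¹ * l⁻¹)⁻¹
        = z * l * z⁻¹ * (l⁻¹ * q * l) * z * l⁻¹ * z⁻¹ := by group
      _ = z * ((l * q₂ * l⁻¹) * (l * (z⁻¹ * v₀ * z) * l⁻¹)) * z⁻¹ := by
          rw [e₀, hq₂d]; group
      _ = z * (p * v') * z⁻¹ := by rw [e₂, hv'd, mul_assoc p]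
      _ = zp * w := by rw [hzpd, hwd]; group
  have he : zp⁻¹ * q ∈ E := by
    refine h.scalar_equivariant (V := V) (fun v hv r hr => h.commute_V f hv hr) f.abelian
      (f.normV hl) (f.normQV hl) (fun e he => (hL.centE e he l hl).symm) hzA hz hq₂ hp'
      (by rw [e₂, inv_mul_cancel_left]; exact hv₂) hq ?_
    have e3 : q⁻¹ * (l * (z * q₂ * z⁻¹) * l⁻¹) = l * v₀⁻¹ * l⁻¹ := by
      have e4 : q₀ = l⁻¹ * q * l * v₀⁻¹ := by rw [e₀, mul_inv_cancel_right]
      rw [hq₂d, e4]; group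
    rw [e3]
    exact (mem_normalizer_iff.mp (f.normV hl) _).mp (V.inv_mem hv₀)
  have e5 : zp * w * q⁻¹ = (zp⁻¹ * q)⁻¹ * w := by
    calc zp * w * q⁻¹ = zp * q⁻¹ * w := by
          rw [mul_assoc, (h.commute_V f hw hq).inv_right.eq, ← mul_assoc]
      _ = q * (zp⁻¹ * q)⁻¹ * q⁻¹ * w := by group
      _ = _ := by
          rw [h.shape.conj_E (h.shape.le hq) (E.inv_mem he)]
  rw [commutatorElement_def, e1, e5]
  exact V.mul_mem (f.E_le (E.inv_mem he)) hw

include hp hL hML in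
/-- Each coset of the kernel meets the centraliser of `u`. -/
theorem exists_commute (hAL : A ≤ normalizer (L : Set G)) {l : G} (hl : l ∈ L) :
    ∃ n ∈ flagKer Q V L, Commute (n * l) u := by
  classical
  set N := flagKer Q V L with hN
  -- a scalar of prime power order moving `E`
  obtain ⟨b, hb, e, he, hmove⟩ := h.shape.exists_moving
  have he1 : e ≠ 1 := fun e1 => hmove (by rw [e1]; group)
  obtain ⟨z₀, hz₀A, hz₀, hz₀e⟩ := h.scalars e he he1 (b * e * b⁻¹) (h.conj_mem_E hb he)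
    (fun e1 => he1 (conj_eq_one_iff.mp e1))
  obtain ⟨z, hzmem, ⟨e', he', hze'⟩, r, j, hr, hrodd, hzord⟩ :=
    exists_primary (Q := E) (h.shape.odd_orderOf hz₀A)
      ⟨e, he, fun hc => hmove (by rw [← hz₀e, hc.eq, mul_inv_cancel_right])⟩
  obtain ⟨i, rfl⟩ : ∃ i : ℕ, z₀ ^ i = z :=
    (isOfFinOrder_of_finite z₀).mem_powers_iff_mem_zpowers.mpr hzmem
  set z := z₀ ^ i with hzd
  have hzA : z ∈ A := pow_mem hz₀A i
  have hz : Scalar Q z := hz₀.npow i
  haveI : Fact r.Prime := ⟨hr⟩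
  haveI : Finite (ConjAct G) := Finite.of_equiv G ConjAct.toConjAct.toEquiv
  -- the conjugates of `l u l⁻¹` under the kernel
  set v := l * u * l⁻¹ with hvd
  have hvM : v ∈ M := hL.conj_mem hl h.shape.u_mem
  set K : Subgroup (ConjAct G) := N.map (ConjAct.toConjAct : G ≃* ConjAct G).toMonoidHom with hK
  have hnd : ¬ r ∣ Nat.card (MulAction.orbit K v) := by
    rw [Nat.card_coe_set_eq, ← MulAction.index_stabilizer]
    obtain ⟨S⟩ : Nonempty (Sylow r K) := inferInstance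
    refine fun hd => S.not_dvd_index (hd.trans (index_dvd_of_le fun k hk => ?_))
    obtain ⟨n, hn, hnk⟩ := Subgroup.mem_map.mp k.2
    obtain ⟨m, hm⟩ := IsPGroup.iff_orderOf.mp S.isPGroup' ⟨k, hk⟩
    rw [Subgroup.orderOf_mk, ← Subgroup.orderOf_coe, ← hnk] at hm
    have hno : orderOf n = r ^ m :=
      (orderOf_injective (ConjAct.toConjAct : G ≃* ConjAct G).toMonoidHom
        (MulEquiv.injective _) n).symm.trans hm
    refine MulAction.mem_stabilizer_iff.mpr ?_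
    show (k : ConjAct G) • v = v
    rw [← hnk]
    show n * v * n⁻¹ = v
    rw [(f.rigid n hn.1 (hno ▸ hrodd.pow) hn.2.2 v hvM).eq, mul_inv_cancel_right]
  have hmemO : ∀ {w}, w ∈ MulAction.orbit K v ↔ ∃ n ∈ N, n * v * n⁻¹ = w := by
    intro w
    constructor
    · rintro ⟨k, rfl⟩
      obtain ⟨n, hn, hnk⟩ := Subgroup.mem_map.mp k.2
      refine ⟨n, hn, ?_⟩
      show n * v * n⁻¹ = (k : ConjAct G) • v
      rw [← hnk]; rfl
    · rintro ⟨n, hn, rfl⟩
      exact ⟨⟨_, Subgroup.mem_map_of_mem _ hn⟩, rfl⟩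
  set Z : Subgroup (ConjAct G) := zpowers (ConjAct.toConjAct z) with hZ
  have hstep : ∀ w ∈ MulAction.orbit K v, z * w * z⁻¹ ∈ MulAction.orbit K v := by
    intro w hw
    obtain ⟨n, hn, rfl⟩ := hmemO.mp hw
    refine hmemO.mpr ⟨z * n * z⁻¹ * (z * l * z⁻¹ * l⁻¹),
      mul_mem (h.ker_normA f hAL hzA hn) (h.scalar_comm hL f hAL hzA hz hl), ?_⟩
    calc z * n * z⁻¹ * (z * l * z⁻¹ * l⁻¹) * v * (z * n * z⁻¹ * (z * l * z⁻¹ * l⁻¹))⁻¹
        = z * n * (l * (z⁻¹ * u * z) * l⁻¹) * n⁻¹ * z⁻¹ := by rw [hvd]; group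
      _ = _ := by
        rw [show z⁻¹ * u * z = u by simpa using h.shape.fix z⁻¹ (inv_mem hzA), hvd]; group
  let O : SubMulAction Z G :=
    { carrier := MulAction.orbit K v
      smul_mem' := fun c w hw => by
        obtain ⟨c, hc⟩ := c
        obtain ⟨k, rfl⟩ := (isOfFinOrder_of_finite _).mem_powers_iff_mem_zpowers.mpr hc
        show ConjAct.toConjAct z ^ k • w ∈ MulAction.orbit K v
        clear hc
        induction k with
        | zero => rwa [pow_zero, one_smul]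
        | succ k ih => rw [pow_succ', mul_smul]; exact hstep _ ih }
  have hZr : IsPGroup r Z := IsPGroup.of_card (n := j) (by
    rw [hZ, Nat.card_zpowers, ← hzord]
    exact orderOf_injective (ConjAct.toConjAct : G ≃* ConjAct G).toMonoidHom
      (MulEquiv.injective _) z)
  haveI : Finite O := Finite.of_injective (fun w : O => (w : G)) Subtype.val_injective
  obtain ⟨⟨w, hwO⟩, hw⟩ := hZr.nonempty_fixed_point_of_prime_not_dvd_card O
    (by exact hnd)
  have hzw : z * w * z⁻¹ = w := congrArg Subtype.val (hw ⟨_, mem_zpowers _⟩)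
  obtain ⟨n, hn, hnw⟩ := hmemO.mp hwO
  have hwM : w ∈ M := hnw ▸ hL.conj_mem hn.1 hvM
  have hwu : w = u := by
    refine (h.shape.eq_one_or_eq hzA he'
      (fun e0 => hze' (mul_inv_eq_iff_eq_mul.mp e0)) hwM hzw).resolve_left fun e1 => ?_
    refine h.shape.u_notMem ?_
    rw [← hnw, hvd] at e1
    rw [show u = 1 from conj_eq_one_iff.mp (conj_eq_one_iff.mp e1)]
    exact Q.one_mem
  refine ⟨n, hn, mul_inv_eq_iff_eq_mul.mp ?_⟩
  calc n * l * u * (n * l)⁻¹ = n * v * n⁻¹ := by rw [hvd]; group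
    _ = u := hnw.trans hwu

include hp hL hML in
/-- The two-elements lie in the kernel. -/
theorem two_mem (hAL : A ≤ normalizer (L : Set G))
    (hT : MaxTwo (L ⊓ centralizer ({u} : Set G)) (Q ⊔ zpowers u)) {g : G} (hg : g ∈ L) {j : ℕ}
    (hgj : g ^ 2 ^ j = 1) : g ∈ flagKer Q V L := by
  classical
  haveI : Fact (Nat.Prime 2) := ⟨Nat.prime_two⟩
  set N := flagKer Q V L with hN
  obtain ⟨n, hn, hcu⟩ := h.exists_commute hp hL hML f hAL hg
  set c := n * g with hc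
  have hcL : c ∈ L := L.mul_mem hn.1 hg
  have hpow : ∀ i : ℕ, c ^ i * (g ^ i)⁻¹ ∈ N := by
    intro i
    induction i with
    | zero => simp
    | succ i ih =>
      rw [show c ^ (i + 1) * (g ^ (i + 1))⁻¹ = n * (g * (c ^ i * (g ^ i)⁻¹) * g⁻¹) by
        rw [pow_succ', pow_succ', hc]; group]
      exact N.mul_mem hn (h.ker_norm f hg ih)
  have h1 : c ^ 2 ^ j ∈ N := by simpa [hgj] using hpow (2 ^ j)
  set s := (orderOf c).factorization 2 with hs
  set m := orderOf c / 2 ^ s with hm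
  have hdiv : 2 ^ s ∣ orderOf c := Nat.ordProj_dvd _ _
  have hmodd : ¬ 2 ∣ m := Nat.not_dvd_ordCompl Nat.prime_two (orderOf_pos c).ne'
  have ht2 : IsPGroup 2 (zpowers (c ^ m)) := by
    refine IsPGroup.of_card (n := s) ?_
    rw [Nat.card_zpowers, orderOf_pow, Nat.gcd_eq_right (Nat.ordCompl_dvd _ _)]
    exact Nat.div_div_self hdiv (orderOf_pos c).ne'
  obtain ⟨P, hle, hP⟩ := exists_maxTwo_ge ht2 (zpowers_le.mpr (show c ^ m ∈ L ⊓ _ from
    ⟨pow_mem hcL m, mem_centralizer_singleton_iff.mpr (hcu.pow_left m).eq⟩))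
  obtain ⟨k, hk, hkP⟩ := hP.exists_conj hT
  have hV : Q ⊔ zpowers u ≤ N := (sup_le h.shape.le (zpowers_le.mpr h.shape.u_mem)).trans
    (h.le_ker hp hML f)
  have h2 : c ^ m ∈ N := by
    have h3 := h.ker_norm f (L.inv_mem hk.1) (hV ((hkP _).mp (hle (mem_zpowers _))))
    rwa [show k⁻¹ * (k * c ^ m * k⁻¹) * k⁻¹⁻¹ = c ^ m by group] at h3
  have hco : Nat.Coprime (2 ^ j) m :=
    (Nat.prime_two.coprime_iff_not_dvd.mpr hmodd).pow_left j
  have hcN : c ∈ N := by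
    have h3 := Nat.gcd_eq_gcd_ab (2 ^ j) m
    rw [hco.gcd_eq_one] at h3
    have h4 := N.mul_mem (N.zpow_mem h1 (Nat.gcdA (2 ^ j) m)) (N.zpow_mem h2 (Nat.gcdB (2 ^ j) m))
    rwa [← zpow_natCast c, ← zpow_natCast c, ← zpow_mul, ← zpow_mul, ← zpow_add, ← h3,
      Nat.cast_one, zpow_one] at h4
  have h5 := N.mul_mem (N.inv_mem hn) hcN
  rwa [hc, inv_mul_cancel_left] at h5

end UData

/-- `y` acts on `M` as `x`. -/
def SameAct (M : Subgroup G) (x y : G) : Prop :=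
  ∀ g ∈ M, x * g * x⁻¹ = y * g * y⁻¹

theorem SameAct.commute_iff {M : Subgroup G} {x y g : G} (h : SameAct M x y) (hg : g ∈ M) :
    Commute x g ↔ Commute y g := by
  constructor <;> intro hc <;> refine mul_inv_eq_iff_eq_mul.mp ?_
  · rw [← h g hg, hc.eq, mul_inv_cancel_right]
  · rw [h g hg, hc.eq, mul_inv_cancel_right]

/-- The data carried over to a group with the same action. -/
theorem UData.transfer {M Q E A B P : Subgroup G} {u a b : G} (h : UData M Q E A u a)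
    (hMP : M ≤ P) (hP2 : IsPGroup 2 P) (hBP : B ≤ normalizer (P : Set G)) (hcyc : IsCyclic B)
    (hB : Odd (Nat.card B)) (hcentral : ∀ e ∈ E, ∀ g ∈ P, Commute e g)
    (hcent : ∀ g ∈ P, Commute g u → g ∈ Q ∨ g * u ∈ Q)
    (hto : ∀ x ∈ A, ∃ y ∈ B, SameAct M x y) (hof : ∀ y ∈ B, ∃ x ∈ A, SameAct M x y)
    (hb : b ∈ B) (hab : SameAct M a b) : UData P Q E B u b where
  shape :=
    { two := hP2
      u_mem := hMP h.shape.u_mem
      sq_u := h.shape.sq_u
      u_notMem := h.shape.u_notMem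
      comm := fun p q => by
        letI : CommGroup B := IsCyclic.commGroup
        exact mul_comm p q
      odd := hB
      fix := fun y hy => by
        obtain ⟨x, hx, hxy⟩ := hof y hy
        rw [← hxy u h.shape.u_mem, h.shape.fix x hx]
      normM := hBP
      normE := fun y hy => mem_normalizer_conj fun e he => by
        obtain ⟨x, hx, hxy⟩ := hof y hy
        rw [← hxy e (h.shape.le_M he)]
        exact h.conj_mem_E hx he
      normQ := fun y hy => mem_normalizer_conj fun q hq => by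
        obtain ⟨x, hx, hxy⟩ := hof y hy
        rw [← hxy q (h.shape.le hq)]
        exact h.conj_mem_Q hx hq
      le_E := h.shape.le_E
      le := h.shape.le.trans hMP
      central := hcentral
      sq := h.shape.sq
      four_le := h.shape.four_le
      trans := fun e he he1 e' he' he'1 => by
        obtain ⟨x, hx, hxe⟩ := h.shape.trans e he he1 e' he' he'1
        obtain ⟨y, hy, hxy⟩ := hto x hx
        exact ⟨y, hy, by rw [← hxy e (h.shape.le_M he), hxe]⟩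
      commute := h.shape.commute
      omega := h.shape.omega
      sq_mem := h.shape.sq_mem
      comm_mem := h.shape.comm_mem
      cent := hcent }
  mem := hb
  centE := fun e he => (hab.commute_iff (h.shape.le_M he)).mp (h.centE e he)
  free := fun q hq hc => h.free q hq ((hab.commute_iff (h.shape.le hq)).mpr hc)
  scalars := fun e he he1 f hf hf1 => by
    obtain ⟨x, hx, hxs, hxe⟩ := h.scalars e he he1 f hf hf1
    obtain ⟨y, hy, hxy⟩ := hto x hx
    refine ⟨y, hy, fun i q hq => ?_, by rw [← hxy e (h.shape.le_M he), hxe]⟩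
    rw [← (conj_pow_eq_of_conj_eq hxy
      (fun g hg => (mem_normalizer_iff.mp (h.shape.normM hx) g).mp hg) i q (h.shape.le hq)).1]
    exact hxs i q hq

theorem Split.transfer {M Q : Subgroup G} {a b : G} (hp : Split M Q a) (hab : SameAct M a b) :
    Split M Q b := fun g hg => by
  obtain ⟨q, hq, k, hk, e⟩ := hp g hg
  exact ⟨q, hq, k, ⟨hk.1, mem_centralizer_singleton_iff.mpr
    ((hab.commute_iff hk.1).mp (mem_centralizer_singleton_iff.mp hk.2 : Commute k a).symm).symm.eq⟩,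
    e⟩

/-- A larger product or a wreathed group. -/
theorem UData.exists_step {M Q E A X : Subgroup G} {u a : G} (h : UData M Q E A u a)
    (hp : Split M Q a) (hcyc : IsCyclic A) (hMX : M ≤ X)
    (hXE : ∀ e ∈ E, ∀ g ∈ X, Commute e g) (hAX : A ≤ normalizer (X : Set G))
    (hT : MaxTwo (X ⊓ centralizer ({u} : Set G)) (Q ⊔ zpowers u)) (hM : ¬ MaxTwo X M) :
    ∃ (P B : Subgroup G) (b : G), M < P ∧ P ≤ X ∧ IsCyclic B ∧ B ≤ A ⊔ X ∧
      UData P Q E B u b ∧ (Split P Q b ∨ Wreath P M Q E B u b) := by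
  classical
  haveI : Fact (Nat.Prime 2) := ⟨Nat.prime_two⟩
  set L := X ⊓ normalizer (M : Set G) with hLd
  have hML : M ≤ L := le_inf hMX le_normalizer
  -- a larger Sylow subgroup of `L`
  obtain ⟨P₀, hMP₀, hP₀⟩ := exists_maxTwo_ge h.shape.two hMX
  have hne : M.subgroupOf P₀ ≠ ⊤ := fun e => hM
    ((le_antisymm hMP₀ (subgroupOf_eq_top.mp e)) ▸ hP₀)
  obtain ⟨g, hg, hgn⟩ := SetLike.exists_of_lt (PGroups.lt_normalizer hP₀.1 hne)
  have hgN : (g : G) ∈ normalizer (M : Set G) := mem_normalizer_conj fun z hz =>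
    (mem_normalizer_iff.mp hg ⟨z, hMP₀ hz⟩).mp hz
  obtain ⟨P, hP', hP⟩ := exists_maxTwo_ge (K := L) (W := P₀ ⊓ normalizer (M : Set G))
    (hP₀.1.to_le inf_le_left) fun z hz => ⟨hP₀.2.1 hz.1, hz.2⟩
  have hMP : M ≤ P := le_trans (le_inf hMP₀ le_normalizer) hP'
  have hlt : M < P := lt_of_le_of_ne hMP fun e =>
    hgn (show (g : G) ∈ M from e ▸ hP' ⟨g.2, hgN⟩)
  -- the series
  have hL : Acts M E L := ⟨inf_le_right, fun e he l hl => hXE e he l (mem_inf.mp hl).1⟩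
  have hnormL : ∀ {A' : Subgroup G}, A' ≤ normalizer (X : Set G) →
      A' ≤ normalizer (M : Set G) → A' ≤ normalizer (L : Set G) := fun h1 h2 c hc =>
    mem_normalizer_conj fun z hz =>
      mem_inf.mpr ⟨(mem_normalizer_iff.mp (h1 hc) z).mp (mem_inf.mp hz).1,
        mul_mem (mul_mem (h2 hc) (mem_inf.mp hz).2) (inv_mem (h2 hc))⟩
  have hAL : A ≤ normalizer (L : Set G) := hnormL hAX h.shape.normM
  have hTL : MaxTwo (L ⊓ centralizer ({u} : Set G)) (Q ⊔ zpowers u) :=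
    maxTwo_mono hT (inf_le_inf_right _ inf_le_left) (le_inf
      ((sup_le h.shape.le (zpowers_le.mpr h.shape.u_mem)).trans hML) (hT.2.1.trans inf_le_right))
  obtain ⟨V, f⟩ := h.exists_flag hp hL
  set K := flagKer Q V L with hK
  have hKL : K ≤ L := fun z hz => hz.1
  have htwo : ∀ {P' : Subgroup G}, IsPGroup 2 P' → P' ≤ L → P' ≤ K := fun hP2 hPL z hz => by
    obtain ⟨j, hj⟩ := hP2 ⟨z, hz⟩
    exact h.two_mem hp hL hML f hAL hTL (hPL hz) (j := j) (congrArg Subtype.val hj)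
  set J := X ⊓ centralizer (M : Set G) with hJ
  have hKJ : K ≤ P ⊔ (J ⊓ K) :=
    le_sup_of_maxTwo (maxTwo_mono hP hKL (htwo hP.1 hP.2.1)) fun o ho hodd =>
      ⟨(mem_inf.mp ho.1).1, mem_centralizer_iff.mpr fun m hm =>
        (f.rigid o ho.1 hodd ho.2.2 m hm).eq.symm⟩
  -- the torus
  obtain ⟨⟨a₁, ha₁⟩, hga⟩ := hcyc.exists_generator
  have hgen : ∀ c ∈ A, c ∈ zpowers a₁ := fun c hc => by
    obtain ⟨i, hi⟩ := mem_zpowers_iff.mp (hga ⟨c, hc⟩)
    exact ⟨i, by simpa using congrArg Subtype.val hi⟩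
  have hPa := maxTwo_conj hP (hAL ha₁)
  obtain ⟨k, hk, hkP⟩ := (maxTwo_mono hPa hKL (htwo hPa.1 hPa.2.1)).exists_conj
    (maxTwo_mono hP hKL (htwo hP.1 hP.2.1))
  have hPJ : P ≤ normalizer ((J ⊓ K : Subgroup G) : Set G) := fun p hp' =>
    mem_normalizer_conj fun z hz => by
      have hpK := htwo hP.1 hP.2.1 hp'
      refine ⟨⟨X.mul_mem (X.mul_mem (hP.2.1 hp').1 hz.1.1) (X.inv_mem (hP.2.1 hp').1),
        mem_centralizer_iff.mpr fun m hm => ?_⟩,
        K.mul_mem (K.mul_mem hpK hz.2) (K.inv_mem hpK)⟩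
      have hm' := hL.conj_mem (L.inv_mem (hP.2.1 hp')) hm
      have h1 := commute_conj
        (mem_centralizer_iff.mp hz.1.2 _ hm' : Commute (p⁻¹ * m * p⁻¹⁻¹) z) p
      rwa [show p * (p⁻¹ * m * p⁻¹⁻¹) * p⁻¹ = m by group] at h1
  obtain ⟨c, hc, p, hp', hcp⟩ := (Coprime.mem_sup_iff hPJ).mp
    (show k ∈ (J ⊓ K) ⊔ P from sup_comm (J ⊓ K) P ▸ hKJ hk)
  set c' := p⁻¹ * c * p with hc'
  have hc'J : c' ∈ J := by
    have := (mem_normalizer_iff.mp (inv_mem (hPJ hp')) c).mp hc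
    rw [inv_inv] at this
    exact (mem_inf.mp this).1
  set b₀ := c' * a₁ with hb₀
  have hb₀P : b₀ ∈ normalizer (P : Set G) := mem_normalizer_conj fun z hz => by
    have h1 := (hkP (a₁ * z * a₁⁻¹)).mp ⟨z, hz, rfl⟩
    have h2 := P.mul_mem (P.mul_mem (P.inv_mem hp') h1) hp'
    rwa [show p⁻¹ * (k * (a₁ * z * a₁⁻¹) * k⁻¹) * p = b₀ * z * b₀⁻¹ by
      rw [hb₀, hc', ← hcp]; group] at h2
  have hact : SameAct M a₁ b₀ := fun m hm => by
    have hm' : a₁ * m * a₁⁻¹ ∈ M := (mem_normalizer_iff.mp (h.shape.normM ha₁) m).mp hm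
    rw [hb₀, show c' * a₁ * m * (c' * a₁)⁻¹ = c' * (a₁ * m * a₁⁻¹) * c'⁻¹ by group,
      ← mem_centralizer_iff.mp hc'J.2 _ hm',
      mul_inv_cancel_right]
  obtain ⟨v, hv⟩ := exists_odd_pow b₀
  set b₁ := b₀ ^ 2 ^ v with hb₁
  have hactn : ∀ i : ℕ, SameAct M (a₁ ^ i) (b₀ ^ i) := fun i m hm =>
    (conj_pow_eq_of_conj_eq hact
      (fun g hg => (mem_normalizer_iff.mp (h.shape.normM ha₁) g).mp hg) i m hm).1
  have hto : ∀ x ∈ A, ∃ y ∈ zpowers b₁, SameAct M x y := by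
    intro x hx
    obtain ⟨i, rfl⟩ : ∃ i : ℕ, a₁ ^ i = x :=
      (isOfFinOrder_of_finite a₁).mem_powers_iff_mem_zpowers.mpr (hgen x hx)
    obtain ⟨j, hj⟩ := exists_pow_eq_self_of_coprime (n := 2 ^ v) (x := a₁)
      ((Nat.coprime_two_left.mpr (h.shape.odd_orderOf ha₁)).pow_left v)
    refine ⟨b₁ ^ (j * i), pow_mem (mem_zpowers _) _, ?_⟩
    rw [hb₁, ← pow_mul, show a₁ ^ i = a₁ ^ (2 ^ v * (j * i)) by rw [pow_mul, pow_mul, hj]]
    exact hactn _
  have hof : ∀ y ∈ zpowers b₁, ∃ x ∈ A, SameAct M x y := by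
    intro y hy
    obtain ⟨i, rfl⟩ : ∃ i : ℕ, b₁ ^ i = y :=
      (isOfFinOrder_of_finite b₁).mem_powers_iff_mem_zpowers.mpr hy
    refine ⟨a₁ ^ (2 ^ v * i), pow_mem ha₁ _, ?_⟩
    rw [hb₁, ← pow_mul]
    exact hactn _
  set B := zpowers b₁ with hB
  have hBodd : Odd (Nat.card B) := by rw [hB, Nat.card_zpowers]; exact hv
  have hBAX : B ≤ A ⊔ X := zpowers_le.mpr (pow_mem
    (mul_mem (mem_sup_right hc'J.1) (mem_sup_left ha₁)) _)
  have hBX : B ≤ normalizer (X : Set G) := hBAX.trans (sup_le hAX le_normalizer)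
  have hBM : B ≤ normalizer (M : Set G) := fun y hy => mem_normalizer_conj fun m hm => by
    obtain ⟨x, hx, hxy⟩ := hof y hy
    rw [← hxy m hm]
    exact (mem_normalizer_iff.mp (h.shape.normM hx) m).mp hm
  have hcentP : ∀ z ∈ P, Commute z u → z ∈ Q ∨ z * u ∈ Q := by
    intro z hz hzu
    have hVP : Q ⊔ zpowers u ≤ P ⊓ centralizer ({u} : Set G) :=
      le_inf ((sup_le h.shape.le (zpowers_le.mpr h.shape.u_mem)).trans hMP)
        (hT.2.1.trans inf_le_right)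
    have h1 := hT.2.2 (P ⊓ centralizer ({u} : Set G)) (hP.1.to_le inf_le_left)
      (inf_le_inf_right _ (hP.2.1.trans inf_le_left)) hVP
    refine h.shape.cent z ?_ hzu
    exact (sup_le h.shape.le (zpowers_le.mpr h.shape.u_mem))
      (h1 ▸ mem_inf.mpr ⟨hz, mem_centralizer_singleton_iff.mpr hzu.eq⟩)
  obtain ⟨b, hbB, hab⟩ := hto a h.mem
  have hPE : ∀ e ∈ E, ∀ z ∈ P, Commute e z := fun e he z hz => hXE e he z (hP.2.1 hz).1
  have hdP : UData P Q E B u b := h.transfer hMP hP.1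
    (zpowers_le.mpr (pow_mem hb₀P _)) inferInstance hBodd hPE hcentP hto hof hbB hab
  have hdM : UData M Q E B u b := h.transfer le_rfl h.shape.two hBM inferInstance hBodd
    h.shape.central h.shape.cent hto hof hbB hab
  have hpM : Split M Q b := hp.transfer hab
  refine ⟨P, B, b, hlt, hP.2.1.trans inf_le_left, inferInstance, hBAX, hdP, ?_⟩
  have hsplit : (∀ z ∈ P, Commute b ⁅z, u⁆) → Split P Q b := fun hall z hz =>
    hdP.shape.exists_mul_of_comm hbB hdP.centE hdP.free hz (hall z hz)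
  rcases hdP.shape.product_or_one_layer hbB hdP.centE hdP.free with hs | hone
  · exact Or.inl hs
  have hF : nxt (rk M b) (rk M b) ≤ E := fun n hn => by
    obtain ⟨r, hr, rfl⟩ := hdM.torus.frattini_data.2 n hn
    exact hone r (commutator_mono (inf_le_inf_right _ hMP) le_rfl hr)
  by_cases hb : (⁅rk M b, B⁆ : Subgroup G) ≤ E
  · refine Or.inl (hsplit fun z hz => hdP.centE _ ?_)
    exact hdM.base_comm_u hpM hL hb (hP.2.1 hz)
  by_cases hall : ∀ z ∈ P, ⁅z, u⁆ ∈ ⁅rk M b, B⁆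
  · exact Or.inl (hsplit fun z hz => hdM.commute_a (hdM.kk_le_rk (hall z hz)))
  push Not at hall
  refine Or.inr ⟨hdP, hdM, hpM, hMP, hP.2.1.trans inf_le_right, hF, hb, fun z hz q hq => ?_, hall⟩
  obtain ⟨j, hj⟩ := hP.1 ⟨z, hz⟩
  exact (hdM.two_mem hpM hL hML (hdM.flag_one hpM hL hF hb) (hnormL hBX hBM) hTL (hP.2.1 hz)
    (j := j) (congrArg Subtype.val hj)).2.2 q hq

/-- **The climb**: a product at the top, or a wreathed group. -/
theorem UData.exists_top {M₀ Q E A₀ X : Subgroup G} {u a₀ : G} (h : UData M₀ Q E A₀ u a₀)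
    (hp : Split M₀ Q a₀) (hcyc : IsCyclic A₀) (hMX : M₀ ≤ X)
    (hXE : ∀ e ∈ E, ∀ g ∈ X, Commute e g) (hAX : A₀ ≤ normalizer (X : Set G))
    (hT : MaxTwo (X ⊓ centralizer ({u} : Set G)) (Q ⊔ zpowers u)) :
    ∃ (R A : Subgroup G) (a : G), R ≤ X ∧ A ≤ A₀ ⊔ X ∧ UData R Q E A u a ∧
      ((MaxTwo X R ∧ Split R Q a) ∨ ∃ M, Wreath R M Q E A u a) := by
  classical
  obtain ⟨R, ⟨A, a, hRX, hA, hle, hR, hs⟩, hmax⟩ := Set.Finite.exists_maximalFor id
    {M : Subgroup G | ∃ (A : Subgroup G) (a : G), M ≤ X ∧ IsCyclic A ∧ A ≤ A₀ ⊔ X ∧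
      UData M Q E A u a ∧ Split M Q a}
    (Set.toFinite _) ⟨M₀, A₀, a₀, hMX, hcyc, le_sup_left, h, hp⟩
  by_cases hn : MaxTwo X R
  · exact ⟨R, A, a, hRX, hle, hR, Or.inl ⟨hn, hs⟩⟩
  have hAXn : A ≤ normalizer (X : Set G) := hle.trans (sup_le hAX le_normalizer)
  obtain ⟨P, B, b, hlt, hPX, hB, hBle, hdP, hcase⟩ :=
    hR.exists_step hs hA hRX hXE hAXn hT hn
  have hBle' : B ≤ A₀ ⊔ X := hBle.trans (sup_le hle le_sup_right)
  rcases hcase with hsP | hw
  · exact absurd (hmax ⟨B, b, hPX, hB, hBle', hdP, hsP⟩ hlt.le) hlt.not_ge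
  · exact ⟨P, B, b, hPX, hBle', hdP, Or.inr ⟨R, hw⟩⟩

end Cfsg.Agent.H51.AschU
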