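import Cfsg.Agent.H51.Asch.Regular
import Cfsg.Agent.PGroups.Basic

/-!
A `2`-group `M` with a commutative group `A` of odd order fixing an involution `u` such that
`C_M(u) = E × ⟨u⟩` for a central elementary group `E` whose non-identity elements `A` permutes
transitively: `⁅M, A⁆` has index two and avoids `u`, its Frattini part is inverted by `u`, and it
has no involution outside `E` with a centraliser of order at most `2 |E|`.
-/

set_option autoImplicit false
set_option linter.style.haveILetI false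

namespace Cfsg.Agent.H51.Asch

open Subgroup
open scoped commutatorElement Classical

universe u

variable {G : Type u} [Group G]

/-- Counting with the commutators with `w`. -/
theorem card_le_centralized_mul [Finite G] {K T : Subgroup G} (w : G)
    (h : ∀ g ∈ K, ⁅g, w⁆ ∈ T) :
    Nat.card K ≤ Nat.card (K ⊓ centralizer {w} : Subgroup G) * Nat.card T ∧
      (Nat.card (K ⊓ centralizer {w} : Subgroup G) * Nat.card T ≤ Nat.card K →
        ∀ t ∈ T, ∃ g ∈ K, ⁅g, w⁆ = t) := by
  set C := K ⊓ centralizer ({w} : Set G) with hC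
  let r : T → G := fun t => if h : ∃ g ∈ K, ⁅g, w⁆ = (t : G) then h.choose else 1
  have hr : ∀ g ∈ K, ∀ t : T, ⁅g, w⁆ = (t : G) → (r t)⁻¹ * g ∈ C := by
    intro g hg t ht
    have hex : ∃ g ∈ K, ⁅g, w⁆ = (t : G) := ⟨g, hg, ht⟩
    obtain ⟨h1, h2⟩ := hex.choose_spec
    simp only [r, dif_pos hex]
    refine ⟨K.mul_mem (inv_mem h1) hg, mem_centralizer_singleton_iff.mpr ?_⟩
    have e : g * w * g⁻¹ = hex.choose * w * hex.choose⁻¹ := by
      have := ht.trans h2.symm
      rw [commutatorElement_def, commutatorElement_def] at this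
      exact mul_right_cancel this
    calc hex.choose⁻¹ * g * w = hex.choose⁻¹ * (g * w * g⁻¹) * g := by group
      _ = w * (hex.choose⁻¹ * g) := by rw [e]; group
  let f : K → C × T := fun g =>
    (⟨(r ⟨⁅(g : G), w⁆, h g g.2⟩)⁻¹ * g, hr g g.2 _ rfl⟩, ⟨⁅(g : G), w⁆, h g g.2⟩)
  have hf : Function.Injective f := by
    intro g g' e
    simp only [f, Prod.mk.injEq, Subtype.mk.injEq] at e
    obtain ⟨e1, e2⟩ := e
    simp only [e2] at e1
    exact Subtype.ext (mul_left_cancel e1)
  have hle := Nat.card_le_card_of_injective f hf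
  rw [Nat.card_prod] at hle
  refine ⟨hle, fun hge t ht => ?_⟩
  have hsurj := (Nat.bijective_iff_injective_and_card f).mpr
    ⟨hf, by rw [Nat.card_prod]; exact le_antisymm hle hge⟩
  obtain ⟨g, hg⟩ := hsurj.2 (⟨1, C.one_mem⟩, ⟨t, ht⟩)
  exact ⟨g, g.2, congrArg (fun p : C × T => (p.2 : G)) hg⟩

/-- The configuration. -/
structure TorusData (M E A : Subgroup G) (u : G) : Prop where
  two : IsPGroup 2 M
  u_mem : u ∈ M
  sq_u : u * u = 1
  u_notMem : u ∉ E
  comm : ∀ a b : A, a * b = b * a
  odd : Odd (Nat.card A)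
  fix : ∀ a ∈ A, a * u * a⁻¹ = u
  normM : A ≤ normalizer (M : Set G)
  normE : A ≤ normalizer (E : Set G)
  le : E ≤ M
  central : ∀ e ∈ E, ∀ g ∈ M, Commute e g
  sq : ∀ e ∈ E, e * e = 1
  four_le : 4 ≤ Nat.card E
  trans : ∀ e ∈ E, e ≠ 1 → ∀ e' ∈ E, e' ≠ 1 → ∃ a ∈ A, a * e * a⁻¹ = e'
  cent : ∀ g ∈ M, Commute g u → g ∈ E ∨ g * u ∈ E

namespace TorusData

variable {M E A : Subgroup G} {u : G} (h : TorusData M E A u)
include h

theorem exists_ne_one : ∃ e ∈ E, e ≠ 1 := by
  by_contra hc
  push Not at hc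
  have : E = ⊥ := (eq_bot_iff_forall _).mpr hc
  have h4 := h.four_le
  rw [this, card_bot] at h4
  omega

theorem inv_u : u⁻¹ = u := inv_eq_of_mul_eq_one_right h.sq_u

theorem fixed_of_fix_one {a : G} (ha : a ∈ A) {e : G} (he : e ∈ E) (he1 : e ≠ 1)
    (hfix : a * e * a⁻¹ = e) {e' : G} (he' : e' ∈ E) : a * e' * a⁻¹ = e' := by
  by_cases h1 : e' = 1
  · rw [h1]; group
  obtain ⟨c, hc, rfl⟩ := h.trans e he he1 e' he' h1
  have hac : a * c = c * a := congrArg Subtype.val (h.comm ⟨a, ha⟩ ⟨c, hc⟩)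
  calc a * (c * e * c⁻¹) * a⁻¹ = (a * c) * e * (a * c)⁻¹ := by group
    _ = (c * a) * e * (c * a)⁻¹ := by rw [hac]
    _ = c * (a * e * a⁻¹) * c⁻¹ := by group
    _ = _ := by rw [hfix]

theorem isPGroup_zpowers_u : IsPGroup 2 (zpowers u) := h.two.to_le (zpowers_le.mpr h.u_mem)

theorem coprime [Finite G] {a : G} (ha : a ∈ A) : (Nat.card (zpowers a)).Coprime (Nat.card M) := by
  haveI : Fact (Nat.Prime 2) := ⟨Nat.prime_two⟩
  obtain ⟨n, hn⟩ := IsPGroup.iff_card.mp h.two
  rw [hn]
  exact (Nat.coprime_two_right.mpr (h.odd.of_dvd_nat (card_dvd_of_le (zpowers_le.mpr ha)))).pow_right n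

theorem isSolvable [Finite G] : Group.IsSolvable M := by
  haveI : Fact (Nat.Prime 2) := ⟨Nat.prime_two⟩
  haveI := h.two.isNilpotent
  infer_instance

/-- An element of `A` fixing a non-identity element of `E` centralises `M`. -/
theorem centralizes [Finite G] {a : G} (ha : a ∈ A) {e : G} (he : e ∈ E) (he1 : e ≠ 1)
    (hfix : a * e * a⁻¹ = e) {g : G} (hg : g ∈ M) : a * g * a⁻¹ = g := by
  haveI : Fact (Nat.Prime 2) := ⟨Nat.prime_two⟩
  have hau : Commute a u := mul_inv_eq_iff_eq_mul.mp (h.fix a ha)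
  have key : zpowers a ≤ centralizer (M : Set G) := by
    refine Coprime.thompson_AxB h.isPGroup_zpowers_u
      (Nat.coprime_two_right.mpr (h.odd.of_dvd_nat (card_dvd_of_le (zpowers_le.mpr ha)))) ?_ M
      h.two ((zpowers_le.mpr h.u_mem).trans le_normalizer) ((zpowers_le.mpr ha).trans h.normM) ?_
    · rw [zpowers_le, mem_centralizer_iff]
      rintro _ ⟨i, rfl⟩
      exact (hau.zpow_left i).eq
    · intro c hc
      rw [mem_centralizer_iff]
      rintro _ ⟨i, rfl⟩
      have hcu : Commute c u := (mem_centralizer_iff.mp hc.2 u (mem_zpowers u)).symm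
      have hE : ∀ x ∈ E, Commute a x := fun x hx =>
        mul_inv_eq_iff_eq_mul.mp (h.fixed_of_fix_one ha he he1 hfix hx)
      rcases h.cent c hc.1 hcu with h1 | h1
      · exact ((hE c h1).zpow_left i).eq
      · have hce : c = c * u * u := by rw [mul_assoc, h.sq_u, mul_one]
        rw [hce]
        exact (((hE _ h1).zpow_left i).mul_right (hau.zpow_left i)).eq
  have := mem_centralizer_iff.mp (key (mem_zpowers a)) g hg
  rw [← this, mul_inv_cancel_right]

/-- The fixed points of an element of `A` moving `E`. -/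
theorem eq_one_or_eq [Finite G] {a : G} (ha : a ∈ A) {e : G} (he : e ∈ E)
    (hmove : a * e * a⁻¹ ≠ e) {c : G} (hc : c ∈ M) (hca : a * c * a⁻¹ = c) : c = 1 ∨ c = u := by
  haveI : Fact (Nat.Prime 2) := ⟨Nat.prime_two⟩
  have hau : Commute a u := mul_inv_eq_iff_eq_mul.mp (h.fix a ha)
  have hfree : ∀ x ∈ E, a * x * a⁻¹ = x → x = 1 := fun x hx hfx => by
    by_contra hx1
    exact hmove (h.fixed_of_fix_one ha hx hx1 hfx he)
  have hU : ∀ x ∈ zpowers u, x = 1 ∨ x = u := fun x hx => by
    obtain ⟨i, rfl⟩ := mem_zpowers_iff.mp hx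
    rcases Int.even_or_odd i with ⟨j, rfl⟩ | ⟨j, rfl⟩
    · left; rw [← two_mul, zpow_mul, zpow_two, h.sq_u, one_zpow]
    · right; rw [zpow_add, zpow_mul, zpow_two, h.sq_u, one_zpow, one_mul, zpow_one]
  set X := M ⊓ centralizer ({a} : Set G) with hX
  refine hU c ?_
  by_contra hcn
  have hne : (zpowers u).subgroupOf X ≠ ⊤ := fun e1 =>
    hcn (subgroupOf_eq_top.mp e1
      ⟨hc, mem_centralizer_singleton_iff.mpr (mul_inv_eq_iff_eq_mul.mp hca).symm⟩)
  obtain ⟨y, hy, hyn⟩ := SetLike.exists_of_lt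
    (PGroups.lt_normalizer (h.two.to_le inf_le_left) hne)
  have huX : u ∈ X := ⟨h.u_mem, mem_centralizer_singleton_iff.mpr hau.symm.eq⟩
  have hyu : Commute (y : G) u := by
    have h1 := (mem_normalizer_iff.mp hy ⟨u, huX⟩).mp (mem_zpowers u)
    rcases hU _ h1 with h2 | h2
    · exfalso
      have h3 : (y : G) * u * (y : G)⁻¹ = 1 := h2
      rw [conj_eq_one_iff] at h3
      exact h.u_notMem (h3 ▸ E.one_mem)
    · exact mul_inv_eq_iff_eq_mul.mp h2
  have hya : a * (y : G) * a⁻¹ = y := by
    rw [← mem_centralizer_singleton_iff.mp y.2.2, mul_inv_cancel_right]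
  apply hyn
  show (y : G) ∈ zpowers u
  rcases h.cent y y.2.1 hyu with h1 | h1
  · rw [hfree y h1 hya]; exact one_mem _
  · have h2 : (y : G) * u = 1 := hfree _ h1 (by
      rw [show a * ((y : G) * u) * a⁻¹ = (a * y * a⁻¹) * (a * u * a⁻¹) by group, hya, h.fix a ha])
    rw [eq_inv_of_mul_eq_one_left h2, h.inv_u]
    exact mem_zpowers u

/-- A non-trivial `A`-section of `M` above the fixed points has at least `|E|` elements. -/
theorem card_mul_le [Finite G] {S K : Subgroup G} (hSK : S ≤ K) (hKM : K ≤ M)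
    (hAS : A ≤ normalizer (S : Set G)) (hAK : A ≤ normalizer (K : Set G))
    (hu : u ∈ S ∨ u ∉ K) {g : G} (hg : g ∈ K) (hgS : g ∉ S) :
    Nat.card E * Nat.card S ≤ Nat.card K ∧
      (Nat.card K ≤ Nat.card E * Nat.card S →
        ∀ y ∈ K, y ∉ S → ∃ a ∈ A, (a * g * a⁻¹)⁻¹ * y ∈ S) := by
  obtain ⟨e0, he0, he01⟩ := h.exists_ne_one
  have hb : ∀ e : E, ∃ a ∈ A, (e : G) ≠ 1 → a * e0 * a⁻¹ = e := fun e => by
    by_cases he : (e : G) = 1
    · exact ⟨1, A.one_mem, fun hn => absurd he hn⟩
    · obtain ⟨a, ha, hae⟩ := h.trans e0 he0 he01 e e.2 he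
      exact ⟨a, ha, fun _ => hae⟩
  choose b hbA hbe using hb
  let p : E → G := fun e => if (e : G) = 1 then 1 else b e * g * (b e)⁻¹
  have hpK : ∀ e, p e ∈ K := fun e => by
    simp only [p]
    split_ifs
    · exact K.one_mem
    · exact (mem_normalizer_iff.mp (hAK (hbA e)) g).mp hg
  have hmoveS : ∀ a ∈ A, a * g * a⁻¹ ∉ S := fun a ha hm =>
    hgS ((mem_normalizer_iff.mp (hAS ha) g).mpr hm)
  have hinj : ∀ e e', (p e)⁻¹ * p e' ∈ S → e = e' := by
    intro e e' hm
    simp only [p] at hm
    split_ifs at hm with h1 h2 h2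
    · exact Subtype.ext (h1.trans h2.symm)
    · rw [inv_one, one_mul] at hm
      exact absurd hm (hmoveS _ (hbA e'))
    · rw [mul_one] at hm
      exact absurd (inv_mem_iff.mp hm) (hmoveS _ (hbA e))
    · by_contra hne
      set a := (b e)⁻¹ * b e' with hadef
      have haA : a ∈ A := A.mul_mem (inv_mem (hbA e)) (hbA e')
      have hmove : a * e0 * a⁻¹ ≠ e0 := fun hfx => hne (Subtype.ext (by
        rw [← hbe e h1, ← hbe e' h2]
        calc b e * e0 * (b e)⁻¹ = b e * (a * e0 * a⁻¹) * (b e)⁻¹ := by rw [hfx]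
          _ = b e' * e0 * (b e')⁻¹ := by rw [hadef]; group))
      have hga : g⁻¹ * (a * g * a⁻¹) ∈ S := by
        have h3 := (mem_normalizer_iff.mp (hAS (inv_mem (hbA e))) _).mp hm
        convert h3 using 1
        rw [hadef]; group
      have hcop := h.coprime haA
      obtain ⟨c, hc, hcs⟩ := Coprime.exists_centralizer_mem_coset
        ((zpowers_le.mpr haA).trans h.normM) hcop (Or.inr h.isSolvable) (N := S) (hSK.trans hKM)
        ((zpowers_le.mpr haA).trans hAS) (hKM hg) (by
          intro x hx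
          obtain ⟨i, rfl⟩ : ∃ i : ℕ, a ^ i = x :=
            (isOfFinOrder_of_finite a).mem_powers_iff_mem_zpowers.mpr hx
          induction i with
          | zero => simp
          | succ i ih =>
            have e1 : g⁻¹ * (a ^ (i + 1) * g * (a ^ (i + 1))⁻¹) =
                g⁻¹ * (a * g * a⁻¹) * (a * (g⁻¹ * (a ^ i * g * (a ^ i)⁻¹)) * a⁻¹) := by
              rw [pow_succ']; group
            rw [e1]
            exact mul_mem hga ((mem_normalizer_iff.mp (hAS haA) _).mp
              (ih (pow_mem (mem_zpowers a) i))))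
      have hca : a * c * a⁻¹ = c := by
        rw [mem_centralizer_iff.mp hc.2 a (mem_zpowers a), mul_inv_cancel_right]
      have hcK : c ∈ K := by
        have := K.mul_mem hg (hSK hcs)
        rwa [mul_inv_cancel_left] at this
      have hcS : c ∈ S := by
        rcases h.eq_one_or_eq haA he0 hmove hc.1 hca with rfl | rfl
        · exact S.one_mem
        · rcases hu with hu | hu
          · exact hu
          · exact absurd hcK hu
      exact hgS (by simpa using S.mul_mem hcS (inv_mem hcs))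
  let f : E × S → K := fun q => ⟨p q.1 * q.2, K.mul_mem (hpK q.1) (hSK q.2.2)⟩
  have hf : Function.Injective f := by
    rintro ⟨e, s⟩ ⟨e', s'⟩ he
    have he' : p e * (s : G) = p e' * (s' : G) := congrArg Subtype.val he
    have hee : e = e' := hinj e e' (by
      have : (p e)⁻¹ * p e' = (s : G) * (s' : G)⁻¹ := by
        rw [eq_mul_inv_iff_mul_eq, mul_assoc, ← he', inv_mul_cancel_left]
      rw [this]
      exact S.mul_mem s.2 (inv_mem s'.2))
    subst hee
    exact Prod.ext rfl (Subtype.ext (mul_left_cancel he'))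
  have hle := Nat.card_le_card_of_injective f hf
  rw [Nat.card_prod] at hle
  refine ⟨hle, fun hge y hy hyS => ?_⟩
  obtain ⟨⟨e, s⟩, he⟩ := ((Nat.bijective_iff_injective_and_card f).mpr
    ⟨hf, by rw [Nat.card_prod]; exact le_antisymm hle hge⟩).2 ⟨y, hy⟩
  have he' : p e * (s : G) = y := congrArg Subtype.val he
  have he1 : (e : G) ≠ 1 := fun h1 => hyS (by
    rw [← he', show p e = 1 from if_pos h1, one_mul]; exact s.2)
  refine ⟨b e, hbA e, ?_⟩
  rw [← he', show p e = b e * g * (b e)⁻¹ from if_neg he1, inv_mul_cancel_left]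
  exact s.2

theorem card_centralized_le [Finite G] {K : Subgroup G} (hKM : K ≤ M) :
    Nat.card (K ⊓ centralizer {u} : Subgroup G) ≤ 2 * Nat.card E := by
  let f : (K ⊓ centralizer {u} : Subgroup G) → Bool × E := fun g =>
    if hg : (g : G) ∈ E then (true, ⟨g, hg⟩) else
      (false, ⟨(g : G) * u, (h.cent g (hKM g.2.1)
        (mem_centralizer_singleton_iff.mp g.2.2)).resolve_left hg⟩)
  have hf : Function.Injective f := by
    intro g g' e
    simp only [f] at e
    split_ifs at e with h1 h2 h2 <;> simp at e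
    · exact e
    · exact e
  have := Nat.card_le_card_of_injective f hf
  rwa [Nat.card_prod, Nat.card_eq_fintype_card (α := Bool), Fintype.card_bool] at this

theorem le_commutator : E ≤ ⁅M, A⁆ := by
  intro e he
  by_cases he1 : e = 1
  · rw [he1]; exact one_mem _
  -- some `a` moves `e`, and `⁅e, a⁆ ≠ 1` is conjugate to `e`
  obtain ⟨e', he', he'1, hne⟩ : ∃ e' ∈ E, e' ≠ 1 ∧ e' ≠ e := by
    by_contra hc
    push Not at hc
    have : Nat.card E ≤ 2 := by
      refine le_trans (Nat.card_le_card_of_injective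
        (fun x : E => decide ((x : G) = 1)) fun x x' hx => ?_) (by simp)
      by_cases hx1 : (x : G) = 1
      · simp only [hx1, decide_true] at hx
        exact Subtype.ext (hx1.trans (of_decide_eq_true hx.symm).symm)
      · simp only [hx1, decide_false] at hx
        exact Subtype.ext ((hc x x.2 hx1).trans
          (hc x' x'.2 (of_decide_eq_false hx.symm)).symm)
    have := h.four_le
    omega
  obtain ⟨a, ha, hae⟩ := h.trans e he he1 e' he' he'1
  have hc : ⁅e, a⁆ ∈ E := by
    rw [commutatorElement_def, mul_assoc, mul_assoc, ← mul_assoc a]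
    exact E.mul_mem he ((mem_normalizer_iff.mp (h.normE ha) _).mp (inv_mem he))
  have hc1 : ⁅e, a⁆ ≠ 1 := fun h1 => hne (by
    rw [← hae, ← commutatorElement_eq_one_iff_mul_comm.mp h1, mul_inv_cancel_right])
  obtain ⟨c, hcA, hce⟩ := h.trans _ hc hc1 e he he1
  rw [← hce]
  exact (mem_normalizer_iff.mp (normalizer_commutator_ge_right M A hcA) _).mp
    (commutator_mem_commutator (h.le he) ha)

/-- `⁅M, A⁆` avoids `u`. -/
theorem u_notMem_commutator [Finite G] : u ∉ ⁅M, A⁆ := by
  haveI : Fact (Nat.Prime 2) := ⟨Nat.prime_two⟩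
  intro hu
  have hsol := h.isSolvable
  have hcop : (Nat.card A).Coprime (Nat.card M) := by
    obtain ⟨n, hn⟩ := IsPGroup.iff_card.mp h.two
    rw [hn]
    exact (Nat.coprime_two_right.mpr h.odd).pow_right n
  set Q := ⁅M, A⁆ with hQdef
  have hQM : Q ≤ M := Coprime.commutator_le_left_of_normalizer h.normM
  have hMQ : M ≤ normalizer (Q : Set G) := normalizer_commutator_ge_left M A
  -- `Q = M`
  have hMQeq : Q = M := by
    refine le_antisymm hQM ?_
    conv_lhs => rw [← Coprime.commutator_sup_centralizer h.normM hcop (Or.inr hsol)]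
    refine sup_le le_rfl fun c hc => ?_
    obtain ⟨e0, he0, he01⟩ := h.exists_ne_one
    obtain ⟨e', he', he'1, hne⟩ : ∃ a ∈ A, a * e0 * a⁻¹ ≠ e0 ∧ a * c * a⁻¹ = c := by
      by_contra hno
      push Not at hno
      have hsub : Nat.card E ≤ 2 := by
        refine le_trans (Nat.card_le_card_of_injective
          (fun x : E => decide ((x : G) = 1)) fun x x' hx => ?_) (by simp)
        have key : ∀ y : E, (y : G) ≠ 1 → (y : G) = e0 := fun y hy => by
          obtain ⟨a, ha, hay⟩ := h.trans e0 he0 he01 y y.2 hy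
          by_contra hne
          exact hno a ha (fun e1 => hne (hay.symm.trans e1)) (by
            rw [mem_centralizer_iff.mp hc.2 a ha, mul_inv_cancel_right])
        by_cases hx1 : (x : G) = 1
        · simp only [hx1, decide_true] at hx
          exact Subtype.ext (hx1.trans (of_decide_eq_true hx.symm).symm)
        · simp only [hx1, decide_false] at hx
          exact Subtype.ext ((key x hx1).trans (key x' (of_decide_eq_false hx.symm)).symm)
      have := h.four_le
      omega
    rcases h.eq_one_or_eq he' he0 he'1 hc.1 hne with rfl | rfl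
    · exact one_mem _
    · exact hu
  have hfpf := fpf_self (P := A) (Q := M) h.normM (by rw [← hQdef, hMQeq])
  set S := nxt M M with hSdef
  have hSM : S < M := nxt_lt h.two le_rfl le_normalizer
    (fun e => by
      have h1 : u ∈ (⊥ : Subgroup G) := e ▸ h.u_mem
      exact h.u_notMem (mem_bot.mp h1 ▸ E.one_mem))
  have huS : u ∈ S := by
    have h1 := hfpf u h.u_mem
    have : ∀ l : List A, ev l u = u ^ l.length := fun l => by
      induction l with
      | nil => simp
      | cons b l ih => rw [ev_cons, ih, h.fix b b.2, List.length_cons, pow_succ']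
    rw [this, length_elems] at h1
    obtain ⟨k, hk⟩ := h.odd
    rwa [hk, pow_succ, pow_mul, pow_two, h.sq_u, one_pow, one_mul] at h1
  -- the last term of the series containing `u`
  obtain ⟨S', hS'S, hMS', hAS', huS', huT⟩ : ∃ S' : Subgroup G, S' ≤ S ∧
      M ≤ normalizer (S' : Set G) ∧ A ≤ normalizer (S' : Set G) ∧ u ∈ S' ∧ u ∉ nxt S' M := by
    suffices key : ∀ X : Subgroup G, X ≤ S → M ≤ normalizer (X : Set G) →
        A ≤ normalizer (X : Set G) → u ∈ X → ∃ S' : Subgroup G, S' ≤ S ∧
          M ≤ normalizer (S' : Set G) ∧ A ≤ normalizer (S' : Set G) ∧ u ∈ S' ∧ u ∉ nxt S' M from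
      key S le_rfl (norm_nxt le_normalizer le_normalizer) (norm_nxt h.normM h.normM) huS
    intro X
    induction X using WellFoundedLT.induction with
    | ind X ih =>
      intro hXS hMX hAX huX
      by_cases hn : u ∈ nxt X M
      · refine ih _ (nxt_lt h.two (hXS.trans hSM.le) hMX fun e => by
          have h1 : u ∈ (⊥ : Subgroup G) := e ▸ huX
          exact h.u_notMem (mem_bot.mp h1 ▸ E.one_mem))
          ((nxt_le hMX).trans hXS) (norm_nxt hMX le_normalizer) (norm_nxt hAX h.normM) hn
      · exact ⟨X, hXS, hMX, hAX, huX, hn⟩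
  set T := nxt S' M with hTdef
  have hTS' : T ≤ S' := nxt_le hMS'
  have hT2 : ∀ g ∈ M, ⁅g, u⁆ ∈ T := fun g hg => comm_mem_nxt' huS' hg
  have hMT : M ≤ normalizer (T : Set G) := norm_nxt hMS' le_normalizer
  have hAT : A ≤ normalizer (T : Set G) := norm_nxt hAS' h.normM
  have hcard1 : Nat.card M ≤ 2 * Nat.card E * Nat.card T :=
    (card_le_centralized_mul u hT2).1.trans
      (Nat.mul_le_mul_right _ (h.card_centralized_le le_rfl))
  have hcard2 : 2 * Nat.card T ≤ Nat.card S' := by
    let f : Bool × T → S' := fun q => if q.1 then ⟨q.2, hTS' q.2.2⟩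
      else ⟨u * q.2, S'.mul_mem huS' (hTS' q.2.2)⟩
    have hf : Function.Injective f := by
      rintro ⟨b, t⟩ ⟨b', t'⟩ e
      have e' := congrArg Subtype.val e
      cases b <;> cases b' <;> simp [f] at e' ⊢
      · exact e'
      · exact huT (by rw [eq_mul_inv_of_mul_eq e']; exact T.mul_mem t'.2 (inv_mem t.2))
      · exact huT (by rw [eq_mul_inv_of_mul_eq e'.symm]; exact T.mul_mem t.2 (inv_mem t'.2))
      · exact e'
    have := Nat.card_le_card_of_injective f hf
    rwa [Nat.card_prod, Nat.card_eq_fintype_card (α := Bool), Fintype.card_bool] at this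
  obtain ⟨g0, hg0, hg0S⟩ := SetLike.exists_of_lt hSM
  have hbase := (h.card_mul_le (S := S) (K := M) hSM.le le_rfl (norm_nxt h.normM h.normM) h.normM
    (Or.inl huS) hg0 hg0S).1
  have hS'card : Nat.card S' ≤ Nat.card S := card_le_of_le hS'S
  have hE0 : 0 < Nat.card E := Nat.card_pos
  have hSeq : Nat.card S = 2 * Nat.card T := by
    refine le_antisymm ?_ (hcard2.trans hS'card)
    refine Nat.le_of_mul_le_mul_left ?_ hE0
    calc Nat.card E * Nat.card S ≤ _ := hbase
      _ ≤ _ := hcard1
      _ = _ := by ring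
  have hS'eq : S' = S := eq_of_le_of_card_ge hS'S (by rw [hSeq]; exact hcard2)
  have hMeq : Nat.card M = 2 * Nat.card E * Nat.card T := by
    refine le_antisymm hcard1 ?_
    calc 2 * Nat.card E * Nat.card T = Nat.card E * Nat.card S := by rw [hSeq]; ring
      _ ≤ _ := hbase
  have hTlt : T < S := lt_of_le_not_ge (hS'eq ▸ hTS') fun hle => huT (hle huS)
  -- some square lies in `u T`
  obtain ⟨g, hgM, hgT⟩ : ∃ g ∈ M, g * g ∉ T := by
    by_contra hc
    push Not at hc
    refine hTlt.not_ge (sup_le (commutator_le.mpr fun x hx y hy => ?_) ((closure_le T).mpr ?_))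
    · have e : ⁅x, y⁆ = x * x * (x⁻¹ * y * (x⁻¹ * y)) * (y⁻¹ * y⁻¹) := by
        rw [commutatorElement_def]; group
      rw [e]
      exact mul_mem (mul_mem (hc x hx) (hc _ (mul_mem (inv_mem hx) hy))) (hc _ (inv_mem hy))
    · rintro _ ⟨x, hx, rfl⟩
      exact hc x hx
  have hgS : g * g ∈ S := sq_mem_nxt hgM
  have hsplit : ∀ s ∈ S, s ∈ T ∨ u * s ∈ T := by
    intro s hs
    by_contra hc
    push Not at hc
    let f : Option (Bool × T) → S := fun o => o.elim ⟨s, hs⟩ fun q =>
      if q.1 then ⟨q.2, hTlt.le q.2.2⟩ else ⟨u * q.2, S.mul_mem huS (hTlt.le q.2.2)⟩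
    have hf : Function.Injective f := by
      rintro (_ | ⟨b, t⟩) (_ | ⟨b', t'⟩) e
      · rfl
      · exfalso
        have e' := congrArg Subtype.val e
        cases b' <;> simp [f] at e'
        · exact hc.2 (by rw [e', ← mul_assoc, h.sq_u, one_mul]; exact t'.2)
        · exact hc.1 (e' ▸ t'.2)
      · exfalso
        have e' := congrArg Subtype.val e
        cases b <;> simp [f] at e'
        · exact hc.2 (by rw [← e', ← mul_assoc, h.sq_u, one_mul]; exact t.2)
        · exact hc.1 (e' ▸ t.2)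
      · have e' := congrArg Subtype.val e
        cases b <;> cases b' <;> simp [f] at e' ⊢
        · exact e'
        · exact huT (by rw [eq_mul_inv_of_mul_eq e']; exact T.mul_mem t'.2 (inv_mem t.2))
        · exact huT (by rw [eq_mul_inv_of_mul_eq e'.symm]; exact T.mul_mem t.2 (inv_mem t'.2))
        · exact e'
    have h1 := Nat.card_le_card_of_injective f hf
    rw [Finite.card_option, Nat.card_prod, Nat.card_eq_fintype_card (α := Bool), Fintype.card_bool,
      hSeq] at h1
    omega
  have hug : u * (g * g) ∈ T := (hsplit _ hgS).resolve_left hgT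
  set T' := nxt T M with hT'def
  have hgu : ⁅g, u⁆ ∈ T' := by
    set t := u * (g * g) with ht
    have hut : u * t = g * g := by rw [ht, ← mul_assoc, h.sq_u, one_mul]
    have e : ⁅g, u⁆ = u * ⁅t, g⁆ * u⁻¹ := by
      calc ⁅g, u⁆ = g * (u * t) * t⁻¹ * g⁻¹ * u⁻¹ := by rw [commutatorElement_def]; group
        _ = (g * g) * g * t⁻¹ * g⁻¹ * u⁻¹ := by rw [hut]; group
        _ = (u * t) * g * t⁻¹ * g⁻¹ * u⁻¹ := by rw [hut]
        _ = u * ⁅t, g⁆ * u⁻¹ := by rw [commutatorElement_def]; group
    rw [e]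
    exact (mem_normalizer_iff.mp (norm_nxt hMT le_normalizer h.u_mem) _).mp (comm_mem_nxt hug hgM)
  have hMT' : M ≤ normalizer (T' : Set G) := norm_nxt hMT le_normalizer
  let J : Subgroup G :=
    { carrier := {x | x ∈ M ∧ ⁅x, u⁆ ∈ T'}
      mul_mem' := fun {x y} hx hy => ⟨M.mul_mem hx.1 hy.1, by
        have e : ⁅x * y, u⁆ = x * ⁅y, u⁆ * x⁻¹ * ⁅x, u⁆ := by
          rw [commutatorElement_def, commutatorElement_def, commutatorElement_def]; group
        rw [e]
        exact T'.mul_mem ((mem_normalizer_iff.mp (hMT' hx.1) _).mp hy.2) hx.2⟩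
      one_mem' := ⟨M.one_mem, by rw [commutatorElement_one_left]; exact one_mem _⟩
      inv_mem' := fun {x} hx => ⟨M.inv_mem hx.1, by
        have e : ⁅x⁻¹, u⁆ = x⁻¹ * ⁅x, u⁆⁻¹ * x⁻¹⁻¹ := by
          rw [commutatorElement_def, commutatorElement_def]; group
        rw [e]
        exact (mem_normalizer_iff.mp (hMT' (inv_mem hx.1)) _).mp (inv_mem hx.2)⟩ }
  have hgnS : g ∉ S := fun hgs => hgT (by
    rcases hsplit g hgs with h1 | h1
    · exact mul_mem h1 h1
    · have e : g * g = u * (u * g) * u⁻¹ * (u * g) := by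
        rw [show u * (u * g) * u⁻¹ * (u * g) = (u * u) * (g * g) by group, h.sq_u, one_mul]
      rw [e]
      exact mul_mem ((mem_normalizer_iff.mp (hMT h.u_mem) _).mp h1) h1)
  have hall : ∀ y ∈ M, ⁅y, u⁆ ∈ T' := by
    intro y hy
    have hS : ∀ s ∈ S, ⁅s, u⁆ ∈ T' := fun s hs => by
      rcases hsplit s hs with h1 | h1
      · exact comm_mem_nxt h1 h.u_mem
      · have hu1 : u ∈ J := ⟨h.u_mem, by
          rw [commutatorElement_self]; exact one_mem _⟩
        have h2 : u * s ∈ J := ⟨M.mul_mem h.u_mem (hSM.le hs), comm_mem_nxt h1 h.u_mem⟩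
        have := J.mul_mem hu1 h2
        rw [← mul_assoc, h.sq_u, one_mul] at this
        exact this.2
    by_cases hyS : y ∈ S
    · exact hS y hyS
    obtain ⟨a, ha, hay⟩ := (h.card_mul_le (S := S) (K := M) hSM.le le_rfl
      (norm_nxt h.normM h.normM) h.normM (Or.inl huS) hgM hgnS).2 (by rw [hMeq, hSeq]; ring_nf; rfl)
      y hy hyS
    have hga : a * g * a⁻¹ ∈ J := by
      refine ⟨(mem_normalizer_iff.mp (h.normM ha) g).mp hgM, ?_⟩
      have e : ⁅a * g * a⁻¹, u⁆ = a * ⁅g, u⁆ * a⁻¹ := by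
        conv_lhs => rw [← h.fix a ha]
        rw [commutatorElement_def, commutatorElement_def]; group
      rw [e]
      exact (mem_normalizer_iff.mp (norm_nxt hAT h.normM ha) _).mp hgu
    have := J.mul_mem hga ⟨hSM.le hay, hS _ hay⟩
    rw [mul_inv_cancel_left] at this
    exact this.2
  have hcard3 : Nat.card M ≤ 2 * Nat.card E * Nat.card T' :=
    (card_le_centralized_mul u hall).1.trans
      (Nat.mul_le_mul_right _ (h.card_centralized_le le_rfl))
  have hTbot : T = ⊥ := by
    by_contra hne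
    have hlt := nxt_lt h.two (hTlt.le.trans hSM.le) hMT hne
    have h1 : Nat.card T' < Nat.card T := by
      refine lt_of_le_of_ne (card_le_of_le hlt.le) fun e => hlt.ne ?_
      exact eq_of_le_of_card_ge hlt.le e.ge
    rw [hMeq] at hcard3
    have := Nat.le_of_mul_le_mul_left hcard3 (by positivity)
    omega
  -- now `M = C_M(u)` is elementary
  have hgg : g * g = u := by
    rw [hTbot, mem_bot] at hug
    rw [eq_inv_of_mul_eq_one_right hug, h.inv_u]
  have hgu1 : Commute g u := hgg ▸ (Commute.refl g).mul_right (Commute.refl g)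
  rcases h.cent g hgM hgu1 with h1 | h1
  · exact h.u_notMem (by rw [← hgg]; exact E.mul_mem h1 h1)
  · have h2 := h.sq _ h1
    rw [hgu1.symm.mul_mul_mul_comm, h.sq_u, mul_one, hgg] at h2
    exact h.u_notMem (h2 ▸ E.one_mem)

end TorusData

end Cfsg.Agent.H51.Asch
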