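import Cfsg.Agent.H51.Asch.Weights
import Mathlib.GroupTheory.GroupAction.Quotient

/-!
The weight lemmas for an elementary abelian `Z` on whose non-identity elements `P` is regular:
if `Z ≤ C_R(E)` and `P` centralises `C_R(E) / Z` then `P` is semiregular on `⁅R, P⁆`.
-/

set_option autoImplicit false
set_option linter.style.haveILetI false

namespace Cfsg.Agent.H51.Asch

open Subgroup
open scoped commutatorElement Classical

universe u

variable {G : Type u} [Group G] {P : Subgroup G}

/-- Killing passes through an extension centralised by `P`. -/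
theorem killsAll_of_extension [Finite G] {C N : Subgroup G} (hcomm : ∀ a b : P, a * b = b * a)
    (hodd : Odd (Nat.card P)) (hPN : P ≤ normalizer (N : Set G)) {l : List P}
    (hN : KillsAll N (lmul l (nOne P)))
    (hC : ∀ b ∈ P, ∀ c ∈ C, b * c * b⁻¹ * c⁻¹ ∈ N) : KillsAll C (lmul l (nOne P)) := by
  intro H K hH s x hx
  obtain ⟨V, _, ⟨M⟩⟩ := s.exists_model
  rw [← M.val_eq_zero (ev_mem s.normH _ hx), M.val_ev s.normH _ hx]
  set L := lmul l (nOne P) with hL
  have hk : ∀ k : List P,
      M.phi L (M.phi k (M.val x)) = k.length • M.phi L (M.val x) := by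
    intro k
    induction k with
    | nil => simp
    | cons b k ih =>
      have hd : (b : G) * x * (b : G)⁻¹ * x⁻¹ ∈ H :=
        H.mul_mem ((mem_normalizer_iff.mp (s.normH b.2) x).mp hx) (inv_mem hx)
      have h0 : M.phi L (M.val ((b : G) * x * (b : G)⁻¹ * x⁻¹)) = 0 := by
        rw [← M.val_ev s.normH _ hd, M.val_eq_zero (ev_mem s.normH _ hd)]
        exact (hN _ _ inf_le_right (s.inf hPN) _ ⟨hd, hC b b.2 x (hH hx)⟩).1
      rw [M.val_mul ((mem_normalizer_iff.mp (s.normH b.2) x).mp hx) (inv_mem hx), M.val_inv hx,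
        M.val_conj s.normH b hx, map_add] at h0
      rw [Model.phi_cons, List.length_cons, succ_nsmul', ← ih]
      change M.phi L (M.rho b (M.val x) + M.phi k (M.val x)) = _
      rw [map_add]
      congr 1
      calc M.phi L (M.rho b (M.val x))
          = M.phi L (M.rho b (M.val x)) + (M.phi L (M.val x) + M.phi L (M.val x)) := by
            rw [M.add_self, add_zero]
        _ = M.phi L (M.val x) := by rw [← add_assoc, h0, zero_add]
  have hzero : M.phi L (M.phi (nOne P) (M.val x)) = 0 := by
    obtain ⟨j, hj⟩ : Even (nOne P).length := by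
      rw [nOne, List.length_cons, length_elems]; exact hodd.add_one
    rw [hk, hj, add_nsmul]
    exact M.add_self _
  refine M.phi_eq_zero_of_pow hcomm hodd L (n := 2) ?_
  have e : M.phi L ^ 2 = M.phi l * (M.phi L * M.phi (nOne P)) := by
    rw [(M.phi_commute hcomm L (nOne P)).eq, ← mul_assoc, hL, M.phi_lmul, sq]
  rw [e]
  change M.phi l (M.phi L (M.phi (nOne P) (M.val x))) = 0
  rw [hzero, map_zero]

/-- Killers and an adjoint inverse for a regular action on an elementary abelian group. -/
theorem exists_killers [Finite G] (hcomm : ∀ a b : P, a * b = b * a) (h4 : 4 ≤ Nat.card P)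
    {Z : Subgroup G} (hPZ : P ≤ normalizer (Z : Set G)) (hsq : ∀ z ∈ Z, z * z = 1)
    (hreg : ∀ z ∈ Z, z ≠ 1 → ∀ z' ∈ Z, z' ≠ 1 → ∃! b : P, (b : G) * z * (b : G)⁻¹ = z')
    (hne : Z ≠ ⊥) :
    ∃ l m : List P, ∀ z ∈ Z, ev l z = 1 ∧ ev (1 :: lmul m (linv l)) z = 1 := by
  have s : Sec P Z ⊥ :=
    ⟨bot_le, fun z hz => mem_bot.mpr (hsq z hz), hPZ, le_normalizer_iff.mpr fun b _ n hn => by
      rw [mem_bot] at hn ⊢; subst hn; group⟩
  obtain ⟨V, _, ⟨M⟩⟩ := s.exists_model
  obtain ⟨⟨z, hz⟩, hzne⟩ := Subgroup.ne_bot_iff_exists_ne_one.mp hne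
  have hz1 : z ≠ 1 := fun h => hzne (Subtype.ext h)
  set v := M.val z with hv
  have hv0 : v ≠ 0 := fun h => hz1 (mem_bot.mp ((M.val_eq_zero hz).mp h))
  have hval : ∀ {a b : G}, a ∈ Z → b ∈ Z → M.val a = M.val b → a = b := fun {a b} ha hb h => by
    refine eq_of_mul_inv_eq_one (mem_bot.mp ((M.val_eq_zero (Z.mul_mem ha (inv_mem hb))).mp ?_))
    rw [M.val_mul ha (inv_mem hb), M.val_inv hb, h, M.add_self]
  have horb : ∀ w : V, w ≠ 0 → ∃ b : P, M.rho b v = w := fun w hw => by
    obtain ⟨y, hy, rfl⟩ := M.exists_val w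
    obtain ⟨b, hb, -⟩ := hreg z hz hz1 y hy fun h => hw (by rw [h, M.val_one])
    exact ⟨b, by rw [hv, ← M.val_conj hPZ b hz, hb]⟩
  have hfree : ∀ b c : P, M.rho b v = M.rho c v → b = c := fun b c h => by
    rw [hv, ← M.val_conj hPZ b hz, ← M.val_conj hPZ c hz] at h
    have he := hval ((mem_normalizer_iff.mp (hPZ b.2) z).mp hz)
      ((mem_normalizer_iff.mp (hPZ c.2) z).mp hz) h
    refine (hreg z hz hz1 _ ((mem_normalizer_iff.mp (hPZ b.2) z).mp hz) fun h1 => hz1 ?_).unique
      rfl he.symm
    rwa [conj_eq_one_iff] at h1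
  have hop : ∀ k : List P, M.phi k v = 0 → ∀ y ∈ Z, ev k y = 1 := by
    intro k hk y hy
    have hy0 : M.phi k (M.val y) = 0 := by
      by_cases hw : M.val y = 0
      · rw [hw, map_zero]
      · obtain ⟨c, hc⟩ := horb _ hw
        have := (M.phi_commute hcomm k [c]).eq
        simp only [Model.phi_cons, Model.phi_nil, add_zero] at this
        rw [← hc]
        change (M.phi k * M.rho c) v = 0
        rw [this]
        change M.rho c (M.phi k v) = 0
        rw [hk, map_zero]
    rw [← M.val_ev hPZ k hy, M.val_eq_zero (ev_mem hPZ k hy)] at hy0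
    exact mem_bot.mp hy0
  have hsum : ∀ b : P, b ≠ 1 → v + M.rho b v ≠ 0 := fun b hb h => hb (hfree b 1 (by
    rw [_root_.map_one]
    change M.rho b v = v
    calc M.rho b v = v + v + M.rho b v := by rw [M.add_self, zero_add]
      _ = v := by rw [add_assoc, h, add_zero]))
  obtain ⟨b, hb1, hb3⟩ : ∃ b : P, b ≠ 1 ∧ v + M.rho b v + M.rho (b * b) v ≠ 0 := by
    by_contra hcon
    push Not at hcon
    obtain ⟨b, hb⟩ : ∃ b : P, b ≠ 1 := by
      haveI : Nontrivial P := Finite.one_lt_card_iff_nontrivial.mp (by omega)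
      exact exists_ne 1
    have hall : ∀ c : P, c = 1 ∨ c = b ∨ c = b * b := by
      intro c
      by_cases hc1 : c = 1
      · exact .inl hc1
      by_cases hcb : c = b
      · exact .inr (.inl hcb)
      refine .inr (.inr ?_)
      have hd : M.rho c v + M.rho b v ≠ 0 := fun h => hcb (hfree c b (by
        calc M.rho c v = M.rho c v + (M.rho b v + M.rho b v) := by rw [M.add_self, add_zero]
          _ = M.rho b v := by rw [← add_assoc, h, zero_add]))
      obtain ⟨f, hf⟩ := horb _ hd
      have hbb := hcon b hb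
      have hcc := hcon c hc1
      have key : M.rho f (M.rho c v + M.rho (b * b) v) = 0 := by
        calc M.rho f (M.rho c v + M.rho (b * b) v)
            = (M.rho c + M.rho (b * b)) (M.rho f v) := by
              have := (M.phi_commute hcomm [c, b * b] [f]).eq
              simp only [Model.phi_cons, Model.phi_nil, add_zero] at this
              exact (DFunLike.congr_fun this v).symm
          _ = 0 := by
            rw [hf]
            change M.rho c (M.rho c v + M.rho b v) + M.rho (b * b) (M.rho c v + M.rho b v) = 0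
            have e1 : ∀ p q : P, M.rho p (M.rho q v) = M.rho (p * q) v := fun p q => by
              rw [_root_.map_mul]; rfl
            have hbbb : M.rho (b * b * b) v = v := by
              have h3 : M.rho b (v + M.rho b v + M.rho (b * b) v) = 0 := by rw [hbb, map_zero]
              rw [map_add, map_add, e1, e1, ← mul_assoc] at h3
              calc M.rho (b * b * b) v
                  = (v + M.rho b v + M.rho (b * b) v) + M.rho (b * b * b) v := by
                    rw [hbb, zero_add]
                _ = v + (M.rho b v + M.rho (b * b) v + M.rho (b * b * b) v) := by abel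
                _ = v := by rw [h3, add_zero]
            rw [map_add, map_add, e1, e1, e1, e1, hbbb, hcomm (b * b) c,
              show M.rho (c * c) v + M.rho (c * b) v + (M.rho (c * (b * b)) v + v) =
                (v + M.rho c v + M.rho (c * c) v) +
                  M.rho c (v + M.rho b v + M.rho (b * b) v) from by
                rw [map_add, map_add, e1, e1]
                calc M.rho (c * c) v + M.rho (c * b) v + (M.rho (c * (b * b)) v + v)
                    = M.rho (c * c) v + M.rho (c * b) v + M.rho (c * (b * b)) v + v +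
                        (M.rho c v + M.rho c v) := by rw [M.add_self]; abel
                  _ = _ := by abel,
              hcc, hbb, map_zero, add_zero]
      have hz0 : M.rho c v + M.rho (b * b) v = 0 := by
        have h1 : M.rho f⁻¹ (M.rho f (M.rho c v + M.rho (b * b) v)) = 0 := by rw [key, map_zero]
        change (M.rho f⁻¹ * M.rho f) _ = 0 at h1
        rw [← _root_.map_mul, inv_mul_cancel, _root_.map_one] at h1
        exact h1
      exact hfree c (b * b) (by
        calc M.rho c v = M.rho c v + (M.rho (b * b) v + M.rho (b * b) v) := by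
              rw [M.add_self, add_zero]
          _ = M.rho (b * b) v := by rw [← add_assoc, hz0, zero_add])
    have hle : Nat.card P ≤ 3 := by
      refine le_trans (Nat.card_le_card_of_surjective
        (fun i : Fin 3 => ![1, b, b * b] i) fun c => ?_) (Nat.card_fin 3).le
      rcases hall c with h | h | h
      · exact ⟨0, h.symm⟩
      · exact ⟨1, h.symm⟩
      · exact ⟨2, h.symm⟩
    omega
  obtain ⟨t, ht⟩ := horb _ (hsum b hb1)
  have hl : M.phi [1, b, t] v = 0 := by
    simp only [Model.phi_cons, Model.phi_nil, add_zero, _root_.map_one]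
    change v + (M.rho b v + M.rho t v) = 0
    rw [ht, ← add_assoc, M.add_self]
  have hinv : M.phi (linv [1, b, t]) v ≠ 0 := by
    intro h
    apply hb3
    have e1 : ∀ p q : P, M.rho p (M.rho q v) = M.rho (p * q) v := fun p q => by
      rw [_root_.map_mul]; rfl
    have h2 : M.rho (b * t) (M.phi (linv [1, b, t]) v) = 0 := by rw [h, map_zero]
    simp only [linv, List.map_cons, List.map_nil, Model.phi_cons, Model.phi_nil, add_zero,
      inv_one] at h2
    change M.rho (b * t) (M.rho 1 v + (M.rho b⁻¹ v + M.rho t⁻¹ v)) = 0 at h2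
    rw [map_add, map_add, e1, e1, e1, mul_one, hcomm b t, mul_assoc t b, mul_inv_cancel, mul_one,
      hcomm t b, mul_assoc, mul_inv_cancel, mul_one, ← e1, ht, map_add, e1] at h2
    calc v + M.rho b v + M.rho (b * b) v
        = M.rho b v + M.rho (b * b) v + (v + M.rho b v + M.rho b v) := by
          rw [show v + M.rho b v + M.rho b v = v by rw [add_assoc, M.add_self, add_zero]]; abel
      _ = 0 := h2
  obtain ⟨c, hc⟩ := horb _ hinv
  refine ⟨[1, b, t], [c⁻¹], fun y hy => ⟨hop _ hl y hy, hop _ ?_ y hy⟩⟩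
  rw [Model.phi_cons, M.phi_lmul, _root_.map_one]
  simp only [Model.phi_cons, Model.phi_nil, add_zero]
  change v + M.rho c⁻¹ (M.phi (linv [1, b, t]) v) = 0
  rw [← hc]
  change v + (M.rho c⁻¹ * M.rho c) v = 0
  rw [← _root_.map_mul, inv_mul_cancel, _root_.map_one]
  exact M.add_self v

/-- The powers of `b`. -/
noncomputable def powers (b : P) : List P := (List.range (orderOf b)).map (b ^ ·)

theorem length_powers (b : P) : (powers b).length = orderOf b := by simp [powers]

theorem ev_powers_eq_one [Finite G] {Z : Subgroup G} (hPZ : P ≤ normalizer (Z : Set G))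
    (hsq : ∀ z ∈ Z, z * z = 1)
    (hreg : ∀ z ∈ Z, z ≠ 1 → ∀ z' ∈ Z, z' ≠ 1 → ∃! b : P, (b : G) * z * (b : G)⁻¹ = z')
    {b : P} (hb : b ≠ 1) {z : G} (hz : z ∈ Z) : ev (powers b) z = 1 := by
  have s : Sec P Z ⊥ :=
    ⟨bot_le, fun z hz => mem_bot.mpr (hsq z hz), hPZ, le_normalizer_iff.mpr fun b _ n hn => by
      rw [mem_bot] at hn ⊢; subst hn; group⟩
  obtain ⟨V, _, ⟨M⟩⟩ := s.exists_model
  set w := ev (powers b) z with hw
  have hwZ : w ∈ Z := ev_mem hPZ _ hz
  have hfix : (b : G) * w * (b : G)⁻¹ = w := by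
    have hcw : (b : G) * w * (b : G)⁻¹ ∈ Z := (mem_normalizer_iff.mp (hPZ b.2) w).mp hwZ
    refine eq_of_mul_inv_eq_one (mem_bot.mp ((M.val_eq_zero (Z.mul_mem hcw (inv_mem hwZ))).mp ?_))
    rw [M.val_mul hcw (inv_mem hwZ), M.val_inv hwZ, M.val_conj hPZ b hwZ, hw, M.val_ev hPZ _ hz]
    change (M.rho b * M.phi (powers b)) (M.val z) + M.phi (powers b) (M.val z) = 0
    have e : M.rho b * M.phi (powers b) = M.phi (powers b) := by
      have hsum : M.phi (powers b) = ∑ i ∈ Finset.range (orderOf b), M.rho b ^ i := by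
        rw [Model.phi, powers, List.map_map, ← List.sum_toFinset _ List.nodup_range,
          List.toFinset_range]
        exact Finset.sum_congr rfl fun i _ => _root_.map_pow M.rho b i
      rw [hsum, Finset.mul_sum]
      have h1 : ∀ i, M.rho b * M.rho b ^ i = M.rho b ^ (i + 1) := fun i => (pow_succ' _ i).symm
      simp only [h1]
      have h2 := Finset.sum_range_succ' (fun i => M.rho b ^ i) (orderOf b)
      rw [Finset.sum_range_succ, ← _root_.map_pow, pow_orderOf_eq_one, _root_.map_one,
        pow_zero] at h2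
      exact (add_right_cancel h2).symm
    rw [e, M.add_self]
  by_contra hw1
  exact hb ((hreg w hwZ hw1 w hwZ hw1).unique hfix (by simp))

/-- A semiregular action gives the congruence of the order. -/
theorem card_dvd_card_sub_one [Finite G] {Q : Subgroup G} (hPQ : P ≤ normalizer (Q : Set G))
    (hfree : ∀ b : P, b ≠ 1 → ∀ x ∈ Q, (b : G) * x * (b : G)⁻¹ = x → x = 1) :
    Nat.card P ∣ Nat.card Q - 1 := by
  let X := {x : G // x ∈ Q ∧ x ≠ 1}
  letI : MulAction P X :=
    { smul := fun b x => ⟨(b : G) * x.1 * (b : G)⁻¹,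
        (mem_normalizer_iff.mp (hPQ b.2) x.1).mp x.2.1,
        fun h => x.2.2 (by rwa [conj_eq_one_iff] at h)⟩
      one_smul := fun x => Subtype.ext (by simp [HSMul.hSMul, SMul.smul])
      mul_smul := fun a b x => Subtype.ext (by simp [HSMul.hSMul, SMul.smul, mul_assoc]) }
  have hX : Nat.card X = Nat.card Q - 1 := by
    rw [show Nat.card X = Set.ncard ((Q : Set G) \ {1}) from Nat.card_coe_set_eq _,
      Set.ncard_sdiff_singleton_of_mem Q.one_mem]
    rfl
  rw [← hX, Nat.card_congr (MulAction.selfEquivOrbitsQuotientProd (G := P) (X := X) fun x =>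
    (eq_bot_iff_forall _).mpr fun b hb => ?_), Nat.card_prod]
  · exact dvd_mul_left _ _
  · by_contra hb1
    exact x.2.2 (hfree b hb1 x.1 x.2.1 (congrArg Subtype.val hb))

/-- `P` is semiregular on the non-identity elements of `⁅R, P⁆`. -/
theorem commutator_semiregular [Finite G] (hcomm : ∀ a b : P, a * b = b * a)
    (hodd : Odd (Nat.card P)) (h4 : 4 ≤ Nat.card P) {R E Z : Subgroup G} (hR : IsPGroup 2 R)
    (hPR : P ≤ normalizer (R : Set G)) (hER : E ≤ R) (hPE : P ≤ centralizer (E : Set G))
    (hPZ : P ≤ normalizer (Z : Set G)) (hne : Z ≠ ⊥) (hsq : ∀ z ∈ Z, z * z = 1)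
    (hreg : ∀ z ∈ Z, z ≠ 1 → ∀ z' ∈ Z, z' ≠ 1 → ∃! b : P, (b : G) * z * (b : G)⁻¹ = z')
    (hC : ∀ b ∈ P, ∀ c ∈ R ⊓ centralizer (E : Set G), b * c * b⁻¹ * c⁻¹ ∈ Z) :
    ⁅R, P⁆ ⊓ centralizer (P : Set G) = ⊥ ∧
      (∀ b : P, b ≠ 1 → ∀ x ∈ ⁅R, P⁆, (b : G) * x * (b : G)⁻¹ = x → x = 1) ∧
      Nat.card P ∣ Nat.card (⁅R, P⁆ : Subgroup G) - 1 := by
  have hall : ∀ k : List P, (∀ z ∈ Z, ev k z = 1) → KillsAll R (lmul k (nOne P)) := fun k hk =>
    killsAll_of_centralizer hcomm hodd hR hPR hER hPE
      (killsAll_of_extension hcomm hodd hPZ (killsAll_lmul _ (killsAll_of_ev_eq_one hk)) hC)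
  obtain ⟨l, m, hlm⟩ := exists_killers hcomm h4 hPZ hsq hreg hne
  have hl := hall l fun z hz => (hlm z hz).1
  have hm := hall _ fun z hz => (hlm z hz).2
  have hfree : ∀ b : P, b ≠ 1 → ∀ x ∈ ⁅R, P⁆, (b : G) * x * (b : G)⁻¹ = x → x = 1 := by
    intro b hb x hx hfix
    refine eq_one_of_fixed hcomm hodd hR hPR hl hm (L := powers b) ?_
      (hall _ fun z hz => ev_powers_eq_one hPZ hsq hreg hb hz) hx fun c hc => ?_
    · rw [length_powers]; exact hodd.of_dvd_nat (orderOf_dvd_natCard b)
    · obtain ⟨i, -, rfl⟩ := List.mem_map.mp hc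
      have hcc : Commute (b : G) x := mul_inv_eq_iff_eq_mul.mp hfix
      rw [SubgroupClass.coe_pow, (hcc.pow_left i).eq, mul_inv_cancel_right]
  exact ⟨commutator_inf_centralizer_eq_bot hcomm hodd hR hPR hl hm, hfree,
    card_dvd_card_sub_one (normalizer_commutator_ge_right R P) hfree⟩

end Cfsg.Agent.H51.Asch
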