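import Cfsg.Agent.Coprime.Centralize
import Mathlib.Data.List.Flatten
import Mathlib.FieldTheory.Finite.Basic

/-!
Elementary abelian sections under an abelian group `P` of odd order: the operator of a list of
elements of `P` (an element of the group ring over the field with two elements), which vanishes as
soon as some power of it does.
-/

set_option autoImplicit false
set_option linter.style.haveILetI false

namespace Cfsg.Agent.H51.Asch

open Subgroup
open scoped Classical

universe u

variable {G : Type u} [Group G] {P : Subgroup G}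

/-- The product of the conjugates of `h` by the members of `l`. -/
def ev (l : List P) (h : G) : G := (l.map fun b : P => (b : G) * h * (b : G)⁻¹).prod

@[simp] theorem ev_nil (h : G) : ev ([] : List P) h = 1 := rfl

@[simp] theorem ev_cons (b : P) (l : List P) (h : G) :
    ev (b :: l) h = (b : G) * h * (b : G)⁻¹ * ev l h := rfl

theorem ev_mem {H : Subgroup G} (hPH : P ≤ normalizer (H : Set G)) (l : List P) {h : G}
    (hh : h ∈ H) : ev l h ∈ H := by
  induction l with
  | nil => exact one_mem H
  | cons b l ih =>
    rw [ev_cons]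
    exact mul_mem ((mem_normalizer_iff.mp (hPH b.2) h).mp hh) ih

theorem ev_iterate_mem {H : Subgroup G} (hPH : P ≤ normalizer (H : Set G)) (l : List P) {h : G}
    (hh : h ∈ H) (n : ℕ) : (ev l)^[n] h ∈ H := by
  induction n with
  | zero => exact hh
  | succ n ih => rw [Function.iterate_succ_apply']; exact ev_mem hPH l ih

theorem ev_one (l : List P) : ev l (1 : G) = 1 := by
  induction l with
  | nil => rfl
  | cons b l ih => rw [ev_cons, ih]; group

/-- The product in the group ring. -/
def lmul (l m : List P) : List P := l.flatMap fun a => m.map (a * ·)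

theorem length_lmul (l m : List P) : (lmul l m).length = l.length * m.length := by
  induction l with
  | nil => simp [lmul]
  | cons a l ih =>
    simp only [lmul, List.flatMap_cons, List.length_append, List.length_map] at *
    rw [ih]; simp only [List.length_cons]; ring

/-- An elementary abelian `P`-section `H / K`. -/
structure Sec (P H K : Subgroup G) : Prop where
  le : K ≤ H
  sq : ∀ h ∈ H, h * h ∈ K
  normH : P ≤ normalizer (H : Set G)
  normK : P ≤ normalizer (K : Set G)

theorem inf_norm {A B X : Subgroup G} (hA : X ≤ normalizer (A : Set G))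
    (hB : X ≤ normalizer (B : Set G)) : X ≤ normalizer ((A ⊓ B : Subgroup G) : Set G) :=
  le_normalizer_iff.mpr fun x hx n hn =>
    ⟨(mem_normalizer_iff.mp (hA hx) n).mp hn.1, (mem_normalizer_iff.mp (hB hx) n).mp hn.2⟩

theorem Sec.inf {H K N : Subgroup G} (s : Sec P H K) (hN : P ≤ normalizer (N : Set G)) :
    Sec P (H ⊓ N) (K ⊓ N) where
  le := inf_le_inf_right _ s.le
  sq h hh := ⟨s.sq h hh.1, N.mul_mem hh.2 hh.2⟩
  normH := inf_norm s.normH hN
  normK := inf_norm s.normK hN

theorem Sec.comm {H K : Subgroup G} (s : Sec P H K) {x y : G} (hx : x ∈ H) (hy : y ∈ H) :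
    x * y * x⁻¹ * y⁻¹ ∈ K := by
  have e : x * y * x⁻¹ * y⁻¹ = x * x * (x⁻¹ * y * (x⁻¹ * y)) * (y⁻¹ * y⁻¹) := by group
  rw [e]
  exact mul_mem (mul_mem (s.sq x hx) (s.sq _ (mul_mem (inv_mem hx) hy))) (s.sq _ (inv_mem hy))

/-- The list `l` kills every elementary abelian `P`-section of `R`. -/
def KillsAll (R : Subgroup G) (l : List P) : Prop :=
  ∀ H K : Subgroup G, H ≤ R → Sec P H K → ∀ h ∈ H, ev l h ∈ K

/-- An additive model of a section. -/
structure Model (P H K : Subgroup G) (V : Type u) [AddCommGroup V] where
  proj : H → V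
  rho : P →* AddMonoid.End V
  surj : Function.Surjective proj
  map_mul : ∀ x y : H, proj (x * y) = proj x + proj y
  eq_zero : ∀ x : H, proj x = 0 ↔ (x : G) ∈ K
  conj : ∀ (b : P) (x : H) (hx : (b : G) * x * (b : G)⁻¹ ∈ H),
    rho b (proj x) = proj ⟨_, hx⟩
  add_self : ∀ v : V, v + v = 0

theorem Sec.exists_model {H K : Subgroup G} (s : Sec P H K) :
    ∃ (V : Type u) (_ : AddCommGroup V), Nonempty (Model P H K V) := by
  set N := K.subgroupOf H with hN
  haveI hn : N.Normal := ⟨fun n hn g => by
    rw [hN, mem_subgroupOf] at hn ⊢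
    push_cast
    have := mul_mem (s.comm g.2 n.2) hn
    simpa [mul_assoc] using this⟩
  letI : CommGroup (H ⧸ N) :=
    { (inferInstance : Group (H ⧸ N)) with
      mul_comm := fun a b => by
        induction a using QuotientGroup.induction_on with
        | _ x =>
          induction b using QuotientGroup.induction_on with
          | _ y =>
            rw [← QuotientGroup.mk_mul, ← QuotientGroup.mk_mul, QuotientGroup.eq, hN,
              mem_subgroupOf]
            push_cast
            have := s.comm (inv_mem y.2) (inv_mem x.2)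
            simpa [mul_assoc] using this }
  let c : P → (H →* H) := fun b =>
    { toFun := fun x => ⟨(b : G) * x * (b : G)⁻¹, (mem_normalizer_iff.mp (s.normH b.2) x).mp x.2⟩
      map_one' := Subtype.ext (by simp)
      map_mul' := fun x y => Subtype.ext (by simp [mul_assoc]) }
  have hc : ∀ b, N ≤ N.comap (c b) := fun b x hx => by
    rw [mem_comap, hN, mem_subgroupOf]
    exact (mem_normalizer_iff.mp (s.normK b.2) x).mp (mem_subgroupOf.mp hx)
  let r : P →* AddMonoid.End (Additive (H ⧸ N)) :=
    { toFun := fun b => MonoidHom.toAdditive (QuotientGroup.map N N (c b) (hc b))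
      map_one' := by
        refine AddMonoidHom.ext fun a => ?_
        obtain ⟨x, hx⟩ := QuotientGroup.mk_surjective a.toMul
        obtain rfl : a = Additive.ofMul (x : H ⧸ N) := by rw [hx]; rfl
        change Additive.ofMul ((c 1 x : H) : H ⧸ N) = Additive.ofMul (x : H ⧸ N)
        congr 2
        exact Subtype.ext (by simp [c])
      map_mul' := fun b b' => by
        refine AddMonoidHom.ext fun a => ?_
        obtain ⟨x, hx⟩ := QuotientGroup.mk_surjective a.toMul
        obtain rfl : a = Additive.ofMul (x : H ⧸ N) := by rw [hx]; rfl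
        change Additive.ofMul ((c (b * b') x : H) : H ⧸ N) =
          Additive.ofMul ((c b (c b' x) : H) : H ⧸ N)
        congr 2
        exact Subtype.ext (by simp [c, mul_assoc]) }
  refine ⟨Additive (H ⧸ N), inferInstance,
    ⟨⟨fun x => Additive.ofMul (x : H ⧸ N), r, ?_, fun x y => rfl, ?_, ?_, ?_⟩⟩⟩
  · intro a
    obtain ⟨x, hx⟩ := QuotientGroup.mk_surjective a.toMul
    exact ⟨x, by simp only; rw [hx]; rfl⟩
  · intro x
    exact (QuotientGroup.eq_one_iff x).trans (by rw [hN, mem_subgroupOf])
  · intro b x hx; rfl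
  · intro a
    obtain ⟨x, hx⟩ := QuotientGroup.mk_surjective a.toMul
    obtain rfl : a = Additive.ofMul (x : H ⧸ N) := by rw [hx]; rfl
    change Additive.ofMul ((x * x : H) : H ⧸ N) = Additive.ofMul (1 : H ⧸ N)
    congr 1
    rw [QuotientGroup.eq_one_iff, hN, mem_subgroupOf]
    exact s.sq x x.2

namespace Model

variable {H K : Subgroup G} {V : Type u} [AddCommGroup V] (M : Model P H K V)

theorem map_one : M.proj 1 = 0 := (M.eq_zero 1).mpr (one_mem K)

/-- The projection on elements of `G`. -/
noncomputable def val (x : G) : V := if hx : x ∈ H then M.proj ⟨x, hx⟩ else 0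

theorem val_of_mem {x : G} (hx : x ∈ H) : M.val x = M.proj ⟨x, hx⟩ := dif_pos hx

theorem val_mul {x y : G} (hx : x ∈ H) (hy : y ∈ H) : M.val (x * y) = M.val x + M.val y := by
  rw [M.val_of_mem hx, M.val_of_mem hy, M.val_of_mem (mul_mem hx hy)]
  exact M.map_mul ⟨x, hx⟩ ⟨y, hy⟩

theorem val_one : M.val 1 = 0 := by rw [M.val_of_mem (one_mem H)]; exact M.map_one

theorem val_inv {x : G} (hx : x ∈ H) : M.val x⁻¹ = M.val x := by
  have h := M.val_mul hx (inv_mem hx)
  rw [mul_inv_cancel, M.val_one] at h
  calc M.val x⁻¹ = M.val x + M.val x + M.val x⁻¹ := by rw [M.add_self, zero_add]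
    _ = M.val x := by rw [add_assoc, ← h, add_zero]

theorem val_eq_zero {x : G} (hx : x ∈ H) : M.val x = 0 ↔ x ∈ K := by
  rw [M.val_of_mem hx]; exact M.eq_zero _

theorem exists_val (v : V) : ∃ x ∈ H, M.val x = v := by
  obtain ⟨⟨x, hx⟩, rfl⟩ := M.surj v
  exact ⟨x, hx, M.val_of_mem hx⟩

theorem val_conj (hPH : P ≤ normalizer (H : Set G)) (b : P) {x : G} (hx : x ∈ H) :
    M.val ((b : G) * x * (b : G)⁻¹) = M.rho b (M.val x) := by
  have h := (mem_normalizer_iff.mp (hPH b.2) x).mp hx
  rw [M.val_of_mem h, M.val_of_mem hx]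
  exact (M.conj b ⟨x, hx⟩ h).symm

/-- The operator of a list. -/
def phi (l : List P) : AddMonoid.End V := (l.map M.rho).sum

@[simp] theorem phi_nil : M.phi [] = 0 := rfl

@[simp] theorem phi_cons (b : P) (l : List P) : M.phi (b :: l) = M.rho b + M.phi l := rfl

theorem phi_append (l m : List P) : M.phi (l ++ m) = M.phi l + M.phi m := by
  simp [phi]

theorem phi_lmul (l m : List P) : M.phi (lmul l m) = M.phi l * M.phi m := by
  induction l with
  | nil => simp [lmul]
  | cons a l ih =>
    have : lmul (a :: l) m = m.map (a * ·) ++ lmul l m := by simp [lmul]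
    rw [this, M.phi_append, ih, phi_cons, add_mul]
    congr 1
    clear ih this
    induction m with
    | nil => simp
    | cons b m ihm =>
      simp only [List.map_cons, phi_cons, _root_.map_mul, mul_add]
      rw [ihm]

theorem val_ev (hPH : P ≤ normalizer (H : Set G)) (l : List P) {x : G} (hx : x ∈ H) :
    M.val (ev l x) = M.phi l (M.val x) := by
  induction l with
  | nil => simpa using M.val_one
  | cons b l ih =>
    rw [ev_cons, M.val_mul ((mem_normalizer_iff.mp (hPH b.2) x).mp hx) (ev_mem hPH l hx),
      M.val_conj hPH b hx, ih, phi_cons]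
    rfl

theorem val_iterate (hPH : P ≤ normalizer (H : Set G)) (l : List P) {x : G} (hx : x ∈ H) (n : ℕ) :
    M.val ((ev l)^[n] x) = (M.phi l ^ n) (M.val x) := by
  induction n with
  | zero => simp
  | succ n ih =>
    rw [Function.iterate_succ_apply', M.val_ev hPH l (ev_iterate_mem hPH l hx n), ih, pow_succ']
    rfl

include M in
theorem end_add_self (f : AddMonoid.End V) : f + f = 0 :=
  AddMonoidHom.ext fun v => M.add_self (f v)

theorem rho_commute (hcomm : ∀ a b : P, a * b = b * a) (a b : P) :
    Commute (M.rho a) (M.rho b) := by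
  rw [Commute, SemiconjBy, ← _root_.map_mul, ← _root_.map_mul, hcomm]

theorem phi_commute (hcomm : ∀ a b : P, a * b = b * a) (l m : List P) :
    Commute (M.phi l) (M.phi m) := by
  have h1 : ∀ a, Commute (M.rho a) (M.phi m) := fun a => by
    induction m with
    | nil => simp
    | cons b m ih => rw [phi_cons]; exact (M.rho_commute hcomm a b).add_right ih
  induction l with
  | nil => simp
  | cons a l ih => rw [phi_cons]; exact (h1 a).add_left ih

theorem phi_sq (hcomm : ∀ a b : P, a * b = b * a) (l : List P) :
    M.phi l ^ 2 = M.phi (l.map (· ^ 2)) := by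
  induction l with
  | nil => simp
  | cons a l ih =>
    have hc : M.phi l * M.rho a = M.rho a * M.phi l := by
      have := M.phi_commute hcomm l [a]
      simp only [phi_cons, phi_nil, add_zero] at this
      exact this.eq
    simp only [List.map_cons, phi_cons]
    rw [← ih, _root_.map_pow, sq, sq, sq, add_mul, mul_add, mul_add, hc,
      add_assoc (M.rho a * M.rho a), ← add_assoc (M.rho a * M.phi l) (M.rho a * M.phi l),
      M.end_add_self, zero_add]

theorem phi_two_pow (hcomm : ∀ a b : P, a * b = b * a) (l : List P) (k : ℕ) :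
    M.phi l ^ (2 ^ k) = M.phi (l.map (· ^ (2 ^ k))) := by
  induction k with
  | zero => simp
  | succ k ih =>
    rw [pow_succ 2 k, pow_mul, ih, M.phi_sq hcomm, List.map_map]
    congr 1
    refine List.map_congr_left fun b _ => ?_
    simp [pow_mul]

/-- If a power of the operator kills a vector then the operator kills it. -/
theorem phi_eq_zero_of_pow [Finite G] (hcomm : ∀ a b : P, a * b = b * a)
    (hodd : Odd (Nat.card P)) (l : List P) {v : V} {n : ℕ} (hn : (M.phi l ^ n) v = 0) :
    M.phi l v = 0 := by
  set k := Nat.totient (Nat.card P) * n with hk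
  have hfix : ∀ b : P, b ^ (2 ^ k) = b := fun b => by
    have h1 : 2 ^ k ≡ 1 [MOD Nat.card P] := by
      rw [hk, pow_mul]
      simpa using (Nat.ModEq.pow_totient (Nat.coprime_two_left.mpr hodd)).pow n
    have h2 : 2 ^ k ≡ 1 [MOD orderOf b] := h1.of_dvd (orderOf_dvd_natCard b)
    rw [← pow_one b, ← pow_mul, one_mul]
    exact pow_eq_pow_iff_modEq.mpr h2
  have hle : n ≤ 2 ^ k := by
    refine le_trans ?_ (Nat.lt_two_pow_self (n := k)).le
    exact Nat.le_mul_of_pos_left n (Nat.totient_pos.mpr Nat.card_pos)
  have h := M.phi_two_pow hcomm l k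
  rw [List.map_congr_left (fun b _ => hfix b), List.map_id'] at h
  rw [← h, ← Nat.sub_add_cancel hle, pow_add]
  change (M.phi l ^ (2 ^ k - n)) ((M.phi l ^ n) v) = 0
  rw [hn, map_zero]

end Model

/-- An element sent into `K` by an iterate of `ev l` is sent into `K` by `ev l`. -/
theorem Sec.mem_of_iterate [Finite G] {H K : Subgroup G} (s : Sec P H K)
    (hcomm : ∀ a b : P, a * b = b * a) (hodd : Odd (Nat.card P)) (l : List P) {h : G}
    (hh : h ∈ H) {n : ℕ} (hn : (ev l)^[n] h ∈ K) : ev l h ∈ K := by
  obtain ⟨V, _, ⟨M⟩⟩ := s.exists_model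
  rw [← M.val_eq_zero (ev_mem s.normH l hh), M.val_ev s.normH l hh]
  refine M.phi_eq_zero_of_pow hcomm hodd l (n := n) ?_
  rw [← M.val_iterate s.normH l hh, M.val_eq_zero (ev_iterate_mem s.normH l hh n)]
  exact hn

/-- Killing is inherited from a subgroup and a layer above it. -/
theorem killsAll_of_layer [Finite G] {R N : Subgroup G} (hPN : P ≤ normalizer (N : Set G))
    (hcomm : ∀ a b : P, a * b = b * a) (hodd : Odd (Nat.card P)) {l : List P}
    (hN : KillsAll N l) (hlayer : ∀ h ∈ R, ev l h ∈ N) : KillsAll R l := by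
  intro H K hHR s h hh
  refine s.mem_of_iterate hcomm hodd l hh (n := 2) ?_
  exact (hN _ _ inf_le_right (s.inf hPN) (ev l h) ⟨ev_mem s.normH l hh, hlayer h (hHR hh)⟩).1

theorem killsAll_of_ev_eq_one {R : Subgroup G} {l : List P} (h : ∀ x ∈ R, ev l x = 1) :
    KillsAll R l := fun _ K hHR _ x hx => by rw [h x (hHR hx)]; exact one_mem K

/-- A list of even length kills the sections of a subgroup centralised by `P`. -/
theorem killsAll_of_centralized {R : Subgroup G} {l : List P} (hl : Even l.length)
    (hR : P ≤ centralizer (R : Set G)) : KillsAll R l := by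
  intro H K hHR s x hx
  have he : ∀ m : List P, ev m x = x ^ m.length := fun m => by
    induction m with
    | nil => simp
    | cons b m ih =>
      rw [ev_cons, ih, List.length_cons, pow_succ', ← mem_centralizer_iff.mp (hR b.2) x (hHR hx)]
      group
  obtain ⟨k, hk⟩ := hl
  rw [he, hk, pow_add, ← (Commute.refl x).mul_pow]
  exact pow_mem (s.sq x hx) k

end Cfsg.Agent.H51.Asch
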