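import Cfsg.Agent.H51.Asch.Inverted

/-!
The subgroup `⁅M, A⁆` of a `TorusData`: its Frattini part is inverted by `u`, and it contains no
involution outside `E` whose centraliser has order at most `2 |E|`.
-/

set_option autoImplicit false
set_option linter.style.haveILetI false

namespace Cfsg.Agent.H51.Asch

open Subgroup
open scoped commutatorElement Classical

universe u

variable {G : Type u} [Group G] [Finite G]

namespace TorusData

variable {M E A : Subgroup G} {u : G} (h : TorusData M E A u)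
include h

theorem coprime_all : (Nat.card A).Coprime (Nat.card M) := by
  haveI : Fact (Nat.Prime 2) := ⟨Nat.prime_two⟩
  obtain ⟨n, hn⟩ := IsPGroup.iff_card.mp h.two
  rw [hn]
  exact (Nat.coprime_two_right.mpr h.odd).pow_right n

theorem exists_moving : ∃ a ∈ A, ∃ e ∈ E, a * e * a⁻¹ ≠ e := by
  obtain ⟨e, he, he1⟩ := h.exists_ne_one
  obtain ⟨e', he', he'1, hne⟩ : ∃ e' ∈ E, e' ≠ 1 ∧ e' ≠ e := by
    by_contra hc
    push Not at hc
    have : Nat.card E ≤ 2 := by
      refine le_trans (Nat.card_le_card_of_injective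
        (fun x : E => decide ((x : G) = 1)) fun x x' hx => ?_) (by simp)
      by_cases hx1 : (x : G) = 1
      · simp only [hx1, decide_true] at hx
        exact Subtype.ext (hx1.trans (of_decide_eq_true hx.symm).symm)
      · simp only [hx1, decide_false] at hx
        exact Subtype.ext ((hc x x.2 hx1).trans
          (hc x' x'.2 (of_decide_eq_false hx.symm)).symm)
    have := h.four_le
    omega
  obtain ⟨a, ha, hae⟩ := h.trans e he he1 e' he' he'1
  exact ⟨a, ha, e, he, fun hfx => hne (hae.symm.trans hfx)⟩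

theorem eq_one_or_eq_of_centralized {c : G} (hc : c ∈ M) (hca : ∀ a ∈ A, a * c * a⁻¹ = c) :
    c = 1 ∨ c = u := by
  obtain ⟨a, ha, e, he, hmove⟩ := h.exists_moving
  exact h.eq_one_or_eq ha he hmove hc (hca a ha)

theorem commutator_le : ⁅M, A⁆ ≤ M := Coprime.commutator_le_left_of_normalizer h.normM

theorem mem_or_mul_mem {g : G} (hg : g ∈ M) : g ∈ ⁅M, A⁆ ∨ g * u ∈ ⁅M, A⁆ := by
  have hs := Coprime.commutator_sup_centralizer h.normM h.coprime_all (Or.inr h.isSolvable)
  have hg' : g ∈ ⁅M, A⁆ ⊔ (M ⊓ centralizer (A : Set G)) := by rw [hs]; exact hg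
  obtain ⟨q, hq, c, hc, rfl⟩ := (Coprime.mem_sup_iff
    (inf_le_left.trans (normalizer_commutator_ge_left M A))).mp hg'
  rcases h.eq_one_or_eq_of_centralized hc.1 (fun a ha => by
    rw [mem_centralizer_iff.mp hc.2 a ha, mul_inv_cancel_right]) with rfl | rfl
  · left; rwa [mul_one]
  · right; rwa [mul_assoc, h.sq_u, mul_one]

theorem card_eq_two_mul : Nat.card M = 2 * Nat.card (⁅M, A⁆ : Subgroup G) := by
  let f : Bool × (⁅M, A⁆ : Subgroup G) → M := fun q => if q.1 then ⟨q.2, h.commutator_le q.2.2⟩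
    else ⟨(q.2 : G) * u, M.mul_mem (h.commutator_le q.2.2) h.u_mem⟩
  have hf : Function.Bijective f := by
    constructor
    · rintro ⟨b, t⟩ ⟨b', t'⟩ e
      have e' := congrArg Subtype.val e
      cases b <;> cases b' <;> simp [f] at e' ⊢
      · exact e'
      · exact h.u_notMem_commutator (by
          rw [show u = (t : G)⁻¹ * t' by rw [← e', inv_mul_cancel_left]]
          exact mul_mem (inv_mem t.2) t'.2)
      · exact h.u_notMem_commutator (by
          rw [show u = (t' : G)⁻¹ * t by rw [e', inv_mul_cancel_left]]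
          exact mul_mem (inv_mem t'.2) t.2)
      · exact e'
    · rintro ⟨g, hg⟩
      rcases h.mem_or_mul_mem hg with h1 | h1
      · exact ⟨(true, ⟨g, h1⟩), rfl⟩
      · exact ⟨(false, ⟨g * u, h1⟩), Subtype.ext (by
          simp only [f, Bool.false_eq_true, ↓reduceIte]
          rw [mul_assoc, h.sq_u, mul_one])⟩
  rw [← Nat.card_eq_of_bijective f hf, Nat.card_prod, Nat.card_eq_fintype_card (α := Bool),
    Fintype.card_bool]

theorem nxt_le_commutator : nxt M M ≤ ⁅M, A⁆ := by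
  have hM := normalizer_commutator_ge_left M A
  have hsq : ∀ g ∈ M, g * g ∈ ⁅M, A⁆ := by
    intro g hg
    rcases h.mem_or_mul_mem hg with h1 | h1
    · exact mul_mem h1 h1
    · have e : g * g = g * u * (u * (g * u) * u⁻¹) := by
        calc g * g = g * (u * u) * g * (u * u⁻¹) := by rw [h.sq_u]; group
          _ = _ := by group
      rw [e]
      exact mul_mem h1 ((mem_normalizer_iff.mp (hM h.u_mem) _).mp h1)
  refine sup_le (Subgroup.commutator_le.mpr fun x hx y hy => ?_) ((closure_le _).mpr ?_)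
  · have e : ⁅x, y⁆ = x * x * (x⁻¹ * y * (x⁻¹ * y)) * (y⁻¹ * y⁻¹) := by
      rw [commutatorElement_def]; group
    rw [e]
    exact mul_mem (mul_mem (hsq x hx) (hsq _ (mul_mem (inv_mem hx) hy))) (hsq _ (inv_mem hy))
  · rintro _ ⟨x, hx, rfl⟩
    exact hsq x hx

theorem nxt_lt_commutator : nxt M M < ⁅M, A⁆ := by
  refine lt_of_le_of_ne h.nxt_le_commutator fun he => ?_
  set N := nxt M M with hN
  have hMN : M ≤ normalizer (N : Set G) := norm_nxt le_normalizer le_normalizer
  have hNM : N ≤ M := nxt_le le_normalizer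
  have hsq : ∀ g ∈ M, g * g ∈ nxt N M := by
    intro g hg
    rcases h.mem_or_mul_mem hg with h1 | h1
    · rw [← he] at h1
      exact sq_mem_nxt h1
    · rw [← he] at h1
      have e : g * g = g * u * (g * u) * ⁅(g * u)⁻¹, u⁆ := by
        rw [commutatorElement_def]
        calc g * g = g * (u * u) * g * (u * u⁻¹) := by rw [h.sq_u]; group
          _ = _ := by group
      rw [e]
      exact mul_mem (sq_mem_nxt h1) (comm_mem_nxt (inv_mem h1) h.u_mem)
  have hle : N ≤ nxt N M := by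
    refine sup_le (Subgroup.commutator_le.mpr fun x hx y hy => ?_) ((closure_le _).mpr ?_)
    · have e : ⁅x, y⁆ = x * x * (x⁻¹ * y * (x⁻¹ * y)) * (y⁻¹ * y⁻¹) := by
        rw [commutatorElement_def]; group
      rw [e]
      exact mul_mem (mul_mem (hsq x hx) (hsq _ (mul_mem (inv_mem hx) hy))) (hsq _ (inv_mem hy))
    · rintro _ ⟨x, hx, rfl⟩
      exact hsq x hx
  by_cases hne : N = ⊥
  · obtain ⟨e, he', he1⟩ := h.exists_ne_one
    have h2 := h.le_commutator he'
    rw [← he, hne, mem_bot] at h2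
    exact he1 h2
  · exact (nxt_lt h.two hNM hMN hne).not_ge hle

/-- `⁅M, A⁆` modulo the Frattini part has order `|E|`, and every element of the Frattini part is
a commutator with `u`. -/
theorem frattini_data :
    Nat.card (⁅M, A⁆ : Subgroup G) = Nat.card E * Nat.card (nxt M M : Subgroup G) ∧
      ∀ n ∈ nxt M M, ∃ g ∈ ⁅M, A⁆, ⁅g, u⁆ = n := by
  set Q := ⁅M, A⁆ with hQ
  set N := nxt M M with hN
  obtain ⟨g, hg, hgN⟩ := SetLike.exists_of_lt h.nxt_lt_commutator
  have hge := (h.card_mul_le (S := N) (K := Q) h.nxt_le_commutator h.commutator_le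
    (norm_nxt h.normM h.normM) (normalizer_commutator_ge_right M A)
    (Or.inr h.u_notMem_commutator) hg hgN).1
  have hcent : Nat.card (Q ⊓ centralizer {u} : Subgroup G) ≤ Nat.card E := by
    refine card_le_of_le fun x hx => ?_
    rcases h.cent x (h.commutator_le hx.1) (mem_centralizer_singleton_iff.mp hx.2) with h1 | h1
    · exact h1
    · exfalso
      refine h.u_notMem_commutator ?_
      have := (⁅M, A⁆).mul_mem ((⁅M, A⁆).inv_mem hx.1) (h.le_commutator h1)
      rwa [inv_mul_cancel_left] at this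
  have hcnt := card_le_centralized_mul (K := Q) (T := N) u fun x hx =>
    comm_mem_nxt (h.commutator_le hx) h.u_mem
  refine ⟨le_antisymm (hcnt.1.trans (Nat.mul_le_mul_right _ hcent)) hge, hcnt.2 ?_⟩
  exact (Nat.mul_le_mul_right _ hcent).trans hge

/-- `u` inverts the Frattini part. -/
theorem conj_eq_inv {n : G} (hn : n ∈ nxt M M) : u * n * u⁻¹ = n⁻¹ := by
  obtain ⟨g, -, rfl⟩ := h.frattini_data.2 n hn
  rw [commutatorElement_def, h.inv_u]
  calc u * (g * u * g⁻¹ * u) * u = u * g * u * g⁻¹ * (u * u) := by group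
    _ = u⁻¹ * g * u⁻¹ * g⁻¹ := by rw [h.sq_u, mul_one, h.inv_u]
    _ = (g * u * g⁻¹ * u)⁻¹ := by group

theorem mem_of_sq_eq_one {n : G} (hn : n ∈ nxt M M) (hn2 : n * n = 1) : n ∈ E := by
  have hnu : Commute n u := by
    have h1 := h.conj_eq_inv hn
    rw [inv_eq_of_mul_eq_one_right hn2] at h1
    exact (mul_inv_eq_iff_eq_mul.mp h1).symm
  rcases h.cent n (nxt_le le_normalizer hn) hnu with h1 | h1
  · exact h1
  · exfalso
    refine h.u_notMem_commutator ?_
    have := mul_mem (inv_mem (h.nxt_le_commutator hn)) (h.le_commutator h1)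
    rwa [inv_mul_cancel_left] at this

/-- An element of a `Q`-section fixed by `A` lies below it. -/
theorem mem_of_fixed_coset {S K : Subgroup G} (hSK : S ≤ K) (hKQ : K ≤ ⁅M, A⁆)
    (hAS : A ≤ normalizer (S : Set G)) {g : G} (hg : g ∈ K)
    (hfix : ∀ a ∈ A, g⁻¹ * (a * g * a⁻¹) ∈ S) : g ∈ S := by
  obtain ⟨c, hc, hcs⟩ := Coprime.exists_centralizer_mem_coset h.normM h.coprime_all
    (Or.inr h.isSolvable) (N := S) (hSK.trans (hKQ.trans h.commutator_le)) hAS
    (h.commutator_le (hKQ hg)) hfix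
  have hcK : c ∈ K := by
    have := K.mul_mem hg (hSK hcs)
    rwa [mul_inv_cancel_left] at this
  rcases h.eq_one_or_eq_of_centralized hc.1 (fun a ha => by
    rw [mem_centralizer_iff.mp hc.2 a ha, mul_inv_cancel_right]) with rfl | rfl
  · simpa using inv_mem hcs
  · exact absurd (hKQ hcK) h.u_notMem_commutator

theorem phi_elems_eq_zero {S K : Subgroup G} (hKQ : K ≤ ⁅M, A⁆) (s : Sec A K S)
    {V : Type u} [AddCommGroup V] (m : Model A K S V) (v : V) : m.phi (elems A) v = 0 := by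
  obtain ⟨x, hx, rfl⟩ := m.exists_val v
  rw [← m.val_ev s.normH _ hx, m.val_eq_zero (ev_mem s.normH _ hx)]
  set y := ev (elems A) x with hy
  have hyK : y ∈ K := ev_mem s.normH _ hx
  refine h.mem_of_fixed_coset s.le hKQ s.normK hyK fun a ha => ?_
  have hay : a * y * a⁻¹ ∈ K := (mem_normalizer_iff.mp (s.normH ha) y).mp hyK
  rw [← m.val_eq_zero (K.mul_mem (inv_mem hyK) hay), m.val_mul (inv_mem hyK) hay, m.val_inv hyK,
    m.val_conj s.normH ⟨a, ha⟩ hyK, hy, m.val_ev s.normH _ hx]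
  have hc : m.rho ⟨a, ha⟩ * m.phi (elems A) = m.phi (elems A) := by
    have h1 := m.phi_commute h.comm [⟨a, ha⟩] (elems A)
    simp only [Model.phi_cons, Model.phi_nil, add_zero] at h1
    rw [h1.eq, m.rho_mul_elems]
  change _ + (m.rho ⟨a, ha⟩ * m.phi (elems A)) (m.val x) = 0
  rw [hc, m.add_self]

/-- The sections of `⁅M, A⁆` have the additive relation of `E`. -/
theorem exists_relation {b : G} (hb : b ∈ A) {e₀ : G} (he₀ : e₀ ∈ E)
    (hmove : b * e₀ * b⁻¹ ≠ e₀) : ∃ s ∈ A, ∀ S K : Subgroup G, K ≤ ⁅M, A⁆ → Sec A K S →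
      ∀ x ∈ K, (x * (b * x * b⁻¹))⁻¹ * (s * x * s⁻¹) ∈ S := by
  have he0 : e₀ ≠ 1 := fun h1 => hmove (by rw [h1]; group)
  have hbe : b * e₀ * b⁻¹ ∈ E := (mem_normalizer_iff.mp (h.normE hb) e₀).mp he₀
  have hw : e₀ * (b * e₀ * b⁻¹) ≠ 1 := fun h1 => hmove (by
    have := h.sq _ he₀
    exact mul_left_cancel (h1.trans this.symm))
  obtain ⟨s, hs, hse⟩ := h.trans e₀ he₀ he0 _ (E.mul_mem he₀ hbe) hw
  refine ⟨s, hs, fun S K hKQ sec x hx => ?_⟩
  have hall : ∀ e ∈ E, s * e * s⁻¹ = e * (b * e * b⁻¹) := by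
    intro e he
    by_cases he1 : e = 1
    · rw [he1]; group
    obtain ⟨c, hc, rfl⟩ := h.trans e₀ he₀ he0 e he he1
    have hsc : s * c = c * s := congrArg Subtype.val (h.comm ⟨s, hs⟩ ⟨c, hc⟩)
    have hbc : b * c = c * b := congrArg Subtype.val (h.comm ⟨b, hb⟩ ⟨c, hc⟩)
    calc s * (c * e₀ * c⁻¹) * s⁻¹ = (s * c) * e₀ * (s * c)⁻¹ := by group
      _ = (c * s) * e₀ * (c * s)⁻¹ := by rw [hsc]
      _ = c * (s * e₀ * s⁻¹) * c⁻¹ := by group
      _ = c * (e₀ * (b * e₀ * b⁻¹)) * c⁻¹ := by rw [hse]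
      _ = c * e₀ * c⁻¹ * ((c * b) * e₀ * (c * b)⁻¹) := by group
      _ = c * e₀ * c⁻¹ * ((b * c) * e₀ * (b * c)⁻¹) := by rw [hbc]
      _ = _ := by group
  set l : List A := [1, ⟨b, hb⟩, ⟨s, hs⟩] with hl
  have hkill : ∀ e ∈ E, ev l e = 1 := by
    intro e he
    have h1 : e * (b * e * b⁻¹) ∈ E :=
      E.mul_mem he ((mem_normalizer_iff.mp (h.normE hb) e).mp he)
    simp only [hl, ev_cons, ev_nil, OneMemClass.coe_one, one_mul, inv_one, mul_one]
    rw [← mul_assoc, hall e he, h.sq _ h1]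
  have hAE : A ≤ normalizer (E : Set G) := h.normE
  have hC : KillsAll M (lmul l (nOne A)) := by
    refine killsAll_of_centralizer h.comm h.odd h.two h.normM (zpowers_le.mpr h.u_mem) ?_
      (killsAll_of_extension h.comm h.odd hAE (killsAll_lmul _ (killsAll_of_ev_eq_one hkill)) ?_)
    · intro a ha
      rw [mem_centralizer_iff]
      rintro _ ⟨i, rfl⟩
      have hau : Commute a u := mul_inv_eq_iff_eq_mul.mp (h.fix a ha)
      exact (hau.zpow_right i).symm.eq
    · intro a ha c hc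
      have hcu : Commute c u := (mem_centralizer_iff.mp hc.2 u (mem_zpowers u)).symm
      rcases h.cent c hc.1 hcu with h1 | h1
      · exact E.mul_mem ((mem_normalizer_iff.mp (h.normE ha) c).mp h1) (inv_mem h1)
      · have e : a * c * a⁻¹ * c⁻¹ = a * (c * u) * a⁻¹ * (c * u)⁻¹ := by
          calc a * c * a⁻¹ * c⁻¹ = a * (c * u) * a⁻¹ * (a * u⁻¹ * a⁻¹) * c⁻¹ := by group
            _ = a * (c * u) * a⁻¹ * u⁻¹ * c⁻¹ := by rw [h.inv_u, h.fix a ha]
            _ = _ := by group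
        rw [e]
        exact E.mul_mem ((mem_normalizer_iff.mp (h.normE ha) _).mp h1) (inv_mem h1)
  obtain ⟨V, _, ⟨m⟩⟩ := sec.exists_model
  have hbx : b * x * b⁻¹ ∈ K := (mem_normalizer_iff.mp (sec.normH hb) x).mp hx
  have hsx : s * x * s⁻¹ ∈ K := (mem_normalizer_iff.mp (sec.normH hs) x).mp hx
  have h0 : m.phi l (m.val x) = 0 := by
    rw [← m.phi_lmul_nOne l (h.phi_elems_eq_zero hKQ sec m _), ← m.val_ev sec.normH _ hx,
      m.val_eq_zero (ev_mem sec.normH _ hx)]
    exact hC K S (hKQ.trans h.commutator_le) sec x hx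
  rw [← m.val_eq_zero (K.mul_mem (inv_mem (K.mul_mem hx hbx)) hsx),
    m.val_mul (inv_mem (K.mul_mem hx hbx)) hsx, m.val_inv (K.mul_mem hx hbx), m.val_mul hx hbx,
    m.val_conj sec.normH ⟨b, hb⟩ hx, m.val_conj sec.normH ⟨s, hs⟩ hx]
  simp only [hl, Model.phi_cons, Model.phi_nil, add_zero, _root_.map_one] at h0
  rw [add_assoc]
  exact h0

/-- The commutators in `⁅M, A⁆` lie below the Frattini part. -/
theorem commutator_mem_nxt_nxt {x y : G} (hx : x ∈ ⁅M, A⁆) (hy : y ∈ ⁅M, A⁆) :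
    ⁅x, y⁆ ∈ nxt (nxt M M) M := by
  set Q := ⁅M, A⁆ with hQdef
  set N := nxt M M with hNdef
  have hQM : Q ≤ M := h.commutator_le
  have hMN : M ≤ normalizer (N : Set G) := norm_nxt le_normalizer le_normalizer
  have hAN : A ≤ normalizer (N : Set G) := norm_nxt h.normM h.normM
  have hAQ : A ≤ normalizer (Q : Set G) := normalizer_commutator_ge_right M A
  have hNQ : N ≤ Q := h.nxt_le_commutator
  have s2 : Sec A N (nxt N M) := sec_nxt hMN hAN h.normM
  have s0 : Sec A Q N := ⟨hNQ, fun g hg => sq_mem_nxt (hQM hg), hAQ, hAN⟩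
  obtain ⟨W, _, ⟨m⟩⟩ := s2.exists_model
  set B : G → G → W := fun a c => m.val ⁅a, c⁆ with hBdef
  have hmem : ∀ {a c}, a ∈ Q → c ∈ Q → ⁅a, c⁆ ∈ N := fun ha hc => comm_mem_nxt (hQM ha) (hQM hc)
  have hin : ∀ {g n}, g ∈ M → n ∈ N → m.val (g * n * g⁻¹) = m.val n := fun {g n} hg hn => by
    have e : g * n * g⁻¹ = ⁅g, n⁆ * n := by rw [commutatorElement_def]; group
    rw [e, m.val_mul (s2.le (comm_mem_nxt' hn hg)) hn,
      (m.val_eq_zero (s2.le (comm_mem_nxt' hn hg))).mpr (comm_mem_nxt' hn hg), zero_add]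
  have hBl : ∀ {a a' c}, a ∈ Q → a' ∈ Q → c ∈ Q → B (a * a') c = B a c + B a' c :=
    fun {a a' c} ha ha' hc => by
      have e : ⁅a * a', c⁆ = a * ⁅a', c⁆ * a⁻¹ * ⁅a, c⁆ := by
        rw [commutatorElement_def, commutatorElement_def, commutatorElement_def]; group
      simp only [hBdef]
      rw [e, m.val_mul ((mem_normalizer_iff.mp (hMN (hQM ha)) _).mp (hmem ha' hc)) (hmem ha hc),
        hin (hQM ha) (hmem ha' hc), add_comm]
  have hBsymm : ∀ {a c}, a ∈ Q → c ∈ Q → B c a = B a c := fun {a c} ha hc => by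
    simp only [hBdef]
    rw [← commutatorElement_inv, m.val_inv (hmem ha hc)]
  have hBr : ∀ {a c c'}, a ∈ Q → c ∈ Q → c' ∈ Q → B a (c * c') = B a c + B a c' :=
    fun {a c c'} ha hc hc' => by
      rw [← hBsymm ha (Q.mul_mem hc hc'), hBl hc hc' ha, hBsymm ha hc, hBsymm ha hc']
  have hBN : ∀ {a n}, a ∈ Q → n ∈ N → B a n = 0 := fun {a n} ha hn => by
    simp only [hBdef]
    exact (m.val_eq_zero (s2.le (comm_mem_nxt' hn (hQM ha)))).mpr (comm_mem_nxt' hn (hQM ha))
  have hBself : ∀ a, B a a = 0 := fun a => by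
    simp only [hBdef]; rw [commutatorElement_self]; exact m.val_one
  have hconjQ : ∀ {d a}, d ∈ A → a ∈ Q → d * a * d⁻¹ ∈ Q := fun hd ha =>
    (mem_normalizer_iff.mp (hAQ hd) _).mp ha
  have hdiag : ∀ {d a}, d ∈ A → a ∈ Q → B a (d * (d * a * d⁻¹) * d⁻¹) = 0 := by
    intro d a hd ha
    obtain ⟨e0, he0, he01⟩ := h.exists_ne_one
    by_cases hmove : d * e0 * d⁻¹ = e0
    · rw [h.centralizes hd he0 he01 hmove (hQM ha), h.centralizes hd he0 he01 hmove (hQM ha),
        hBself]
    obtain ⟨s, hs, hrel⟩ := h.exists_relation hd he0 hmove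
    have hcross : ∀ {p q}, p ∈ Q → q ∈ Q →
        B p (d * q * d⁻¹) + B (d * p * d⁻¹) q = 0 := by
      intro p q hp hq
      have hw := hrel (nxt N M) N hNQ s2 _ (hmem hp hq)
      have hdw := (mem_normalizer_iff.mp (hAN hd) _).mp (hmem hp hq)
      have hsw := (mem_normalizer_iff.mp (hAN hs) _).mp (hmem hp hq)
      rw [← m.val_eq_zero (N.mul_mem (inv_mem (N.mul_mem (hmem hp hq) hdw)) hsw),
        m.val_mul (inv_mem (N.mul_mem (hmem hp hq) hdw)) hsw,
        m.val_inv (N.mul_mem (hmem hp hq) hdw), m.val_mul (hmem hp hq) hdw] at hw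
      have econj : ∀ t : G, t * ⁅p, q⁆ * t⁻¹ = ⁅t * p * t⁻¹, t * q * t⁻¹⁆ := fun t => by
        rw [commutatorElement_def, commutatorElement_def]; group
      rw [econj d, econj s] at hw
      have hp' := hrel N Q le_rfl s0 p hp
      have hq' := hrel N Q le_rfl s0 q hq
      have hsp : s * p * s⁻¹ = p * (d * p * d⁻¹) * ((p * (d * p * d⁻¹))⁻¹ * (s * p * s⁻¹)) :=
        (mul_inv_cancel_left _ _).symm
      have hsq' : s * q * s⁻¹ = q * (d * q * d⁻¹) * ((q * (d * q * d⁻¹))⁻¹ * (s * q * s⁻¹)) :=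
        (mul_inv_cancel_left _ _).symm
      have hdp := hconjQ hd hp
      have hdq := hconjQ hd hq
      have hQp := Q.mul_mem hp hdp
      have hQq := Q.mul_mem hq hdq
      have hexp : B (s * p * s⁻¹) (s * q * s⁻¹) =
          B p q + B p (d * q * d⁻¹) + (B (d * p * d⁻¹) q + B (d * p * d⁻¹) (d * q * d⁻¹)) := by
        rw [hsp, hsq', hBl hQp (hNQ hp') (Q.mul_mem hQq (hNQ hq')),
          ← hBsymm (hNQ hp') (Q.mul_mem hQq (hNQ hq')), hBN (Q.mul_mem hQq (hNQ hq')) hp', add_zero,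
          hBr hQp hQq (hNQ hq'), hBN hQp hq', add_zero, hBl hp hdp hQq, hBr hp hq hdq,
          hBr hdp hq hdq]
      change B p q + B (d * p * d⁻¹) (d * q * d⁻¹) + B (s * p * s⁻¹) (s * q * s⁻¹) = 0 at hw
      rw [hexp] at hw
      calc B p (d * q * d⁻¹) + B (d * p * d⁻¹) q
          = (B p q + B p q) + (B (d * p * d⁻¹) (d * q * d⁻¹) + B (d * p * d⁻¹) (d * q * d⁻¹)) +
              (B p (d * q * d⁻¹) + B (d * p * d⁻¹) q) := by
            rw [m.add_self, m.add_self, zero_add, zero_add]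
        _ = B p q + B (d * p * d⁻¹) (d * q * d⁻¹) + (B p q + B p (d * q * d⁻¹) +
              (B (d * p * d⁻¹) q + B (d * p * d⁻¹) (d * q * d⁻¹))) := by abel
        _ = 0 := hw
    have h1 := hcross ha (hconjQ hd ha)
    rwa [hBself, add_zero] at h1
  suffices hB : B x y = 0 by
    rw [← m.val_eq_zero (hmem hx hy)]
    exact hB
  by_cases hxN : x ∈ N
  · rw [← hBsymm hx hy]; exact hBN hy hxN
  by_cases hyN : y ∈ N
  · exact hBN hx hyN
  obtain ⟨a, ha, hay⟩ := (h.card_mul_le (S := N) (K := Q) hNQ hQM hAN hAQ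
    (Or.inr h.u_notMem_commutator) hx hxN).2 h.frattini_data.1.le y hy hyN
  obtain ⟨k, hk⟩ := h.odd
  have hd : (a ^ (k + 1)) * (a ^ (k + 1)) = a := by
    have h1 : a ^ Nat.card A = 1 := by
      have := pow_card_eq_one' (G := A) (x := ⟨a, ha⟩)
      exact congrArg Subtype.val this
    rw [← pow_add, show k + 1 + (k + 1) = Nat.card A + 1 by omega, pow_add, h1, one_mul, pow_one]
  have hax : a * x * a⁻¹ = a ^ (k + 1) * (a ^ (k + 1) * x * (a ^ (k + 1))⁻¹) * (a ^ (k + 1))⁻¹ := by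
    conv_lhs => rw [← hd]
    group
  have h2 := hBr hx (hconjQ ha hx) (hNQ hay)
  rw [mul_inv_cancel_left, hBN hx hay, add_zero, hax, hdiag (pow_mem ha _) hx] at h2
  exact h2

/-- `⁅M, A⁆` has no involution outside `E` with a small centraliser. -/
theorem not_small_centralizer {v : G} (hv : v ∈ ⁅M, A⁆) (hvE : v ∉ E) :
    ¬ Nat.card (⁅M, A⁆ ⊓ centralizer {v} : Subgroup G) ≤ 2 * Nat.card E := by
  intro hsmall
  set Q := ⁅M, A⁆ with hQdef
  set N := nxt M M with hNdef
  have hMN : M ≤ normalizer (N : Set G) := norm_nxt le_normalizer le_normalizer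
  have hAN : A ≤ normalizer (N : Set G) := norm_nxt h.normM h.normM
  have hcard := h.frattini_data.1
  by_cases hne : N = ⊥
  · rw [← hNdef, ← hQdef, hne, card_bot, mul_one] at hcard
    exact hvE ((eq_of_le_of_card_ge h.le_commutator hcard.le).ge hv)
  have hlt : nxt N M < N := nxt_lt h.two (nxt_le le_normalizer) hMN hne
  obtain ⟨g, hg, hgN⟩ := SetLike.exists_of_lt hlt
  have hN' := (h.card_mul_le (S := nxt N M) (K := N) hlt.le (nxt_le le_normalizer)
    (norm_nxt hAN h.normM) hAN (Or.inr fun hu => h.u_notMem_commutator (h.nxt_le_commutator hu))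
    hg hgN).1
  have hcnt := (card_le_centralized_mul (K := Q) (T := nxt N M) v fun x hx =>
    h.commutator_mem_nxt_nxt hx hv).1
  have h4 := h.four_le
  have hpos : 0 < Nat.card (N : Subgroup G) := Nat.card_pos
  have h1 : Nat.card E * Nat.card (N : Subgroup G) ≤ 2 * Nat.card (N : Subgroup G) := by
    calc Nat.card E * Nat.card (N : Subgroup G) = Nat.card Q := hcard.symm
      _ ≤ _ := hcnt
      _ ≤ 2 * Nat.card E * Nat.card (nxt N M : Subgroup G) := Nat.mul_le_mul_right _ hsmall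
      _ = 2 * (Nat.card E * Nat.card (nxt N M : Subgroup G)) := by ring
      _ ≤ _ := Nat.mul_le_mul_left _ hN'
  have := Nat.le_of_mul_le_mul_right h1 hpos
  omega

/-- The conjugates of an element with a small centraliser fill its coset of the Frattini part. -/
theorem exists_conj_of_mem {w : G} (hw : w ∈ M)
    (hsmall : Nat.card (M ⊓ centralizer {w} : Subgroup G) ≤ 2 * Nat.card E) {n : G}
    (hn : n ∈ nxt M M) : ∃ g ∈ M, g * w * g⁻¹ = n * w := by
  obtain ⟨g, hg, hgn⟩ := (card_le_centralized_mul (K := M) (T := nxt M M) w fun x hx =>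
    comm_mem_nxt hx hw).2 (by
      rw [h.card_eq_two_mul, h.frattini_data.1, ← mul_assoc]
      exact Nat.mul_le_mul_right _ hsmall) n hn
  exact ⟨g, hg, by rw [← hgn, commutatorElement_def]; group⟩

end TorusData

end Cfsg.Agent.H51.Asch
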