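import Cfsg.Agent.H51.Asch.Chain
import Cfsg.Agent.H26.Asch.TorusNorm
import Cfsg.Agent.H26.Asch.SemiEight

/-!
P3: without translations `C_H(E)` has its Sylow `2`-subgroup in `C(u)` and the group induced on `E`
by `N_H(E)` acts affinely and transitively on `u E`, so by the abstract theorem `|E| = 8`.
-/

set_option autoImplicit false
set_option linter.style.haveILetI false

namespace Cfsg.Agent.H51.Asch

open Subgroup MulAction
open Cfsg.Agent.H14.Asch
open Cfsg.Agent.H73.Asch (RankTwoBad Line2 RankOnePairs)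
open Cfsg.Agent.H39 (mul_self_of_orderOf_eq_two ne_one_of_orderOf_eq_two)
open Cfsg.Agent.H26.Asch (Torus NormImage SemiData)
open scoped commutatorElement Pointwise

universe u v

variable {G : Type u} [Group G]

theorem MaxTwo.map_conj {K P : Subgroup G} (hP : MaxTwo K P) {g : G}
    (hg : g ∈ normalizer (K : Set G)) : MaxTwo K (P.map (MulAut.conj g).toMonoidHom) := by
  refine ⟨hP.1.map _, ?_, fun P' h1 h2 h3 => ?_⟩
  · rintro _ ⟨t, ht, rfl⟩
    exact (mem_normalizer_iff.mp hg t).mp (hP.2.1 ht)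
  · have h4 := hP.2.2 (P'.map (MulAut.conj g⁻¹).toMonoidHom) (h1.map _) (by
      rintro _ ⟨t, ht, rfl⟩
      exact (mem_normalizer_iff.mp (inv_mem hg) t).mp (h2 ht)) (by
      intro t ht
      refine ⟨g * t * g⁻¹, h3 ⟨t, ht, rfl⟩, ?_⟩
      simp [mul_assoc])
    rw [← h4, Subgroup.map_map]
    convert (Subgroup.map_id P').symm using 2
    ext t; simp [mul_assoc]

variable [Finite G] {Ω : Type v} [MulAction G Ω] [Finite Ω] {D : Set G}

section

variable (h : Crit G Ω D) {u : G} {x : Ω} {E Q : Subgroup G} (hl : Line2 D u x E Q)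
include h hl

/-- The part of `lineGroup D u` at two fixed points has odd order, for every shape. -/
theorem odd_card_lineGroup_pairStab' {y : Ω} (hy : u • y = y) (hyx : y ≠ x) :
    Odd (Nat.card (lineGroup D u ⊓ pairStab G x y : Subgroup G)) := by
  haveI : Fact (Nat.Prime 2) := ⟨Nat.prime_two⟩
  rw [← Nat.not_even_iff_odd, even_iff_two_dvd]
  intro h2
  obtain ⟨t, ht⟩ := exists_prime_orderOf_dvd_card' 2 h2
  have ht' : orderOf (t : G) = 2 := by rw [orderOf_coe, ht]
  obtain ⟨htL, htp⟩ : (t : G) ∈ lineGroup D u ∧ (t : G) ∈ pairStab G x y := mem_inf.mp t.2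
  obtain ⟨htx, hty⟩ := mem_pairStab.mp htp
  obtain ⟨g, hg, hle⟩ := hl.sylow (zpowers (t : G))
    (IsPGroup.of_card (n := 1) (by rw [Nat.card_zpowers, ht']; rfl))
    (zpowers_le.mpr (mem_inf.mpr ⟨htL, mem_stabilizer_iff.mpr htx⟩))
  obtain ⟨hgL, hgx⟩ := mem_inf.mp hg
  have he := (mem_conj_smul_subgroup Q).mp (hle (mem_zpowers (t : G)))
  have hgy : u • g⁻¹ • y = g⁻¹ • y :=
    smul_fixed_of_commute (commute_of_mem_lineGroup (inv_mem hgL)) hy
  have hne : g⁻¹ • y ≠ x := fun e => hyx (by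
    rw [inv_smul_eq_iff] at e
    rw [e, mem_stabilizer_iff.mp hgx])
  have h1 := hl.free _ he _ hgy hne (by
    rw [mul_smul, smul_inv_smul, mul_smul, hty])
  refine ne_one_of_orderOf_eq_two ht' ?_
  calc (t : G) = g * (g⁻¹ * t * g) * g⁻¹ := by group
    _ = 1 := by rw [h1]; group

omit [Finite G] [Finite Ω] in
/-- No conjugate of `u` lies in `E`. -/
theorem conj_notMem_line (g : G) : g * u * g⁻¹ ∉ E := by
  intro he
  obtain ⟨hu2, ⟨p, q, hpq, hp, hq⟩, -⟩ := hl.bad
  have hne : g * u * g⁻¹ ≠ 1 := fun e => by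
    rw [conj_eq_one_iff] at e
    exact ne_one_of_orderOf_eq_two hu2 e
  exact hpq (MulAction.injective g (h.eq_of_fixed (line2_member hl he hne).1
    (H73.Bender.conj_smul_of_smul hp) (H73.Bender.conj_smul_of_smul hq)))

/-- A two-group `P` of `C_H(E) ∩ C(u)` containing `E` and `u` sends `u` into `u E` under its
normaliser. -/
theorem exists_eq_mul_of_normalizer (hP : RankOnePairs (G := G) Ω) {P : Subgroup G}
    (hPp : IsPGroup 2 P) (hPK : ∀ t ∈ P, t • x = x ∧ Commute t u) (hEP : E ≤ P) (huP : u ∈ P)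
    {g : G} (hg : g ∈ normalizer (P : Set G)) : ∃ e ∈ E, g * u * g⁻¹ = u * e := by
  have hu2 := hl.bad.1
  have hv : orderOf (g * u * g⁻¹) = 2 := by rw [H39.orderOf_conj, hu2]
  rcases h.involutions_two_group hl hP hPp (fun t ht => (hPK t ht).2) (fun t ht => (hPK t ht).1)
    hEP huP ((mem_normalizer_iff.mp hg u).mp huP) hv with h1 | h1
  · exact absurd h1 (conj_notMem_line h hl g)
  · exact ⟨_, h1, by rw [← mul_assoc, mul_self_of_orderOf_eq_two hu2, one_mul]⟩

/-- Without translations a maximal `2`-subgroup of `C_H(E) ∩ C(u)` is one of `C_H(E)`. -/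
theorem exists_maxTwo_commute_ge (hP : RankOnePairs (G := G) Ω) (hno : ¬ HasTranslation u x E)
    {W : Subgroup G} (hW : IsPGroup 2 W) (hWK : W ≤ coreStab x E ⊓ centralizer ({u} : Set G)) :
    ∃ P : Subgroup G, W ≤ P ∧ MaxTwo (coreStab x E) P ∧ E ≤ P ∧ u ∈ P ∧ ∀ t ∈ P, Commute t u := by
  haveI : Fact (Nat.Prime 2) := ⟨Nat.prime_two⟩
  set Kc := coreStab x E ⊓ centralizer ({u} : Set G) with hKc
  obtain ⟨P, hWP, hmax⟩ := exists_maxTwo_ge (K := Kc) hW hWK
  have hPmem : ∀ t ∈ P, t ∈ coreStab x E ∧ Commute t u := fun t ht =>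
    ⟨(mem_inf.mp (hmax.2.1 ht)).1, mem_centralizer_singleton_iff.mp (mem_inf.mp (hmax.2.1 ht)).2⟩
  have hEK : E ≤ Kc := fun e he => mem_inf.mpr
    ⟨mem_coreStab.mpr ⟨line2_smul hl (hl.E_le he), fun f hf => hl.central f hf e (hl.E_le he)⟩,
      mem_centralizer_singleton_iff.mpr (line2_commute hl (hl.E_le he)).eq⟩
  have huK : u ∈ Kc := mem_inf.mpr
    ⟨mem_coreStab.mpr ⟨hl.fix, fun e he => line2_commute hl (hl.E_le he)⟩,
      mem_centralizer_singleton_iff.mpr rfl⟩
  have hEP : E ≤ P := hmax.le_of_normal (hl.isPGroup.to_le hl.E_le) hEK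
    (le_normalizer_iff.mpr fun g hg e he => by
      rw [← ((mem_coreStab.mp (mem_inf.mp hg).1).2 e he).eq, mul_inv_cancel_right]
      exact he)
  have huP : u ∈ P := hmax.le_of_normal
    (IsPGroup.of_card (n := 1) (by
      have hu2 : orderOf u = 2 := hl.bad.1
      rw [Nat.card_zpowers, hu2]; rfl))
    (zpowers_le.mpr huK) (le_normalizer_iff.mpr fun g hg z hz => by
      obtain ⟨i, rfl⟩ := mem_zpowers_iff.mp hz
      have hgu : Commute g u := mem_centralizer_singleton_iff.mp (mem_inf.mp hg).2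
      rw [(hgu.zpow_right i).eq, mul_inv_cancel_right]
      exact zpow_mem (mem_zpowers u) i) (mem_zpowers u)
  refine ⟨P, hWP, ⟨hmax.1, fun t ht => (hPmem t ht).1, fun P' h1 h2 h3 => ?_⟩, hEP, huP,
    fun t ht => (hPmem t ht).2⟩
  by_contra hne
  have hne' : P.subgroupOf P' ≠ ⊤ := fun e => hne (le_antisymm (subgroupOf_eq_top.mp e) h3)
  obtain ⟨g, hg, hgn⟩ := SetLike.exists_of_lt (PGroups.lt_normalizer h1 hne')
  have hgP : (g : G) ∈ normalizer (P : Set G) := H39.mem_normalizer_of_conj_mem fun t ht =>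
    (mem_normalizer_iff.mp hg ⟨t, h3 ht⟩).mp ht
  obtain ⟨e, he, hge⟩ := exists_eq_mul_of_normalizer h hl hP hmax.1
    (fun t ht => ⟨(mem_coreStab.mp (hPmem t ht).1).1, (hPmem t ht).2⟩) hEP huP hgP
  have he1 : e = 1 := by
    by_contra he1
    exact hno ⟨g, h2 g.2, e, he, he1, hge⟩
  rw [he1, mul_one] at hge
  refine hgn (show (g : G) ∈ P from ?_)
  have h4 := hmax.2.2 (P ⊔ zpowers (g : G))
    (hmax.1.to_sup_of_normal_left' (h1.to_le (zpowers_le.mpr g.2)) (zpowers_le.mpr hgP))
    (sup_le hmax.2.1 (zpowers_le.mpr (mem_inf.mpr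
      ⟨h2 g.2, mem_centralizer_singleton_iff.mpr (mul_inv_eq_iff_eq_mul.mp hge)⟩))) le_sup_left
  rw [← h4]
  exact mem_sup_right (mem_zpowers (g : G))

/-- Without translations a Sylow `2`-subgroup of `C_H(E)` centralises `u`. -/
theorem exists_maxTwo_commute (hP : RankOnePairs (G := G) Ω) (hno : ¬ HasTranslation u x E) :
    ∃ P : Subgroup G, MaxTwo (coreStab x E) P ∧ E ≤ P ∧ u ∈ P ∧ ∀ t ∈ P, Commute t u := by
  obtain ⟨P, -, h1⟩ := exists_maxTwo_commute_ge h hl hP hno IsPGroup.of_bot bot_le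
  exact ⟨P, h1⟩

/-- **Translations exist**, unless `|E| = 8`. The hypothesis is the
abstract theorem on affine actions without translations. -/
theorem hasTranslation_or_card_eight (hP : RankOnePairs (G := G) Ω)
    (hsemi : ∀ {Γ : Type u} [Group Γ] [Finite Γ] {V : Type u} [AddCommGroup V] [Finite V]
      [DistribMulAction Γ V] {τ : Γ → V} {A : Subgroup Γ}, SemiData τ A → Nat.card V = 8) :
    HasTranslation u x E ∨ Nat.card E = 8 := by
  classical
  refine or_iff_not_imp_left.mpr fun hno => ?_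
  obtain ⟨P, hmax, hEP, huP, hPu⟩ := exists_maxTwo_commute h hl hP hno
  have hu2 := hl.bad.1
  obtain ⟨-, ⟨p, q, hpq, hp, hq⟩, -⟩ := hl.bad
  obtain ⟨y, hyx, hy⟩ : ∃ y, y ≠ x ∧ u • y = y := by
    by_cases hpx : p = x
    · exact ⟨q, fun hqx => hpq (hpx.trans hqx.symm), hq⟩
    · exact ⟨p, hpx, hp⟩
  set M := stabilizer G x ⊓ normalizer (E : Set G) with hM
  have hMx : ∀ {g}, g ∈ M → g • x = x := fun hg => mem_stabilizer_iff.mp (mem_inf.mp hg).1
  have hMK : ∀ {g}, g ∈ M → g ∈ normalizer (coreStab x E : Set G) := fun {g} hg =>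
    H39.mem_normalizer_of_conj_mem fun c hc => conj_mem_coreStab (hMx hg) (mem_inf.mp hg).2 hc
  -- every element of `N_H(E)` is a product of an element of `C_H(E)` and one normalising `P`
  have hrel : ∀ g : M, ∃ e : E, ∃ k ∈ coreStab x E, k * g ∈ normalizer (P : Set G) ∧
      k * g * u * (k * g)⁻¹ = u * e := by
    intro g
    obtain ⟨k, hk, hkP⟩ := (hmax.map_conj (hMK g.2)).exists_conj hmax
    have hn : k * g ∈ normalizer (P : Set G) := H39.mem_normalizer_of_conj_mem fun t ht => by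
      have h1 := (hkP (g * t * (g : G)⁻¹)).mp ⟨t, ht, rfl⟩
      convert h1 using 1
      group
    obtain ⟨e, he, hee⟩ := exists_eq_mul_of_normalizer h hl hP hmax.1
      (fun t ht => ⟨(mem_coreStab.mp (hmax.2.1 ht)).1, hPu t ht⟩) hEP huP hn
    exact ⟨⟨e, he⟩, k, hk, hn, hee⟩
  choose τM kM hkM hnM heM using hrel
  have hfix : ∀ {c}, c ∈ coreStab x E → c ∈ normalizer (P : Set G) → c * u * c⁻¹ = u := by
    intro c hc hcP
    obtain ⟨e, he, hce⟩ := exists_eq_mul_of_normalizer h hl hP hmax.1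
      (fun t ht => ⟨(mem_coreStab.mp (hmax.2.1 ht)).1, hPu t ht⟩) hEP huP hcP
    have he1 : e = 1 := by
      by_contra he1
      exact hno ⟨c, hc, e, he, he1, hce⟩
    rw [hce, he1, mul_one]
  -- the value depends only on the action on `E`
  have huniq : ∀ (g : M) (k n : G), k ∈ coreStab x E → n ∈ normalizer (P : Set G) →
      (k * n)⁻¹ * (g : G) ∈ coreStab x E → n * u * n⁻¹ = u * τM g := by
    intro g k n hk hn hc
    have hgn : (kM g * g) * n⁻¹ ∈ coreStab x E := by
      have e : kM g * (g : G) * n⁻¹ = kM g * k * (n * ((k * n)⁻¹ * g) * n⁻¹) := by group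
      rw [e]
      refine mul_mem (mul_mem (hkM g) hk) ?_
      have hnM' : n ∈ stabilizer G x ∧ n ∈ normalizer (E : Set G) := by
        have e1 : n = k⁻¹ * ((g : G) * ((k * n)⁻¹ * g)⁻¹) := by group
        rw [e1]
        exact ⟨mul_mem (inv_mem (mem_inf.mp hk).1) (mul_mem (mem_inf.mp g.2).1
            (inv_mem (mem_inf.mp hc).1)),
          mul_mem (inv_mem (centralizer_le_normalizer _ (mem_inf.mp hk).2))
            (mul_mem (mem_inf.mp g.2).2 (inv_mem (centralizer_le_normalizer _ (mem_inf.mp hc).2)))⟩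
      exact conj_mem_coreStab (mem_stabilizer_iff.mp hnM'.1) hnM'.2 hc
    set z := (kM g * g) * n⁻¹ with hz
    have h1 := hfix hgn (mul_mem (hnM g) (inv_mem hn))
    have h3 : z⁻¹ * u * z = u := by
      calc z⁻¹ * u * z = z⁻¹ * (z * u * z⁻¹) * z := by rw [h1]
        _ = u := by group
    have h2 : Commute z (τM g : G) := ((mem_coreStab.mp hgn).2 _ (τM g).2).symm
    calc n * u * n⁻¹ = z⁻¹ * (kM g * g * u * (kM g * g)⁻¹) * z := by rw [hz]; group
      _ = z⁻¹ * (u * τM g) * z := by rw [heM g]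
      _ = z⁻¹ * u * z * (z⁻¹ * ((τM g : G) * z)) := by group
      _ = u * τM g := by rw [h3, ← h2.eq, inv_mul_cancel_left]
  have hcomm : ∀ a ∈ E, ∀ b ∈ E, a * b = b * a :=
    fun a ha b hb => (hl.central a ha b (hl.E_le hb)).eq
  letI : CommGroup E :=
    { (inferInstance : Group E) with mul_comm := fun a b => Subtype.ext (hcomm _ a.2 _ b.2) }
  let θ : M →* MulAut E := (normalizerMonoidHom E).comp (Subgroup.inclusion inf_le_right)
  have hθ : ∀ (g : M) (e : E), ((θ g e : E) : G) = (g : G) * e * (g : G)⁻¹ := fun _ _ => rfl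
  have hker : ∀ g g' : M, θ g = θ g' → (g : G)⁻¹ * g' ∈ coreStab x E := by
    intro g g' hgg
    refine mem_coreStab.mpr ⟨?_, fun e he => (mul_inv_eq_iff_eq_mul.mp ?_).symm⟩
    · rw [mul_smul, hMx g'.2]
      exact inv_smul_eq_iff.mpr (hMx g.2).symm
    · have h1 : (g : G) * e * (g : G)⁻¹ = g' * e * (g' : G)⁻¹ :=
        congrArg (fun f : MulAut E => ((f ⟨e, he⟩ : E) : G)) hgg
      calc (g : G)⁻¹ * g' * e * ((g : G)⁻¹ * g')⁻¹ = (g : G)⁻¹ * (g' * e * (g' : G)⁻¹) * g := by
            group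
        _ = e := by rw [← h1]; group
  let Γ : Subgroup (MulAut E) := θ.range
  haveI : Finite Γ := Finite.of_surjective θ.rangeRestrict θ.rangeRestrict_surjective
  letI : DistribMulAction Γ (Additive E) :=
    { smul := fun m e => Additive.ofMul ((m : MulAut E) (Additive.toMul e))
      one_smul := fun e => rfl
      mul_smul := fun m n e => rfl
      smul_zero := fun m => map_one (m : MulAut E)
      smul_add := fun m a b => map_mul (m : MulAut E) a.toMul b.toMul }
  let rep : Γ → M := fun γ => Classical.choose γ.2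
  have hrep : ∀ γ : Γ, θ (rep γ) = γ := fun γ => Classical.choose_spec γ.2
  let τ : Γ → Additive E := fun γ => Additive.ofMul (τM (rep γ))
  have hτ : ∀ (g : M) (k n : G), k ∈ coreStab x E → n ∈ normalizer (P : Set G) →
      (k * n)⁻¹ * (g : G) ∈ coreStab x E →
      n * u * n⁻¹ = u * ((τ (θ.rangeRestrict g)).toMul : E) := by
    intro g k n hk hn hc
    refine huniq _ k n hk hn ?_
    have h1 := mul_mem hc (hker g (rep (θ.rangeRestrict g)) (hrep (θ.rangeRestrict g)).symm)
    rwa [mul_assoc, mul_inv_cancel_left] at h1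
  have hτval : ∀ (g : M) (k : G), k ∈ coreStab x E → k * g ∈ normalizer (P : Set G) →
      k * g * u * (k * g)⁻¹ = u * ((τ (θ.rangeRestrict g)).toMul : E) := by
    intro g k hk hn
    refine hτ g k⁻¹ (k * g) (inv_mem hk) hn ?_
    rw [inv_mul_cancel_left, inv_mul_cancel]
    exact one_mem _
  have hMmem : ∀ {g}, g • x = x → g ∈ normalizer (E : Set G) → g ∈ M := fun h1 h2 =>
    mem_inf.mpr ⟨mem_stabilizer_iff.mpr h1, h2⟩
  -- the torus at `y`
  obtain ⟨A, hA, -, hAQ, hAc, htr, -, -⟩ := hl.torus y hy hyx ⊥ IsPGroup.of_bot bot_le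
    (fun e _ t ht => by rw [mem_bot.mp ht]; exact Commute.one_right e) bot_le
  have hAM : A ≤ M := fun a ha => by
    refine hMmem (mem_pairStab.mp (hA ha).2).1 (H39.mem_normalizer_of_conj_mem fun e he => ?_)
    by_cases he1 : e = 1
    · simp [he1]
    · refine hl.omega _ ((mem_normalizer_iff.mp (hAQ ha) e).mp (hl.E_le he)) ?_
      rw [H39.orderOf_conj, h.inv (line2_member hl he he1).1]
  set AΓ : Subgroup Γ := (A.subgroupOf M).map θ.rangeRestrict with hAΓ
  have hcancel : ∀ {e : E}, u = u * (e : G) → e = 1 := fun {e} he =>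
    Subtype.ext (by simpa using mul_left_cancel (a := u) (he.symm.trans (mul_one u).symm))
  have hfixu : ∀ g : M, Commute (g : G) u → τ (θ.rangeRestrict g) = 0 := by
    intro g hgu
    obtain ⟨k, hk, hn, hke⟩ : ∃ k ∈ coreStab x E, k * g ∈ normalizer (P : Set G) ∧
        k * g * u * (k * g)⁻¹ = u * τM g := ⟨kM g, hkM g, hnM g, heM g⟩
    rw [hτval g k hk hn] at hke
    have h1 : k * u * k⁻¹ = u * ((τ (θ.rangeRestrict g)).toMul : E) := by
      rw [← hτval g k hk hn, show k * g * u * (k * g)⁻¹ = k * (g * u * (g : G)⁻¹) * k⁻¹ by group,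
        hgu.eq, mul_inv_cancel_right]
    apply Additive.toMul.injective
    by_contra h2
    exact hno ⟨k, hk, _, (τ (θ.rangeRestrict g)).toMul.2,
      fun e => h2 (Subtype.ext e), h1⟩
  have hsurj : ∀ e : Additive E, ∃ γ : Γ, τ γ = e := by
    intro e
    obtain ⟨⟨c, hc⟩, rfl⟩ := Additive.ofMul.surjective e
    by_cases hc1 : c = 1
    · exact ⟨θ.rangeRestrict 1, by rw [hfixu 1 (Commute.one_left u)]; subst hc1; rfl⟩
    obtain ⟨g, hgx, hgu, -, hgE⟩ := h.exists_conj_mul_normalizing hl hc hc1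
    set g' : M := ⟨g, hMmem hgx (H39.mem_normalizer_of_conj_mem hgE)⟩
    refine ⟨θ.rangeRestrict g', ?_⟩
    obtain ⟨k, hk, hn, -⟩ : ∃ k ∈ coreStab x E, k * g ∈ normalizer (P : Set G) ∧ True :=
      ⟨kM g', hkM g', hnM g', trivial⟩
    have h1 := hτval g' k hk hn
    set e' := (τ (θ.rangeRestrict g')).toMul
    have h2 : k * u * k⁻¹ = u * ((e' * (⟨c, hc⟩ : E)⁻¹ : E) : G) := by
      have hkc : k * c * k⁻¹ = c := by
        rw [← ((mem_coreStab.mp hk).2 c hc).eq, mul_inv_cancel_right]
      push_cast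
      rw [← mul_assoc, ← h1, show k * (g' : G) * u * (k * g')⁻¹ = k * (g * u * g⁻¹) * k⁻¹ by
        show k * g * u * (k * g)⁻¹ = _; group, hgu,
        show k * (u * c) * k⁻¹ = k * u * k⁻¹ * (k * c * k⁻¹) by group, hkc, mul_inv_cancel_right]
    apply Additive.toMul.injective
    show e' = ⟨c, hc⟩
    by_contra h3
    exact hno ⟨k, hk, _, (e' * (⟨c, hc⟩ : E)⁻¹).2,
      fun e => h3 (mul_inv_eq_one.mp (Subtype.ext e)), h2⟩
  have hcocycle : ∀ γ δ : Γ, τ (γ * δ) = τ γ + γ • τ δ := by
    intro γ δ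
    set g := rep γ
    set g' := rep δ
    have hg : θ.rangeRestrict g = γ := Subtype.ext (hrep γ)
    have hg' : θ.rangeRestrict g' = δ := Subtype.ext (hrep δ)
    have hn1 := hτval g (kM g) (hkM g) (hnM g)
    have hn2 := hτval g' (kM g') (hkM g') (hnM g')
    rw [hg] at hn1; rw [hg'] at hn2
    set n := kM g * (g : G) with hn
    set n' := kM g' * (g' : G) with hn'
    set c : G := ((τ γ).toMul : E).1 with hc
    set d : G := ((τ δ).toMul : E).1 with hd
    have hk : kM g * ((g : G) * kM g' * (g : G)⁻¹) ∈ coreStab x E :=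
      mul_mem (hkM g) (conj_mem_coreStab (hMx g.2) (mem_inf.mp g.2).2 (hkM g'))
    have hnd : n * d * n⁻¹ = g * d * (g : G)⁻¹ := by
      rw [hn, show kM g * g * d * (kM g * g)⁻¹ = kM g * (g * d * (g : G)⁻¹) * (kM g)⁻¹ by group,
        ← ((mem_coreStab.mp (hkM g)).2 _
          ((mem_normalizer_iff.mp (mem_inf.mp g.2).2 d).mp (τ δ).toMul.2)).eq, mul_inv_cancel_right]
    have h1 := hτ (g * g') _ (n * n') (inv_mem hk) (mul_mem (hnM g) (hnM g')) (by
      rw [hn, hn']; simp only [Subgroup.coe_mul]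
      convert one_mem (coreStab x E) using 1
      group)
    rw [map_mul, hg, hg', show n * n' * u * (n * n')⁻¹ = n * (n' * u * n'⁻¹) * n⁻¹ by group, hn2,
      show n * (u * d) * n⁻¹ = n * u * n⁻¹ * (n * d * n⁻¹) by group, hn1, hnd, mul_assoc] at h1
    apply Additive.toMul.injective
    refine (Subtype.ext ?_).symm
    rw [toMul_add, Subgroup.coe_mul]
    show c * (((γ : MulAut E) (τ δ).toMul : E) : G) = _
    rw [← hrep γ, hθ]
    exact mul_left_cancel h1
  have hdata : SemiData τ AΓ := by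
    refine
      { torus := ⟨fun e => ?_, ?_, ?_, fun a b ha hb => ?_⟩
        cocycle := hcocycle
        surj := hsurj
        faithful := fun γ hγ => Subtype.ext (MulEquiv.ext fun e =>
          congrArg Additive.toMul (hγ (Additive.ofMul e)))
        base := ?_
        norm := ?_ }
    · apply Additive.toMul.injective
      exact Subtype.ext (line2_mul_self hl h (Additive.toMul e).2)
    · exact hl.four_le.trans_eq (Nat.card_congr Additive.ofMul)
    · rintro _ ⟨a, ha, rfl⟩ _ ⟨b, hb, rfl⟩ e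
      have hab : (⟨a.1, ha⟩ : A) * ⟨b.1, hb⟩ = ⟨b.1, hb⟩ * ⟨a.1, ha⟩ := by
        haveI := hAc
        exact IsCyclic.commGroup.mul_comm _ _
      have hab' : a * b = b * a := Subtype.ext (congrArg (fun t : A => (t : G)) hab)
      rw [← mul_smul, ← mul_smul, ← map_mul, ← map_mul, hab']
    · obtain ⟨k, hk, hkab⟩ := htr _ (Additive.toMul a).2 _ (Additive.toMul b).2
        (fun e => ha (by apply Additive.toMul.injective; exact Subtype.ext e))
        (fun e => hb (by apply Additive.toMul.injective; exact Subtype.ext e))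
      refine ⟨θ.rangeRestrict ⟨k, hAM hk⟩, mem_map_of_mem _ (mem_subgroupOf.mpr hk), ?_⟩
      apply Additive.toMul.injective
      exact Subtype.ext hkab
    · rintro _ ⟨a, ha, rfl⟩
      exact hfixu a (commute_of_mem_lineGroup (hA (mem_subgroupOf.mp ha)).1)
    · intro γ hγ
      set g := rep γ
      have hg : θ.rangeRestrict g = γ := Subtype.ext (hrep γ)
      have hn1 := hτval g (kM g) (hkM g) (hnM g)
      rw [hg, hγ] at hn1
      set n := kM g * (g : G) with hn
      have hnu : Commute n u := mul_inv_eq_iff_eq_mul.mp (by simpa using hn1)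
      have hnx : n • x = x := by rw [hn, mul_smul, hMx g.2, (mem_coreStab.mp (hkM g)).1]
      have hnE : n ∈ normalizer (E : Set G) :=
        mul_mem (centralizer_le_normalizer _ (mem_inf.mp (hkM g)).2) (mem_inf.mp g.2).2
      have hny : u • n • y = n • y := smul_fixed_of_commute hnu hy
      have hnyx : n • y ≠ x := fun e => hyx (MulAction.injective n (e.trans hnx.symm))
      obtain ⟨t, ht, hty⟩ := hl.trans (n • y) y hny hy hnyx hyx
      have htE : ∀ e ∈ E, Commute e t := fun e he => hl.central e he t ht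
      have htN : t ∈ normalizer (E : Set G) :=
        centralizer_le_normalizer _ (mem_centralizer_iff.mpr fun e he => (htE e he).eq)
      set n' : M := ⟨t * n, hMmem (by rw [mul_smul, hnx, line2_smul hl ht]) (mul_mem htN hnE)⟩
      have hγ' : θ.rangeRestrict n' = γ := by
        refine Subtype.ext ?_
        rw [← hrep γ]
        refine MulEquiv.ext fun e => Subtype.ext ?_
        show t * n * (e : G) * (t * n)⁻¹ = g * e * (g : G)⁻¹
        have h1 : (g : G) * e * (g : G)⁻¹ ∈ E := (mem_normalizer_iff.mp (mem_inf.mp g.2).2 _).mp e.2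
        rw [hn, show t * (kM g * g) * e * (t * (kM g * g))⁻¹ =
            t * (kM g * (g * e * (g : G)⁻¹) * (kM g)⁻¹) * t⁻¹ by group,
          ← ((mem_coreStab.mp (hkM g)).2 _ h1).eq, mul_inv_cancel_right, ← (htE _ h1).eq,
          mul_inv_cancel_right]
      set O : Subgroup Γ :=
        ((lineGroup D u ⊓ pairStab G x y).subgroupOf M).map θ.rangeRestrict with hO
      have hL : Odd (Nat.card O) := by
        refine (Odd.of_dvd_nat (odd_card_lineGroup_pairStab' h hl hy hyx) ?_)
        refine (card_map_dvd _ _).trans ?_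
        rw [← Subgroup.card_map_of_injective M.subtype_injective]
        refine card_dvd_of_le ?_
        rintro _ ⟨t', ht', rfl⟩
        exact mem_subgroupOf.mp ht'
      have hT : Torus AΓ (Additive E) := ⟨fun e => by
        apply Additive.toMul.injective
        exact Subtype.ext (line2_mul_self hl h (Additive.toMul e).2),
        hl.four_le.trans_eq (Nat.card_congr Additive.ofMul), by
        rintro _ ⟨a, ha, rfl⟩ _ ⟨b, hb, rfl⟩ e
        have hab : (⟨a.1, ha⟩ : A) * ⟨b.1, hb⟩ = ⟨b.1, hb⟩ * ⟨a.1, ha⟩ := by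
          haveI := hAc
          exact IsCyclic.commGroup.mul_comm _ _
        have hab' : a * b = b * a := Subtype.ext (congrArg (fun t : A => (t : G)) hab)
        rw [← mul_smul, ← mul_smul, ← map_mul, ← map_mul, hab'], fun a b ha hb => by
        obtain ⟨k, hk, hkab⟩ := htr _ (Additive.toMul a).2 _ (Additive.toMul b).2
          (fun e => ha (by apply Additive.toMul.injective; exact Subtype.ext e))
          (fun e => hb (by apply Additive.toMul.injective; exact Subtype.ext e))
        refine ⟨θ.rangeRestrict ⟨k, hAM hk⟩, mem_map_of_mem _ (mem_subgroupOf.mpr hk), ?_⟩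
        apply Additive.toMul.injective
        exact Subtype.ext hkab⟩
      refine hT.normImage_of_odd (O := O) (Subgroup.map_mono fun a ha =>
        mem_subgroupOf.mpr (hA (mem_subgroupOf.mp ha))) hL ?_
      rintro _ ⟨o, ho, rfl⟩
      obtain ⟨hoL, hop⟩ := mem_inf.mp (mem_subgroupOf.mp ho)
      have hn'y : (n' : G) • y = y := by
        show (t * n) • y = y
        rw [mul_smul, hty]
      refine ⟨n' * o * n'⁻¹, mem_subgroupOf.mpr (mem_inf.mpr ⟨?_, ?_⟩), by
        rw [map_mul, map_mul, map_inv, hγ']⟩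
      · have hn'u : Commute (n' : G) u := (line2_commute hl ht).mul_left hnu
        show (n' : G) * o * (n' : G)⁻¹ ∈ lineGroup D u
        replace hoL : (o : G) ∈ lineGroup D u := hoL
        generalize (o : G) = oG at hoL ⊢
        induction hoL using Subgroup.closure_induction with
        | mem z hz =>
          refine mem_lineGroup (h.conj_mem hz.1 _) ?_
          have h1 := commute_conj (mem_centralizer_singleton_iff.mp hz.2 : Commute z u) (n' : G)
          rwa [hn'u.eq, mul_inv_cancel_right] at h1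
        | one => simp
        | mul s t _ _ ihs iht =>
          rw [show (n' : G) * (s * t) * (n' : G)⁻¹ =
            ((n' : G) * s * (n' : G)⁻¹) * ((n' : G) * t * (n' : G)⁻¹) by group]
          exact mul_mem ihs iht
        | inv s _ ihs =>
          rw [show (n' : G) * s⁻¹ * (n' : G)⁻¹ = ((n' : G) * s * (n' : G)⁻¹)⁻¹ by group]
          exact inv_mem ihs
      · have hn'p : (n' : G) ∈ pairStab G x y := mem_pairStab.mpr ⟨hMx n'.2, hn'y⟩
        exact mul_mem (mul_mem hn'p hop) (inv_mem hn'p)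
  rw [← hsemi hdata]
  exact Nat.card_congr Additive.ofMul

/-- **Translations exist** or `|E| = 8`. -/
theorem hasTranslation_or_eight (hP : RankOnePairs (G := G) Ω) :
    HasTranslation u x E ∨ Nat.card E = 8 :=
  hasTranslation_or_card_eight h hl hP fun {_} _ _ {_} _ _ _ {_} {_} hd => hd.card_eq_eight

/-- `N_H(E)` is transitive on `u E`. -/
theorem exists_conj_eq_mul {e : G} (he : e ∈ E) :
    ∃ g ∈ stabilizer G x ⊓ normalizer (E : Set G), g * u * g⁻¹ = u * e := by
  by_cases he1 : e = 1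
  · exact ⟨1, one_mem _, by rw [he1]; group⟩
  obtain ⟨g, hgx, hgu, -, hgE⟩ := h.exists_conj_mul_normalizing hl he he1
  exact ⟨g, mem_inf.mpr ⟨mem_stabilizer_iff.mpr hgx, H39.mem_normalizer_of_conj_mem hgE⟩, hgu⟩

end

end Cfsg.Agent.H51.Asch
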