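import Cfsg.Agent.H51.Asch.UnitaryLines

/-!
A two-group `M = Q ∘ C_M(a)` with the data of a line of shape three: the layers of `C_M(a)` and
general facts on odd automorphisms and on elements moving `u` inside a coset.
-/

set_option autoImplicit false
set_option linter.style.haveILetI false
set_option linter.unusedSectionVars false

namespace Cfsg.Agent.H51.AschU

open Subgroup
open Cfsg.Agent.H14.Asch (ShapeData commute_conj)
open Cfsg.Agent.H51.Asch (nxt nxt_le nxt_lt norm_nxt comm_mem_nxt comm_mem_nxt' sq_mem_nxt TorusData)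
open scoped commutatorElement

universe u

variable {G : Type u} [Group G]

/-- The part of `M` centralised by `a`. -/
abbrev rk (M : Subgroup G) (a : G) : Subgroup G := M ⊓ centralizer ({a} : Set G)

/-- `M` is the product of `Q` and the part centralised by `a`. -/
def Split (M Q : Subgroup G) (a : G) : Prop :=
  ∀ g ∈ M, ∃ q ∈ Q, ∃ k ∈ rk M a, g = q * k

/-- The commutator of a product in terms of the two commutators with `u`. -/
theorem commutator_mul_left_eq (g k u : G) :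
    ⁅g * k, u⁆ = g * ⁅k, u⁆ * g⁻¹ * ⁅g, u⁆ := by
  simp [commutatorElement_def, mul_assoc]

/-- The quotient of two elements moving `u` into one coset moves it into the subgroup. -/
theorem commutator_inv_mul_mem {V : Subgroup G} {g g' u : G}
    (hg : g ∈ normalizer (V : Set G)) (hd : ⁅g', u⁆ * ⁅g, u⁆⁻¹ ∈ V) : ⁅g⁻¹ * g', u⁆ ∈ V := by
  have h1 := (mem_normalizer_iff.mp (inv_mem hg) _).mp hd
  rwa [show g⁻¹ * (⁅g', u⁆ * ⁅g, u⁆⁻¹) * g⁻¹⁻¹ = ⁅g⁻¹ * g', u⁆ by
    simp [commutatorElement_def, mul_assoc]] at h1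

/-- The quotient of `g` and its conjugate under an element fixing `u` and the coset of `⁅g, u⁆`. -/
theorem twist_commutator_mem {V : Subgroup G} {g t u : G} (hg : g ∈ normalizer (V : Set G))
    (htu : Commute t u) (hd : t * ⁅g, u⁆ * t⁻¹ * ⁅g, u⁆⁻¹ ∈ V) :
    ⁅g⁻¹ * (t * g * t⁻¹), u⁆ ∈ V := by
  refine commutator_inv_mul_mem hg ?_
  rwa [show ⁅t * g * t⁻¹, u⁆ = t * ⁅g, u⁆ * t⁻¹ by
    conv_lhs => rw [show u = t * u * t⁻¹ by rw [htu.eq, mul_inv_cancel_right]]
    simp [commutatorElement_def, mul_assoc]]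

/-- An odd element centralises an element it moves by a two-element it centralises. -/
theorem commute_of_odd [Finite G] {W : Subgroup G} (hW : IsPGroup 2 W) {o g : G}
    (ho : Odd (orderOf o)) (hc : ⁅o, g⁆ ∈ W) (hoc : Commute o ⁅o, g⁆) : Commute o g := by
  have e1 : o * g * o⁻¹ = ⁅o, g⁆ * g := by rw [commutatorElement_def, inv_mul_cancel_right]
  generalize hcdef : ⁅o, g⁆ = c at hc hoc e1
  have key : ∀ i : ℕ, o ^ i * g * (o ^ i)⁻¹ = c ^ i * g := by
    intro i
    induction i with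
    | zero => simp
    | succ i ih =>
      calc o ^ (i + 1) * g * (o ^ (i + 1))⁻¹ = o * (o ^ i * g * (o ^ i)⁻¹) * o⁻¹ := by
            rw [pow_succ']; group
        _ = (o * c ^ i * o⁻¹) * (o * g * o⁻¹) := by rw [ih]; group
        _ = c ^ (i + 1) * g := by
          rw [(hoc.pow_right i).eq, mul_inv_cancel_right, e1, ← mul_assoc, ← pow_succ]
  have h1 := key (orderOf o)
  rw [pow_orderOf_eq_one, one_mul, inv_one, mul_one, right_eq_mul] at h1
  haveI : Fact (Nat.Prime 2) := ⟨Nat.prime_two⟩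
  obtain ⟨j, hj⟩ := IsPGroup.iff_orderOf.mp hW ⟨c, hc⟩
  rw [Subgroup.orderOf_mk] at hj
  have hd := orderOf_dvd_of_pow_eq_one h1
  rw [hj] at hd
  rcases j with _ | j
  · rw [pow_zero, orderOf_eq_one_iff] at hj
    exact commutatorElement_eq_one_iff_commute.mp (hcdef.trans hj)
  · exact absurd ho (Nat.not_odd_iff_even.mpr
      (even_iff_two_dvd.mpr ((dvd_pow_self 2 (Nat.succ_ne_zero j)).trans hd)))

/-- In a group with at least four elements two given elements are avoided. -/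
theorem exists_mem_avoid [Finite G] {E : Subgroup G} (h4 : 4 ≤ Nat.card E) (e₁ e₂ : G) :
    ∃ e ∈ E, e ≠ e₁ ∧ e ≠ e₂ := by
  classical
  by_contra hc
  push Not at hc
  have h2 : Nat.card E ≤ 2 := by
    refine le_trans (Nat.card_le_card_of_injective (fun x : E => decide ((x : G) = e₁))
      fun x x' hx => ?_) (by simp)
    by_cases hx1 : (x : G) = e₁
    · simp only [hx1, decide_true] at hx
      exact Subtype.ext (hx1.trans (of_decide_eq_true hx.symm).symm)
    · simp only [hx1, decide_false] at hx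
      exact Subtype.ext ((hc x x.2 hx1).trans (hc x' x'.2 (of_decide_eq_false hx.symm)).symm)
  omega

namespace UData

variable [Finite G] {M Q E A : Subgroup G} {u a : G} (h : UData M Q E A u a)
include h

theorem torus : TorusData (rk M a) E A u := h.shape.torusData_twist h.mem h.centE h.free

theorem commute_a {k : G} (hk : k ∈ rk M a) : Commute a k :=
  (mem_centralizer_singleton_iff.mp hk.2).symm

theorem commute_rk {k q : G} (hk : k ∈ rk M a) (hq : q ∈ Q) : Commute k q :=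
  h.shape.twist_centralizes h.mem h.centE h.free k hk q hq

theorem mem_E_of_rk {g : G} (hg : g ∈ Q) (hk : g ∈ rk M a) : g ∈ E :=
  h.free g hg (h.commute_a hk)

theorem commute_u : Commute a u := h.shape.commute_A h.mem

theorem u_mem_rk : u ∈ rk M a := h.torus.u_mem

theorem E_le_rk : E ≤ rk M a := h.torus.le

theorem u_notMem_comm : u ∉ ⁅M, A⁆ :=
  h.shape.u_notMem_commutator (Or.inr ⟨a, h.mem, h.centE, h.free⟩)

theorem u_notMem_kk : u ∉ ⁅rk M a, A⁆ := h.torus.u_notMem_commutator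

theorem kk_le_rk : ⁅rk M a, A⁆ ≤ rk M a := h.torus.commutator_le

theorem kk_le_comm : ⁅rk M a, A⁆ ≤ ⁅M, A⁆ := commutator_mono inf_le_left le_rfl

theorem mem_kk {g : G} (hg : g ∈ rk M a) (hgK : g ∈ ⁅M, A⁆) : g ∈ ⁅rk M a, A⁆ := by
  refine (h.torus.mem_or_mul_mem hg).resolve_right fun h2 => h.u_notMem_comm ?_
  have h3 := (⁅M, A⁆).mul_mem ((⁅M, A⁆).inv_mem hgK) (h.kk_le_comm h2)
  rwa [inv_mul_cancel_left] at h3

/-- The coordinates on `⁅M, A⁆`. -/
theorem exists_kk (hp : Split M Q a) {g : G} (hg : g ∈ ⁅M, A⁆) :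
    ∃ q ∈ Q, ∃ k ∈ ⁅rk M a, A⁆, g = q * k := by
  obtain ⟨q, hq, k, hk, rfl⟩ := hp g (h.shape.commutator_le hg)
  refine ⟨q, hq, k, h.mem_kk hk ?_, rfl⟩
  have h1 := (⁅M, A⁆).mul_mem ((⁅M, A⁆).inv_mem (h.shape.Q_le_commutator hq)) hg
  rwa [inv_mul_cancel_left] at h1

theorem mul_kk_mem {q k : G} (hq : q ∈ Q) (hk : k ∈ ⁅rk M a, A⁆) : q * k ∈ ⁅M, A⁆ :=
  (⁅M, A⁆).mul_mem (h.shape.Q_le_commutator hq) (h.kk_le_comm hk)

/-- An invariant subgroup of `⁅C_M(a), A⁆` other than `1` contains `E`. -/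
theorem E_le_of_ne_bot {S : Subgroup G} (hS : S ≤ nxt (rk M a) (rk M a))
    (hAS : A ≤ normalizer (S : Set G)) (hne : S ≠ ⊥) : E ≤ S := by
  haveI : Fact (Nat.Prime 2) := ⟨Nat.prime_two⟩
  have hS2 : IsPGroup 2 S := h.shape.two.to_le
    ((hS.trans (nxt_le le_normalizer)).trans inf_le_left)
  obtain ⟨j, hj⟩ := IsPGroup.iff_card.mp hS2
  have hj1 : 2 ∣ Nat.card S := by
    rcases j with _ | j
    · exact absurd (card_eq_one.mp (by rw [hj, pow_zero])) hne
    · rw [hj]; exact dvd_pow_self 2 (Nat.succ_ne_zero j)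
  obtain ⟨x, hx⟩ := exists_prime_orderOf_dvd_card' (G := S) 2 hj1
  have hx2 : (x : G) * x = 1 := by
    rw [← Subgroup.orderOf_coe] at hx
    rw [← pow_two, ← hx]
    exact pow_orderOf_eq_one _
  have hx1 : (x : G) ≠ 1 := fun e => by
    rw [← Subgroup.orderOf_coe, e, orderOf_one] at hx
    exact absurd hx (by norm_num)
  have hxE := h.torus.mem_of_sq_eq_one (hS x.2) hx2
  intro e he
  by_cases he1 : e = 1
  · rw [he1]; exact S.one_mem
  obtain ⟨b, hb, hbe⟩ := h.shape.trans x hxE hx1 e he he1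
  rw [← hbe]
  exact (mem_normalizer_iff.mp (hAS hb) _).mp x.2

theorem normA_F : A ≤ normalizer (nxt (rk M a) (rk M a) : Set G) :=
  norm_nxt h.torus.normM h.torus.normM

theorem F_abelian {x y : G} (hx : x ∈ nxt (rk M a) (rk M a)) (hy : y ∈ nxt (rk M a) (rk M a)) :
    Commute x y := by
  have h1 : u * (x * y) * u⁻¹ = (x * y)⁻¹ := h.torus.conj_eq_inv (mul_mem hx hy)
  rw [show u * (x * y) * u⁻¹ = u * x * u⁻¹ * (u * y * u⁻¹) by group, h.torus.conj_eq_inv hx,
    h.torus.conj_eq_inv hy, mul_inv_rev] at h1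
  exact Commute.inv_inv_iff.mp h1

/-- The commutators of `C_M(a)` when its Frattini part is in `E`. -/
theorem kk_abelian (hF : nxt (rk M a) (rk M a) ≤ E) {x y : G} (hx : x ∈ ⁅rk M a, A⁆)
    (hy : y ∈ ⁅rk M a, A⁆) : Commute x y := by
  have hbot : nxt (nxt (rk M a) (rk M a)) (rk M a) ≤ ⊥ := by
    refine sup_le (Subgroup.commutator_le.mpr fun n hn r hr => ?_) ((closure_le _).mpr ?_)
    · rw [mem_bot, commutatorElement_eq_one_iff_commute]
      exact h.torus.central n (hF hn) r hr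
    · rintro _ ⟨n, hn, rfl⟩
      exact mem_bot.mpr (h.shape.sq n (hF hn))
  exact commutatorElement_eq_one_iff_commute.mp
    (mem_bot.mp (hbot (h.torus.commutator_mem_nxt_nxt hx hy)))

/-- An element moving `u` inside the Frattini part of `C_M(a)` is adjusted by `M`. -/
theorem exists_fix {g : G} (hg : ⁅g, u⁆ ∈ nxt (rk M a) (rk M a)) :
    ∃ m ∈ M, Commute (m * g) u := by
  obtain ⟨r, hr, hru⟩ := h.torus.frattini_data.2 _ hg
  refine ⟨r⁻¹, M.inv_mem (h.kk_le_rk hr).1, ?_⟩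
  have e : r * u * r⁻¹ = g * u * g⁻¹ := by
    have h1 := congrArg (· * u) hru
    simp only [commutatorElement_def, inv_mul_cancel_right] at h1
    exact h1
  refine mul_inv_eq_iff_eq_mul.mp ?_
  calc r⁻¹ * g * u * (r⁻¹ * g)⁻¹ = r⁻¹ * (g * u * g⁻¹) * r := by group
    _ = u := by rw [← e]; group

theorem comm_u_mem_E {x : G} (hx : x ∈ rk M a) (hF : nxt (rk M a) (rk M a) ≤ E) : ⁅x, u⁆ ∈ E :=
  hF (comm_mem_nxt hx h.u_mem_rk)

/-- When the Frattini part is in `E`, only `E` is fixed by `u` in `⁅C_M(a), A⁆`. -/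
theorem mem_E_of_commute_u {x : G} (hx : x ∈ ⁅rk M a, A⁆) (hxu : Commute x u) : x ∈ E := by
  refine (h.torus.cent x (h.kk_le_rk hx) hxu).resolve_right fun h1 => h.u_notMem_kk ?_
  have h2 := (⁅rk M a, A⁆).mul_mem ((⁅rk M a, A⁆).inv_mem hx) (h.torus.le_commutator h1)
  rwa [inv_mul_cancel_left] at h2

end UData

end Cfsg.Agent.H51.AschU
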