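import Cfsg.Agent.H51.Asch.UnitaryKill

/-!
The two-point part acts on `R / Z` through at most two elements, and the contradiction.
-/

set_option autoImplicit false
set_option linter.style.haveILetI false

namespace Cfsg.Agent.H51.Asch

open Subgroup MulAction
open Cfsg.Agent.H14.Asch
open Cfsg.Agent.H73.Asch (RankTwoBad Line2 RankOnePairs)
open scoped commutatorElement Pointwise IsMulCommutative

universe u v w

variable {G : Type u} [Group G] {V : Type w} [AddCommGroup V]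

/-- A subgroup containing the quotient of any two outside elements has index at most two. -/
theorem card_le_two_mul [Finite G] {X Y : Subgroup G} (hYX : Y ≤ X)
    (h : ∀ s ∈ X, ∀ s' ∈ X, s ∉ Y → s' ∉ Y → s'⁻¹ * s ∈ Y) : Nat.card X ≤ 2 * Nat.card Y := by
  classical
  by_cases hex : ∃ s ∈ X, s ∉ Y
  · obtain ⟨s₀, hs₀, hs₀'⟩ := hex
    let f : X → Bool × Y := fun s =>
      if hs : (s : G) ∈ Y then (true, ⟨s, hs⟩) else (false, ⟨s₀⁻¹ * s, h s s.2 s₀ hs₀ hs hs₀'⟩)
    have hf : Function.Injective f := by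
      intro s s' e
      simp only [f] at e
      split_ifs at e with h1 h2 h2 <;> simp at e
      · exact e
      · exact e
    have := Nat.card_le_card_of_injective f hf
    rwa [Nat.card_prod, Nat.card_eq_fintype_card (α := Bool), Fintype.card_bool] at this
  · push Not at hex
    rw [le_antisymm hYX hex]
    omega

namespace VModel

variable {R Z E : Subgroup G} [IsMulCommutative E] {π : G → V} {q : V → Additive E}
  {β : V → V → Additive E} (m : VModel R Z E π q β)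
include m

theorem triv_one : m.Triv 1 := fun g _ => by simp

theorem triv_mul {n n' : G} (hR' : n' ∈ normalizer (R : Set G)) (hn : m.Triv n) (hn' : m.Triv n') :
    m.Triv (n * n') := fun g hg => by
  rw [show n * n' * g * (n * n')⁻¹ = n * (n' * g * n'⁻¹) * n⁻¹ by group,
    hn _ ((mem_normalizer_iff.mp hR' g).mp hg), hn' g hg]

theorem triv_inv {n : G} (hR : n ∈ normalizer (R : Set G)) (hn : m.Triv n) : m.Triv n⁻¹ :=
  fun g hg => by
    have h1 : n⁻¹ * g * n⁻¹⁻¹ ∈ R := (mem_normalizer_iff.mp (inv_mem hR) g).mp hg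
    have h2 := hn _ h1
    rw [show n * (n⁻¹ * g * n⁻¹⁻¹) * n⁻¹ = g by group] at h2
    exact h2.symm

theorem triv_pow {n : G} (hR : n ∈ normalizer (R : Set G)) (hn : m.Triv n) :
    ∀ k : ℕ, m.Triv (n ^ k)
  | 0 => by rw [pow_zero]; exact m.triv_one
  | k + 1 => by rw [pow_succ']; exact m.triv_mul (pow_mem hR k) hn (triv_pow hR hn k)

/-- An element of odd order whose square acts trivially acts trivially. -/
theorem triv_of_sq {n : G} (hR : n ∈ normalizer (R : Set G)) (hodd : Odd (orderOf n))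
    (h2 : m.Triv (n * n)) : m.Triv n := by
  obtain ⟨j, hj⟩ := hodd
  have h1 : n = (n * n) ^ (j + 1) := by
    rw [← pow_two, ← pow_mul, show 2 * (j + 1) = orderOf n + 1 by omega, pow_succ, pow_orderOf_eq_one,
      one_mul]
  rw [h1]
  exact m.triv_pow (mul_mem hR hR) h2 _

/-- An element whose square acts trivially acts as its inverse. -/
theorem act_inv_of_triv_sq {n : G} (hR : n ∈ normalizer (R : Set G)) {σ : V →+ V}
    (hσ : ∀ g ∈ R, π (n * g * n⁻¹) = σ (π g)) (h2 : m.Triv (n * n)) :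
    ∀ g ∈ R, π (n⁻¹ * g * n⁻¹⁻¹) = σ (π g) := fun g hg => by
  have h1 : n⁻¹ * g * n⁻¹⁻¹ ∈ R := (mem_normalizer_iff.mp (inv_mem hR) g).mp hg
  have h3 := hσ _ h1
  rw [show n * (n⁻¹ * g * n⁻¹⁻¹) * n⁻¹ = g by group] at h3
  rw [h3]
  exact ((m.triv_iff (σ := σ.comp σ) (m.act_mul hR hσ hσ)).mp h2 _).symm

end VModel

namespace Setup

variable [Finite G] {Ω : Type v} [MulAction G Ω] [Finite Ω] {D : Set G}
  {u : G} {x y : Ω} {E Q P A : Subgroup G} [IsMulCommutative E] {a : G}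
  (c : Setup D u x y E Q P A a) (h : Crit G Ω D) (hP : RankOnePairs (G := G) Ω)
  {π : G → V} {q : V → Additive E} {β : V → V → Additive E}
  (m : VModel (Q ⊔ zpowers u) (E ⊔ zpowers u) E π q β)
include c h hP m

omit hP in
theorem triv_of_mem_R {p : G} (hp : p ∈ Q ⊔ zpowers u) : m.Triv p := fun g hg => by
  have h1 := m.π_mul _ (inv_mem hp) _ hp
  rw [inv_mul_cancel, (m.π_eq 1 (one_mem _)).mpr (one_mem _)] at h1
  rw [m.π_mul _ (mul_mem hp hg) _ (inv_mem hp), m.π_mul _ hp _ hg, add_comm (π p) (π g), add_assoc,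
    add_comm (π p) (π p⁻¹), ← h1, add_zero]

omit hP in
/-- The elements of `R` fixed by the fixed-point-free `a` lie in `Z`. -/
theorem mem_Z_of_fixed {g : G} (hg : g ∈ Q ⊔ zpowers u) (hfix : π (a * g * a⁻¹) = π g) :
    g ∈ E ⊔ zpowers u := by
  obtain ⟨haE, hau, haR, haZ⟩ := c.normalizer_of_A h c.a_mem
  have key : ∀ k ∈ Q, π (a * k * a⁻¹) = π k → k ∈ E := by
    intro k hk hkf
    have hk' : a * k * a⁻¹ ∈ Q := (mem_normalizer_iff.mp (c.A_normQ c.a_mem) k).mp hk
    have he : a * k * a⁻¹ * k⁻¹ ∈ E := c.inf_Z h (mem_inf.mpr ⟨mul_mem hk' (inv_mem hk), by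
      refine (m.π_eq _ (mul_mem (mem_sup_left hk') (inv_mem (mem_sup_left hk)))).mp ?_
      rw [m.π_mul _ (mem_sup_left hk') _ (inv_mem (mem_sup_left hk)), hkf,
        ← m.π_mul _ (mem_sup_left hk) _ (inv_mem (mem_sup_left hk)), mul_inv_cancel]
      exact (m.π_eq 1 (one_mem _)).mpr (one_mem _)⟩)
    refine c.a_free k hk (mul_inv_eq_iff_eq_mul.mp ?_)
    have h1 := eq_one_of_conj_odd (c := a) (g := k) (e := a * k * a⁻¹ * k⁻¹)
      (by group) (c.a_centE _ he) (line2_mul_self c.line h he)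
      (c.A_odd.of_dvd_nat (Subgroup.orderOf_dvd_natCard A c.a_mem))
    exact mul_inv_eq_one.mp h1
  rcases c.mem_R.mp hg with h1 | h1
  · exact mem_sup_left (key g h1 hfix)
  · refine c.mem_Z.mpr (Or.inr (key _ h1 ?_))
    have hu0 : π u = 0 := (m.π_eq u (mem_sup_right (mem_zpowers u))).mpr (mem_sup_right (mem_zpowers u))
    rw [show a * (g * u) * a⁻¹ = a * g * a⁻¹ * (a * u * a⁻¹) by group, hau.eq, mul_inv_cancel_right,
      m.π_mul _ ((mem_normalizer_iff.mp haR g).mp hg) _ (mem_sup_right (mem_zpowers u)), hfix,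
      m.π_mul _ hg _ (mem_sup_right (mem_zpowers u)), hu0]

omit hP in
theorem not_triv_a : ¬ m.Triv a := by
  intro ht
  have hle : Q ≤ E := fun g hg => c.inf_Z h (mem_inf.mpr
    ⟨hg, c.mem_Z_of_fixed h m (mem_sup_left hg) (ht g (mem_sup_left hg))⟩)
  have := card_le_of_le hle
  rw [c.card_E, c.card_Q] at this
  omega

omit hP in
/-- Every element of the two-point part squares to a trivial one. -/
theorem triv_mul_self_of_mem {p : G} (hp : p ∈ P) : m.Triv (p * p) := by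
  obtain ⟨hpR, hpZ, hpE⟩ := c.normalizer_of_P h hp
  haveI : Fact (Nat.Prime 2) := ⟨Nat.prime_two⟩
  obtain ⟨j, hj⟩ := IsPGroup.iff_orderOf.mp c.maxTwo.1 ⟨p, hp⟩
  rw [Subgroup.orderOf_mk] at hj
  have key : ∀ i : ℕ, m.Triv (p ^ (2 ^ (i + 2))) → m.Triv (p ^ (2 ^ (i + 1))) := by
    intro i hi
    by_contra hne
    obtain ⟨h1, h2, h3⟩ := c.normalizer_of_P h (pow_mem hp (2 ^ (i + 1)))
    have hsq : m.Triv (p ^ (2 ^ (i + 1)) * p ^ (2 ^ (i + 1))) := by
      rw [← pow_add, ← two_mul, ← pow_succ']; exact hi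
    have h4 := m.triv_mul_self h1 h2 h3 hsq hne hpR hpZ hpE (fun g _ => by
      rw [((Commute.refl p).pow_right _).eq])
    apply hne
    rw [pow_succ', pow_mul, pow_two]
    exact m.triv_pow (mul_mem hpR hpR) h4 _
  have base : m.Triv (p ^ (2 ^ (j + 1))) := by
    rw [pow_succ, pow_mul, ← hj, pow_orderOf_eq_one, one_pow]; exact m.triv_one
  have all : ∀ d i, i + d = j → m.Triv (p ^ (2 ^ (i + 1))) := by
    intro d
    induction d with
    | zero => intro i hi; rw [add_zero] at hi; rw [hi]; exact base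
    | succ d ih => intro i hi; exact key i (ih (i + 1) (by omega))
  have := all j 0 (zero_add j)
  rwa [zero_add, pow_one, pow_two] at this

omit hP in
/-- A non-trivial two-point element inverts the part of the torus centralising `E`. -/
theorem triv_inverts {t b : G} (ht : t ∈ P ⊓ stabilizer G y) (hne : ¬ m.Triv t)
    (hb : b ∈ A) (hbE : ∀ e ∈ E, Commute b e) : m.Triv (t * b * t⁻¹ * b) := by
  obtain ⟨htP, -⟩ := mem_inf.mp ht
  obtain ⟨htR, htZ, htE⟩ := c.normalizer_of_P h htP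
  obtain ⟨-, -, hbR, hbZ⟩ := c.normalizer_of_A h hb
  have hb0 : b ∈ A ⊓ centralizer (E : Set G) :=
    mem_inf.mpr ⟨hb, mem_centralizer_iff.mpr fun e he => (hbE e he).symm.eq⟩
  have hb' : t * b * t⁻¹ ∈ A ⊓ centralizer (E : Set G) :=
    (mem_normalizer_iff.mp (c.T_norm ht) b).mp hb0
  obtain ⟨hb'A, hb'E⟩ := mem_inf.mp hb'
  set d := t * b * t⁻¹ * b with hd
  have hdA : d ∈ A := mul_mem hb'A hb
  obtain ⟨-, -, hdR, hdZ⟩ := c.normalizer_of_A h hdA
  have hdE : ∀ e ∈ E, d * e * d⁻¹ = e := fun e he => by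
    have h1 : Commute d e :=
      ((show Commute (t * b * t⁻¹) e from (mem_centralizer_iff.mp hb'E e he).symm)).mul_left (hbE e he)
    rw [h1.eq, mul_inv_cancel_right]
  have htt := c.triv_mul_self_of_mem h m htP
  have hodd : Odd (orderOf d) := c.A_odd.of_dvd_nat (Subgroup.orderOf_dvd_natCard A hdA)
  refine m.triv_of_sq hdR hodd (m.triv_mul_self htR htZ htE htt hne hdR hdZ hdE fun g hg => ?_)
  obtain ⟨σ, hσ⟩ := m.exists_act htR htZ
  obtain ⟨τ, hτ⟩ := m.exists_act hbR hbZ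
  have hss : ∀ v, σ (σ v) = v :=
    (m.triv_iff (σ := σ.comp σ) (m.act_mul htR hσ hσ)).mp htt
  have hconj : ∀ k ∈ Q ⊔ zpowers u, π (t * b * t⁻¹ * k * (t * b * t⁻¹)⁻¹) = σ (τ (σ (π k))) :=
    m.act_mul (inv_mem htR) (σ := σ.comp τ) (σ' := σ) (m.act_mul hbR hσ hτ)
      (m.act_inv_of_triv_sq htR hσ htt)
  have hb'R : t * b * t⁻¹ ∈ normalizer ((Q ⊔ zpowers u : Subgroup G) : Set G) :=
    mul_mem (mul_mem htR hbR) (inv_mem htR)
  have hd1 : ∀ k ∈ Q ⊔ zpowers u, π (d * k * d⁻¹) = σ (τ (σ (τ (π k)))) :=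
    m.act_mul hbR (σ := σ.comp (τ.comp σ)) (σ' := τ) hconj hτ
  have hcomm : d = b * (t * b * t⁻¹) := c.A_comm _ hb'A _ hb
  have hd2 : ∀ k ∈ Q ⊔ zpowers u, π (d * k * d⁻¹) = τ (σ (τ (σ (π k)))) := by
    rw [hcomm]
    exact m.act_mul hb'R (σ := τ) (σ' := σ.comp (τ.comp σ)) hτ hconj
  have htg : t * g * t⁻¹ ∈ Q ⊔ zpowers u := (mem_normalizer_iff.mp htR g).mp hg
  have hdg : d * g * d⁻¹ ∈ Q ⊔ zpowers u := (mem_normalizer_iff.mp hdR g).mp hg
  rw [show d * t * g * (d * t)⁻¹ = d * (t * g * t⁻¹) * d⁻¹ by group, hd2 _ htg, hσ g hg, hss,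
    show t * d * g * (t * d)⁻¹ = t * (d * g * d⁻¹) * t⁻¹ by group, hσ _ hdg, hd1 g hg, hss]

omit hP in
/-- Two non-trivial two-point elements differ by a trivial one. -/
theorem triv_mul_of_not_triv {t t' : G} (ht : t ∈ P ⊓ stabilizer G y)
    (ht' : t' ∈ P ⊓ stabilizer G y) (hne : ¬ m.Triv t) (hne' : ¬ m.Triv t') : m.Triv (t * t') := by
  by_contra hne''
  have haA := c.a_mem
  obtain ⟨haE, -, haR, haZ⟩ := c.normalizer_of_A h haA
  have htP := (mem_inf.mp ht).1
  have ht'P := (mem_inf.mp ht').1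
  obtain ⟨htR, htZ, htE⟩ := c.normalizer_of_P h htP
  obtain ⟨ht'R, ht'Z, -⟩ := c.normalizer_of_P h ht'P
  obtain ⟨hpR, hpZ, hpE⟩ := c.normalizer_of_P h (mul_mem htP ht'P)
  have h1 := c.triv_inverts h m ht hne haA c.a_centE
  have h2 := c.triv_inverts h m ht' hne' haA c.a_centE
  obtain ⟨σ, hσ⟩ := m.exists_act htR htZ
  have haEfix : ∀ e ∈ E, a * e * a⁻¹ = e := fun e he => by
    rw [(c.a_centE e he).eq, mul_inv_cancel_right]
  refine c.not_triv_a h m (m.triv_of_sq haR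
    (c.A_odd.of_dvd_nat (Subgroup.orderOf_dvd_natCard A haA))
    (m.triv_mul_self hpR hpZ hpE (c.triv_mul_self_of_mem h m (mul_mem htP ht'P)) hne'' haR haZ haEfix
      fun g hg => ?_))
  obtain ⟨σ', hσ'⟩ := m.exists_act ht'R ht'Z
  obtain ⟨τ, hτ⟩ := m.exists_act haR haZ
  have htt := c.triv_mul_self_of_mem h m htP
  have ht't' := c.triv_mul_self_of_mem h m ht'P
  have hss : ∀ v, σ (σ v) = v := (m.triv_iff (σ := σ.comp σ) (m.act_mul htR hσ hσ)).mp htt
  have hss' : ∀ v, σ' (σ' v) = v :=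
    (m.triv_iff (σ := σ'.comp σ') (m.act_mul ht'R hσ' hσ')).mp ht't'
  have hinvert : ∀ {s : G} {ρ : V →+ V}, s ∈ normalizer ((Q ⊔ zpowers u : Subgroup G) : Set G) →
      (∀ k ∈ Q ⊔ zpowers u, π (s * k * s⁻¹) = ρ (π k)) → m.Triv (s * s) →
      m.Triv (s * a * s⁻¹ * a) → ∀ v, τ (ρ (τ v)) = ρ v := by
    intro s ρ hsR hρ hs2 htr v
    have h4 := (m.triv_iff (σ := (ρ.comp (τ.comp ρ)).comp τ) (m.act_mul haR (σ := ρ.comp (τ.comp ρ))
      (σ' := τ) (m.act_mul (inv_mem hsR) (σ := ρ.comp τ) (σ' := ρ) (m.act_mul haR hρ hτ)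
        (m.act_inv_of_triv_sq hsR hρ hs2)) hτ)).mp htr v
    have h5 := congrArg ρ h4
    have hρρ := (m.triv_iff (σ := ρ.comp ρ) (m.act_mul hsR hρ hρ)).mp hs2
    simp only [AddMonoidHom.coe_comp, Function.comp_apply] at h5 hρρ
    rw [hρρ] at h5
    exact h5
  have ha : a * g * a⁻¹ ∈ Q ⊔ zpowers u := (mem_normalizer_iff.mp haR g).mp hg
  have htt'g : t * t' * g * (t * t')⁻¹ ∈ Q ⊔ zpowers u :=
    (mem_normalizer_iff.mp (mul_mem htR ht'R) g).mp hg
  have hp := m.act_mul ht'R hσ hσ'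
  rw [show a * (t * t') * g * (a * (t * t'))⁻¹ = a * (t * t' * g * (t * t')⁻¹) * a⁻¹ by group,
    hτ _ htt'g, hp g hg,
    show t * t' * a * g * (t * t' * a)⁻¹ = t * t' * (a * g * a⁻¹) * (t * t')⁻¹ by group,
    hp _ ha, hτ g hg, ← hinvert htR hσ htt h1 (σ' (τ (π g))), hinvert ht'R hσ' ht't' h2]

/-- The elements of `P` acting trivially lie in `R`, and `P` is at most twice as large. -/
theorem kernel_eq (hsurj : ∀ e ∈ E, ∃ n ∈ stabilizer G x ⊓ normalizer (E : Set G) ⊓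
    normalizer (P : Set G), n * u * n⁻¹ = u * e) {t : G} (ht : t ∈ P ⊓ stabilizer G y)
    (htriv : m.Triv t) : t = 1 ∨ t = u := by
  classical
  haveI : Fact (Nat.Prime 2) := ⟨Nat.prime_two⟩
  have huu := c.sq_u
  set T := P ⊓ stabilizer G y with hTdef
  have hTP : ∀ {s}, s ∈ T → s ∈ P := fun hs => (mem_inf.mp hs).1
  have huT : u ∈ T := mem_inf.mpr ⟨c.u_mem, mem_stabilizer_iff.mpr c.fix⟩
  -- the kernel
  let K1 : Subgroup G :=
    { carrier := {s | s ∈ T ∧ m.Triv s}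
      one_mem' := ⟨one_mem T, m.triv_one⟩
      mul_mem' := fun {s s'} hs hs' => ⟨mul_mem hs.1 hs'.1,
        m.triv_mul (c.normalizer_of_P h (hTP hs'.1)).1 hs.2 hs'.2⟩
      inv_mem' := fun {s} hs => ⟨inv_mem hs.1,
        m.triv_inv (c.normalizer_of_P h (hTP hs.1)).1 hs.2⟩ }
  have huK : u ∈ K1 := ⟨huT, c.triv_of_mem_R h m (mem_sup_right (mem_zpowers u))⟩
  by_contra hcon
  push Not at hcon
  -- the kernel centralises `Q`
  have hcentQ : ∀ s ∈ K1, ∀ g ∈ Q, Commute s g := by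
    rintro s ⟨hsT, hs⟩ g hg
    obtain ⟨-, -, hsE⟩ := c.normalizer_of_P h (hTP hsT)
    have hmem : ∀ k ∈ Q, k⁻¹ * (s * k * s⁻¹) ∈ E := fun k hk => by
      have hk' := (mem_normalizer_iff.mp (c.P_le_normalizer h (hTP hsT)) k).mp hk
      refine c.inf_Z h (mem_inf.mpr ⟨mul_mem (inv_mem hk) hk', ?_⟩)
      exact (m.π_eq_iff (mem_sup_left hk') (mem_sup_left hk)).mp (hs k (mem_sup_left hk))
    have haA := c.a_mem
    obtain ⟨-, -, haR, haZ⟩ := c.normalizer_of_A h haA
    set d := s * a * s⁻¹ * a⁻¹ with hd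
    have ha0 : a ∈ A ⊓ centralizer (E : Set G) :=
      mem_inf.mpr ⟨haA, mem_centralizer_iff.mpr fun e he => (c.a_centE e he).symm.eq⟩
    obtain ⟨hdA, hdC⟩ := mem_inf.mp (mul_mem ((mem_normalizer_iff.mp (c.T_norm hsT) a).mp ha0)
      (inv_mem ha0) : d ∈ A ⊓ centralizer (E : Set G))
    have hsR := (c.normalizer_of_P h (hTP hsT)).1
    have hdtriv : m.Triv d := fun k hk => by
      have hk₁ : a⁻¹ * k * a ∈ Q ⊔ zpowers u := by
        have := (mem_normalizer_iff.mp (inv_mem haR) k).mp hk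
        rwa [inv_inv] at this
      obtain ⟨σ, hσ⟩ := m.exists_act haR haZ
      have hk₂ := (mem_normalizer_iff.mp (inv_mem hsR) _).mp hk₁
      have hi := m.triv_inv hsR hs _ hk₁
      rw [show d * k * d⁻¹ = s * (a * (s⁻¹ * (a⁻¹ * k * a) * s⁻¹⁻¹) * a⁻¹) * s⁻¹ by rw [hd]; group,
        hs _ ((mem_normalizer_iff.mp haR _).mp hk₂), hσ _ hk₂, hi, ← hσ _ hk₁]
      congr 1
      group
    have hdQ : ∀ k ∈ Q, d * k * d⁻¹ = k := fun k hk => by
      have hk' := (mem_normalizer_iff.mp (c.A_normQ hdA) k).mp hk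
      have he : d * k * d⁻¹ * k⁻¹ ∈ E := c.inf_Z h (mem_inf.mpr ⟨mul_mem hk' (inv_mem hk), by
        refine (m.π_eq _ (mul_mem (mem_sup_left hk') (inv_mem (mem_sup_left hk)))).mp ?_
        rw [m.π_mul _ (mem_sup_left hk') _ (inv_mem (mem_sup_left hk)), hdtriv k (mem_sup_left hk),
          ← m.π_mul _ (mem_sup_left hk) _ (inv_mem (mem_sup_left hk)), mul_inv_cancel]
        exact (m.π_eq 1 (one_mem _)).mpr (one_mem _)⟩)
      exact mul_inv_eq_one.mp (eq_one_of_conj_odd (c := d) (g := k) (by group)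
        (show Commute d _ from (mem_centralizer_iff.mp hdC _ he).symm)
        (line2_mul_self c.line h he) (c.A_odd.of_dvd_nat (Subgroup.orderOf_dvd_natCard A hdA)))
    let η : Q → G := fun k => (k : G)⁻¹ * (s * k * s⁻¹)
    have hηmul : ∀ k k' : Q, η (k * k') = η k * η k' := fun k k' => by
      show ((k : G) * k')⁻¹ * (s * (k * k') * s⁻¹) = _
      calc ((k : G) * k')⁻¹ * (s * (k * k') * s⁻¹)
          = (k' : G)⁻¹ * (η k * (s * k' * s⁻¹)) := by simp only [η]; group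
        _ = (k' : G)⁻¹ * ((s * k' * s⁻¹) * η k) := by
            rw [(c.line.central _ (hmem k k.2) _
              ((mem_normalizer_iff.mp (c.P_le_normalizer h (hTP hsT)) _).mp k'.2)).eq]
        _ = η k' * η k := by simp only [η]; group
        _ = η k * η k' := (c.line.central _ (hmem k' k'.2) _ (c.line.E_le (hmem k k.2))).eq
    have hηa : ∀ k (hk : k ∈ Q), η ⟨a * k * a⁻¹, (mem_normalizer_iff.mp (c.A_normQ haA) k).mp hk⟩ =
        η ⟨k, hk⟩ := fun k hk => by
      show (a * k * a⁻¹)⁻¹ * (s * (a * k * a⁻¹) * s⁻¹) = k⁻¹ * (s * k * s⁻¹)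
      rw [show s * (a * k * a⁻¹) * s⁻¹ = d * (a * (k * (k⁻¹ * (s * k * s⁻¹))) * a⁻¹) * d⁻¹ by
        rw [hd]; group]
      set e := k⁻¹ * (s * k * s⁻¹) with he
      have hke : k * e ∈ Q := mul_mem hk (c.line.E_le (hmem k hk))
      rw [hdQ _ ((mem_normalizer_iff.mp (c.A_normQ haA) _).mp hke),
        show a * (k * e) * a⁻¹ = (a * k * a⁻¹) * (a * e * a⁻¹) by group,
        (c.a_centE e (hmem k hk)).eq, mul_inv_cancel_right, inv_mul_cancel_left]
    -- `k ↦ a k a⁻¹ k⁻¹` is onto modulo `E`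
    obtain ⟨σ, hσ⟩ := m.exists_act haR haZ
    let Δ : V →+ V := σ - AddMonoidHom.id V
    haveI := m.form.finite
    have hinj : Function.Injective Δ := by
      rw [injective_iff_map_eq_zero]
      intro v hv
      obtain ⟨k, hk, rfl⟩ := m.π_surj v
      exact (m.π_eq k hk).mpr (c.mem_Z_of_fixed h m hk (by
        rw [hσ k hk]; exact sub_eq_zero.mp hv))
    obtain ⟨v, hv⟩ := (Finite.injective_iff_surjective.mp hinj) (π g)
    obtain ⟨k, hk, rfl⟩ : ∃ k ∈ Q, π k = v := by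
      obtain ⟨k, hk, rfl⟩ := m.π_surj v
      rcases c.mem_R.mp hk with h1 | h1
      · exact ⟨k, h1, rfl⟩
      · refine ⟨k * u, h1, ?_⟩
        rw [m.π_mul _ hk _ (mem_sup_right (mem_zpowers u)),
          (m.π_eq u (mem_sup_right (mem_zpowers u))).mpr (mem_sup_right (mem_zpowers u)), add_zero]
    have hk' := (mem_normalizer_iff.mp (c.A_normQ haA) k).mp hk
    have he : k * (a * k * a⁻¹)⁻¹ * g ∈ E := by
      refine c.inf_Z h (mem_inf.mpr ⟨mul_mem (mul_mem hk (inv_mem hk')) hg, ?_⟩)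
      have hv' : π (a * k * a⁻¹) - π k = π g := by rw [hσ k (mem_sup_left hk)]; exact hv
      have hinvπ : π (a * k * a⁻¹)⁻¹ = - π (a * k * a⁻¹) := by
        have h1 := m.π_mul _ (inv_mem (mem_sup_left hk')) _ (mem_sup_left hk')
        rw [inv_mul_cancel, (m.π_eq 1 (one_mem _)).mpr (one_mem _)] at h1
        exact eq_neg_of_add_eq_zero_left h1.symm
      refine (m.π_eq _ (mem_sup_left (mul_mem (mul_mem hk (inv_mem hk')) hg))).mp ?_
      rw [m.π_mul _ (mem_sup_left (mul_mem hk (inv_mem hk'))) _ (mem_sup_left hg),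
        m.π_mul _ (mem_sup_left hk) _ (inv_mem (mem_sup_left hk')), hinvπ, ← hv']
      abel
    set e := k * (a * k * a⁻¹)⁻¹ * g with he'
    have hge : g = (a * k * a⁻¹) * k⁻¹ * e := by rw [he']; group
    have hη1 : η ⟨g, hg⟩ = 1 := by
      have h1 : (⟨g, hg⟩ : Q) =
          ⟨a * k * a⁻¹, hk'⟩ * ⟨k, hk⟩⁻¹ * ⟨e, c.line.E_le he⟩ := Subtype.ext (by push_cast; exact hge)
      have hinv' : η ⟨k, hk⟩⁻¹ = (η ⟨k, hk⟩)⁻¹ := by
        refine eq_inv_of_mul_eq_one_left ?_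
        rw [← hηmul, inv_mul_cancel]
        show ((1 : Q) : G)⁻¹ * (s * ((1 : Q) : G) * s⁻¹) = 1
        simp
      have hηe : η ⟨e, c.line.E_le he⟩ = 1 := by
        show e⁻¹ * (s * e * s⁻¹) = 1
        rw [hsE e he, inv_mul_cancel]
      rw [h1, hηmul, hηmul, hinv', hηe, hηa k hk, mul_inv_cancel, one_mul]
    exact mul_inv_eq_iff_eq_mul.mp (inv_mul_eq_one.mp hη1).symm
  -- an element of order four, central in the kernel modulo `u`
  set U := (zpowers u).subgroupOf K1 with hU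
  have hK1P : K1 ≤ P := fun s hs => hTP hs.1
  haveI : U.Normal := ⟨fun s hs g => by
    have h1 : Commute (g : G) s := by
      obtain ⟨i, hi⟩ := mem_zpowers_iff.mp (mem_subgroupOf.mp hs)
      rw [← hi]
      exact (c.commute _ (hK1P g.2)).zpow_right i
    have : g * s * g⁻¹ = s := Subtype.ext (by push_cast; rw [h1.eq, mul_inv_cancel_right])
    rwa [this]⟩
  have hK1p : IsPGroup 2 K1 := c.maxTwo.1.to_le hK1P
  haveI : Nontrivial (K1 ⧸ U) := by
    refine ⟨⟨QuotientGroup.mk ⟨t, ht, htriv⟩, 1, fun e => ?_⟩⟩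
    rw [QuotientGroup.eq_one_iff, hU, mem_subgroupOf] at e
    obtain ⟨i, hi⟩ := mem_zpowers_iff.mp e
    rcases Int.even_or_odd i with ⟨j, rfl⟩ | ⟨j, rfl⟩
    · refine hcon.1 (Eq.trans (show t = u ^ (j + j) from hi.symm) ?_)
      rw [← two_mul, zpow_mul, zpow_two, huu, one_zpow]
    · refine hcon.2 (Eq.trans (show t = u ^ (2 * j + 1) from hi.symm) ?_)
      rw [zpow_add, zpow_mul, zpow_two, huu, one_zpow, one_mul, zpow_one]
  haveI := (hK1p.to_quotient U).center_nontrivial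
  obtain ⟨⟨zq, hzq⟩, hz1⟩ := exists_ne (1 : center (K1 ⧸ U))
  obtain ⟨z, rfl⟩ := QuotientGroup.mk_surjective zq
  have hzU : (z : G) ∉ zpowers u := fun e =>
    hz1 (Subtype.ext ((QuotientGroup.eq_one_iff z).mpr e))
  -- a power of `z` squaring to `u`
  obtain ⟨j, hj⟩ := IsPGroup.iff_orderOf.mp c.maxTwo.1 ⟨z, hK1P z.2⟩
  rw [Subgroup.orderOf_mk] at hj
  have hinvol : ∀ s ∈ T, s * s = 1 → s = 1 ∨ s = u := fun s hs hss => by
    by_cases hs1 : s = 1
    · exact Or.inl hs1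
    · exact Or.inr (c.involution_eq h hP hs hss hs1)
  have hj2 : 2 ≤ j := by
    by_contra hlt
    have hzz : (z : G) * z = 1 := by
      have h1 : orderOf (z : G) ∣ 2 := by
        rw [hj]
        simpa using pow_dvd_pow 2 (show j ≤ 1 by omega)
      rw [← pow_two]
      exact orderOf_dvd_iff_pow_eq_one.mp h1
    rcases hinvol z z.2.1 hzz with e | e
    · exact hzU (e ▸ one_mem _)
    · exact hzU (e ▸ mem_zpowers u)
  set w : K1 := z ^ 2 ^ (j - 2) with hw
  have hw4 : (w : G) * w * ((w : G) * w) = 1 := by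
    rw [hw, SubgroupClass.coe_pow, ← pow_add, ← pow_add]
    refine orderOf_dvd_iff_pow_eq_one.mp (hj ▸ dvd_of_eq ?_)
    rw [show j = j - 2 + 2 by omega, pow_add]
    simp only [Nat.add_sub_cancel]
    ring
  have hw2 : (w : G) * w = u := by
    rcases hinvol _ (mul_mem w.2.1 w.2.1) hw4 with e | e
    · exfalso
      rw [hw, SubgroupClass.coe_pow, ← pow_add] at e
      have h5 := Nat.le_of_dvd (by positivity) (hj ▸ orderOf_dvd_of_pow_eq_one e)
      have h6 : 2 ^ (j - 2) + 2 ^ (j - 2) < 2 ^ j := by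
        rw [← two_mul, ← pow_succ']
        exact Nat.pow_lt_pow_right (by norm_num) (by omega)
      omega
    · exact e
  have hwu : (w : G) ∉ zpowers u := fun e => by
    obtain ⟨i, hi⟩ := mem_zpowers_iff.mp e
    have : (w : G) * w = 1 := by
      rw [← hi, ← zpow_add, ← two_mul, zpow_mul, zpow_two, huu, one_zpow]
    rw [hw2] at this
    exact H39.ne_one_of_orderOf_eq_two c.line.bad.1 this
  have hwc : ∀ s : K1, (s : G) * w * (s : G)⁻¹ * (w : G)⁻¹ ∈ zpowers u := fun s => by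
    have h1 : QuotientGroup.mk (s := U) w ∈ center (K1 ⧸ U) := by
      rw [hw, QuotientGroup.mk_pow]; exact pow_mem hzq _
    have h2 := (mem_center_iff.mp h1) (QuotientGroup.mk s)
    rw [← QuotientGroup.mk_mul, ← QuotientGroup.mk_mul] at h2
    have h3 : QuotientGroup.mk (s := U) (s * w * s⁻¹ * w⁻¹) = 1 := by
      rw [QuotientGroup.mk_mul, QuotientGroup.mk_mul, h2, QuotientGroup.mk_mul, QuotientGroup.mk_inv,
        QuotientGroup.mk_inv]
      group
    exact mem_subgroupOf.mp ((QuotientGroup.eq_one_iff _).mp h3)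
  -- a large centraliser
  obtain ⟨e₀, he₀, he₀1, -⟩ : ∃ e ∈ E, e ≠ 1 ∧ e ≠ (1 : G) := by
    obtain ⟨b, hb, hb1, hb2⟩ := line2_exists_ne c.line (a := (1 : G))
    exact ⟨b, hb, hb1, hb2⟩
  obtain ⟨n, hn, hnu⟩ := hsurj e₀ he₀
  have hnP : n ∈ normalizer (P : Set G) := (mem_inf.mp hn).2
  set C := P ⊓ centralizer ({(w : G)} : Set G) with hC
  set g' := n * w * n⁻¹ with hg'
  set C' := P ⊓ centralizer ({g'} : Set G) with hC'
  have hQC : Q ≤ C := fun g hg => mem_inf.mpr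
    ⟨c.Q_le hg, mem_centralizer_singleton_iff.mpr (hcentQ w w.2 g hg).symm.eq⟩
  set T1 := T ⊓ centralizer ({(w : G)} : Set G) with hT1
  have hT1C : T1 ≤ C := fun s hs => mem_inf.mpr ⟨hTP (mem_inf.mp hs).1, (mem_inf.mp hs).2⟩
  have hQT : Nat.card Q * Nat.card T1 ≤ Nat.card C := by
    rw [← Nat.card_prod]
    refine Nat.card_le_card_of_injective
      (fun p : Q × T1 => (⟨(p.1 : G) * p.2, mul_mem (hQC p.1.2) (hT1C p.2.2)⟩ : C)) fun p p' e => ?_
    have e' : (p.1 : G) * p.2 = p'.1 * p'.2 := congrArg Subtype.val e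
    have h1 : (p'.1 : G)⁻¹ * p.1 = p'.2 * (p.2 : G)⁻¹ := by
      calc (p'.1 : G)⁻¹ * p.1 = (p'.1 : G)⁻¹ * (p.1 * p.2) * (p.2 : G)⁻¹ := by group
        _ = _ := by rw [e']; group
    have h2 := c.eq_one_of_fix h (mul_mem (inv_mem p'.1.2) p.1.2) (h1 ▸
      (mem_inf.mp (mem_inf.mp (mul_mem p'.2.2 (inv_mem p.2.2))).1).2)
    rw [h2] at h1
    exact Prod.ext (Subtype.ext (inv_mul_eq_one.mp h2).symm)
      (Subtype.ext (mul_inv_eq_one.mp h1.symm).symm)
  -- the index of the centraliser in `T` is at most four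
  have hTidx : Nat.card T ≤ 4 * Nat.card T1 := by
    have h1 : Nat.card T ≤ 2 * Nat.card K1 := card_le_two_mul (fun s hs => hs.1) fun s hs s' hs' hn hn' =>
      ⟨mul_mem (inv_mem hs') hs, c.triv_mul_of_not_triv h m (inv_mem hs') hs (fun hh => hn' ⟨hs', by
        have := m.triv_inv (c.normalizer_of_P h (hTP (inv_mem hs'))).1 hh
        rwa [inv_inv] at this⟩) fun hh => hn ⟨hs, hh⟩⟩
    have h2 : Nat.card K1 ≤ 2 * Nat.card (K1 ⊓ centralizer ({(w : G)} : Set G) : Subgroup G) := by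
      refine card_le_two_mul inf_le_left fun s hs s' hs' hn hn' =>
        mem_inf.mpr ⟨mul_mem (inv_mem hs') hs, mem_centralizer_singleton_iff.mpr ?_⟩
      have key : ∀ {r : G}, r ∈ K1 → r ∉ K1 ⊓ centralizer ({(w : G)} : Set G) →
          r * w * r⁻¹ = u * w := by
        intro r hr hrn
        obtain ⟨i, hi⟩ := mem_zpowers_iff.mp (hwc ⟨r, hr⟩)
        rcases Int.even_or_odd i with ⟨l, rfl⟩ | ⟨l, rfl⟩
        · exfalso
          rw [← two_mul, zpow_mul, zpow_two, huu, one_zpow] at hi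
          exact hrn (mem_inf.mpr ⟨hr, mem_centralizer_singleton_iff.mpr
            (mul_inv_eq_iff_eq_mul.mp (mul_inv_eq_one.mp hi.symm))⟩)
        · rw [zpow_add, zpow_mul, zpow_two, huu, one_zpow, one_mul, zpow_one] at hi
          exact mul_inv_eq_iff_eq_mul.mp hi.symm
      refine mul_inv_eq_iff_eq_mul.mp ?_
      calc s'⁻¹ * s * w * (s'⁻¹ * s)⁻¹ = s'⁻¹ * (s * w * s⁻¹) * s' := by group
        _ = s'⁻¹ * (s' * w * s'⁻¹) * s' := by rw [key hs hn, key hs' hn']
        _ = w := by group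
    have h3 : Nat.card (K1 ⊓ centralizer ({(w : G)} : Set G) : Subgroup G) ≤ Nat.card T1 :=
      card_le_of_le (inf_le_inf_right _ fun s hs => hs.1)
    omega
  have hCC' : Nat.card C = Nat.card C' := by
    have hmap : C.map (MulAut.conj n).toMonoidHom = C' := by
      ext g
      simp only [mem_map, MulEquiv.coe_toMonoidHom, MulAut.conj_apply]
      constructor
      · rintro ⟨k, hk, rfl⟩
        obtain ⟨hkP, hkw⟩ := mem_inf.mp hk
        exact mem_inf.mpr ⟨(mem_normalizer_iff.mp hnP k).mp hkP, mem_centralizer_singleton_iff.mpr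
          (commute_conj (mem_centralizer_singleton_iff.mp hkw : Commute k w) n).eq⟩
      · intro hg
        obtain ⟨hgP, hgw⟩ := mem_inf.mp hg
        refine ⟨n⁻¹ * g * n, mem_inf.mpr ⟨(mem_normalizer_iff.mp hnP _).mpr (by
          rwa [show n * (n⁻¹ * g * n) * n⁻¹ = g by group]), mem_centralizer_singleton_iff.mpr ?_⟩,
          by group⟩
        have h1 := commute_conj (mem_centralizer_singleton_iff.mp hgw : Commute g g') n⁻¹
        rw [hg'] at h1
        simpa [mul_assoc] using h1.eq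
    rw [← hmap, Subgroup.card_map_of_injective (f := (MulAut.conj n).toMonoidHom)
      (MulAut.conj n).injective]
  -- a small centraliser
  have hg'P : g' ∈ P := (mem_normalizer_iff.mp hnP w).mp (hK1P w.2)
  obtain ⟨qq, hqq, hτ⟩ := c.decomp h hg'P
  have hg'sq : g' * g' = u * e₀ := by
    rw [hg', show n * (w : G) * n⁻¹ * (n * w * n⁻¹) = n * ((w : G) * w) * n⁻¹ by group, hw2, hnu]
  have hZQ : Nat.card ((Q ⊓ C' : Subgroup G) ⊓ (E ⊔ zpowers u) : Subgroup G) ≤ 8 := by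
    rw [← c.card_E]
    exact card_le_of_le fun g hg => c.inf_Z h
      (mem_inf.mpr ⟨(mem_inf.mp (mem_inf.mp hg).1).1, (mem_inf.mp hg).2⟩)
  have hX : (Q ⊓ C' : Subgroup G) ≤ Q ⊔ zpowers u := inf_le_left.trans le_sup_left
  have hQC' : Nat.card (Q ⊓ C' : Subgroup G) ≤ 8 * 8 := by
    obtain ⟨hg'R, hg'Z, hg'E⟩ := c.normalizer_of_P h hg'P
    have hcomm : ∀ k ∈ Q ⊓ C', Commute k g' := fun k hk =>
      mem_centralizer_singleton_iff.mp (mem_inf.mp (mem_inf.mp hk).2).2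
    by_cases htr : m.Triv g'
    · set τ := qq⁻¹ * g' with hτdef
      have hqqT : m.Triv qq := c.triv_of_mem_R h m (mem_sup_left hqq)
      have hτtriv : m.Triv τ := m.triv_mul hg'R
        (c.triv_of_mem_R h m (inv_mem (mem_sup_left hqq))) htr
      have hτK : τ ∈ K1 := ⟨hτ, hτtriv⟩
      have hqqZ : qq ∉ E ⊔ zpowers u := by
        intro hz
        have hqE : qq ∈ E := c.inf_Z h (mem_inf.mpr ⟨hqq, hz⟩)
        have hsqτ : τ * τ = u * e₀ := by
          rw [← hg'sq, show g' = qq * τ by rw [hτdef, mul_inv_cancel_left],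
            Commute.mul_mul_mul_comm (hcentQ τ hτK qq hqq), line2_mul_self c.line h hqE, one_mul]
        have hy' : (u * e₀) • y = y := by
          rw [← hsqτ, mul_smul, mem_stabilizer_iff.mp (mem_inf.mp hτ).2,
            mem_stabilizer_iff.mp (mem_inf.mp hτ).2]
        rw [mul_smul] at hy'
        exact he₀1 (c.line.free e₀ (c.line.E_le he₀) y c.fix c.ne
          (MulAction.injective u (hy'.trans c.fix.symm)))
      refine m.card_commute_le (g := qq) (mem_sup_left hqq) hqqZ hX (fun k hk => ?_) hZQ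
      have h1 := hcomm k hk
      have h2 : Commute k τ := (hcentQ τ hτK k (mem_inf.mp hk).1).symm
      have := h1.mul_right h2.inv_right
      rwa [show g' * τ⁻¹ = qq by rw [hτdef]; group] at this
    · refine m.card_fixed_le hg'R hg'Z hg'E (c.triv_mul_self_of_mem h m hg'P) htr hX (fun k hk => ?_) hZQ
      rw [(hcomm k hk).symm.eq, mul_inv_cancel_right]
  have hPle : Nat.card P ≤ Nat.card Q * Nat.card T := by
    rw [← Nat.card_prod]
    have hd : ∀ p : P, ∃ qt : Q × T, (qt.1 : G) * qt.2 = p := fun p => by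
      obtain ⟨q', hq', hq''⟩ := c.decomp h p.2
      exact ⟨(⟨q', hq'⟩, ⟨_, hq''⟩), mul_inv_cancel_left _ _⟩
    choose φ hφ using hd
    exact Nat.card_le_card_of_injective φ fun p p' e => Subtype.ext (by rw [← hφ p, ← hφ p', e])
  have hfin := card_mul_card_le_inf_mul (C := C') (Q := Q) (P := P) inf_le_left c.Q_le
  rw [c.card_Q] at hfin hQT hPle
  have hTpos : 0 < Nat.card T1 := Nat.card_pos
  nlinarith

end Setup

end Cfsg.Agent.H51.Asch
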