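import Cfsg.Agent.H51.Asch.UnitaryBase

/-!
The invariant series of `M = Q ∘ C_M(a)` under a group normalising `M` and centralising `E`: an
abelian subgroup `V` of `C_M(a)` with `V` and `Q V` invariant such that the odd elements trivial on
`Q V / V` centralise `M`.  Three cases: `⁅C_M(a), A⁆ = E`, one layer, several layers.
-/

set_option autoImplicit false
set_option linter.style.haveILetI false
set_option linter.unusedSectionVars false

namespace Cfsg.Agent.H51.AschU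

open Subgroup
open Cfsg.Agent.H14.Asch (ShapeData commute_conj)
open Cfsg.Agent.H51.Asch (nxt nxt_le nxt_lt norm_nxt comm_mem_nxt comm_mem_nxt' sq_mem_nxt TorusData)
open scoped commutatorElement

universe u

variable {G : Type u} [Group G]

/-- A group acting on `M` and centralising `E`. -/
structure Acts (M E L : Subgroup G) : Prop where
  normM : L ≤ normalizer (M : Set G)
  centE : ∀ e ∈ E, ∀ l ∈ L, Commute e l

/-- The invariant series. -/
structure Flag (M Q E A L V : Subgroup G) (a : G) : Prop where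
  V_le : V ≤ rk M a
  E_le : E ≤ V
  abelian : ∀ v ∈ V, ∀ v' ∈ V, Commute v v'
  normA : A ≤ normalizer (V : Set G)
  normV : L ≤ normalizer (V : Set G)
  normQV : L ≤ normalizer ((Q ⊔ V : Subgroup G) : Set G)
  rigid : ∀ o ∈ L, Odd (orderOf o) → (∀ q ∈ Q, ⁅o, q⁆ ∈ V) → ∀ g ∈ M, Commute o g

theorem mem_normalizer_conj [Finite G] {S : Subgroup G} {l : G}
    (hl : ∀ g ∈ S, l * g * l⁻¹ ∈ S) : l ∈ normalizer (S : Set G) :=
  Cfsg.Agent.H39.mem_normalizer_of_conj_mem hl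

namespace Acts

variable {M E L : Subgroup G} (hL : Acts M E L)
include hL

theorem conj_E {l e : G} (hl : l ∈ L) (he : e ∈ E) : l * e * l⁻¹ = e := by
  rw [← (hL.centE e he l hl).eq, mul_inv_cancel_right]

theorem conj_mem {l g : G} (hl : l ∈ L) (hg : g ∈ M) : l * g * l⁻¹ ∈ M :=
  (mem_normalizer_iff.mp (hL.normM hl) g).mp hg

theorem exists_pre {l g : G} (hl : l ∈ L) (hg : g ∈ M) : ∃ g' ∈ M, l * g' * l⁻¹ = g :=
  ⟨l⁻¹ * g * l⁻¹⁻¹, hL.conj_mem (L.inv_mem hl) hg, by group⟩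

end Acts

namespace UData

variable [Finite G] {M Q E A L : Subgroup G} {u a : G} (h : UData M Q E A u a) (hp : Split M Q a)
  (hL : Acts M E L)
include h hp hL

omit hp in
theorem conj_u_ne {l : G} (hl : l ∈ L) : l * u * l⁻¹ ∉ E := by
  intro he
  refine h.shape.u_notMem_E ?_
  have h1 := hL.conj_E (L.inv_mem hl) he
  rw [show l⁻¹ * (l * u * l⁻¹) * l⁻¹⁻¹ = u by group] at h1
  rwa [h1]

/-! ### `⁅C_M(a), A⁆ = E` -/

section Base

variable (hb : ⁅rk M a, A⁆ ≤ E)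
include hb

theorem base_cases {k : G} (hk : k ∈ rk M a) : k ∈ E ∨ k * u ∈ E :=
  (h.torus.mem_or_mul_mem hk).imp (fun h1 => hb h1) (fun h1 => hb h1)

theorem base_commute {k k' : G} (hk : k ∈ rk M a) (hk' : k' ∈ rk M a) : Commute k k' := by
  have hku : ∀ {k'}, k' ∈ rk M a → Commute u k' := fun {k'} hk' => by
    rcases h.base_cases hp hL hb hk' with h1 | h1
    · exact (h.torus.central _ h1 u h.u_mem_rk).symm
    · have h2 := ((h.torus.central _ h1 u h.u_mem_rk).symm).mul_right (Commute.refl u)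
      rwa [mul_assoc, h.shape.sq_u, mul_one] at h2
  rcases h.base_cases hp hL hb hk with h1 | h1
  · exact h.torus.central _ h1 k' hk'
  · have h2 := (h.torus.central _ h1 k' hk').mul_left (hku hk')
    rwa [mul_assoc, h.shape.sq_u, mul_one] at h2

theorem base_central {k g : G} (hk : k ∈ rk M a) (hg : g ∈ M) : Commute k g := by
  obtain ⟨q, hq, k', hk', rfl⟩ := hp g hg
  exact (h.commute_rk hk hq).mul_right (h.base_commute hp hL hb hk hk')

theorem base_mem_rk {g : G} (hg : g ∈ M) (hc : ∀ r ∈ M, Commute g r) : g ∈ rk M a := by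
  obtain ⟨q, hq, k, hk, rfl⟩ := hp g hg
  have hqE : q ∈ E := h.mem_E_of_central hq fun r hr => by
    have h1 := (hc r (h.shape.le hr)).mul_left (h.commute_rk hk hr).inv_left
    rwa [mul_inv_cancel_right] at h1
  exact mul_mem (h.E_le_rk hqE) hk

theorem base_normV {l : G} (hl : l ∈ L) : l ∈ normalizer (rk M a : Set G) := by
  refine mem_normalizer_conj fun g hg => h.base_mem_rk hp hL hb (hL.conj_mem hl hg.1) fun r hr => ?_
  obtain ⟨r', hr', rfl⟩ := hL.exists_pre hl hr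
  exact commute_conj (h.base_central hp hL hb hg hr') l

theorem base_sup : Q ⊔ rk M a = M :=
  le_antisymm (sup_le h.shape.le inf_le_left) fun g hg => by
    obtain ⟨q, hq, k, hk, rfl⟩ := hp g hg
    exact mul_mem (mem_sup_left hq) (mem_sup_right hk)

theorem base_comm_u {l : G} (hl : l ∈ L) : ⁅l, u⁆ ∈ E := by
  have h1 : l * u * l⁻¹ ∈ rk M a :=
    (mem_normalizer_iff.mp (h.base_normV hp hL hb hl) u).mp h.u_mem_rk
  have h2 := (h.base_cases hp hL hb h1).resolve_left (h.conj_u_ne hL hl)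
  rwa [commutatorElement_def, h.shape.inv_u]

/-- The series when `⁅C_M(a), A⁆ = E`. -/
theorem flag_base : Flag M Q E A L (rk M a) a where
  V_le := le_rfl
  E_le := h.E_le_rk
  abelian := fun v hv v' hv' => h.base_commute hp hL hb hv hv'
  normA := h.torus.normM
  normV := fun l hl => h.base_normV hp hL hb hl
  normQV := by rw [h.base_sup hp hL hb]; exact hL.normM
  rigid := fun o ho hodd hQ g hg => by
    have hE : ∀ e ∈ E, Commute o e := fun e he => (hL.centE e he o ho).symm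
    have hu : Commute o u := commute_of_odd (h.shape.two.to_le h.shape.le_M) hodd
      (h.base_comm_u hp hL hb ho) (hE _ (h.base_comm_u hp hL hb ho))
    have hV : ∀ k ∈ rk M a, Commute o k := fun k hk => by
      rcases h.base_cases hp hL hb hk with h1 | h1
      · exact hE k h1
      · have h2 := (hE _ h1).mul_right hu
        rwa [mul_assoc, h.shape.sq_u, mul_one] at h2
    obtain ⟨q, hq, k, hk, rfl⟩ := hp g hg
    exact (commute_of_odd (h.shape.two.to_le inf_le_left) hodd (hQ q hq)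
      (hV _ (hQ q hq))).mul_right (hV k hk)

end Base

/-! ### One layer -/

section One

variable (hF : nxt (rk M a) (rk M a) ≤ E) (hne : ¬ (⁅rk M a, A⁆ : Subgroup G) ≤ E)
include hF hne

theorem one_exists_comm {e : G} (he : e ∈ E) : ∃ x ∈ ⁅rk M a, A⁆, ⁅x, u⁆ = e := by
  obtain ⟨x, hx, hxE⟩ := SetLike.not_le_iff_exists.mp hne
  by_cases he1 : e = 1
  · exact ⟨1, one_mem _, by rw [he1, commutatorElement_one_left]⟩
  have h1 : ⁅x, u⁆ ≠ 1 := fun h1 =>
    hxE (h.mem_E_of_commute_u hx (commutatorElement_eq_one_iff_commute.mp h1))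
  obtain ⟨b, hb, hbe⟩ := h.shape.trans _ (h.comm_u_mem_E (h.kk_le_rk hx) hF) h1 e he he1
  exact ⟨b * x * b⁻¹, (mem_normalizer_iff.mp (normalizer_commutator_ge_right _ A hb) x).mp hx,
    by rw [← h.shape.conj_comm_u hb, hbe]⟩

theorem one_kk_narrow {g : G} (hg : g ∈ ⁅rk M a, A⁆) :
    ∃ e, ∀ r ∈ M, ⁅g, r⁆ = 1 ∨ ⁅g, r⁆ = e := by
  refine ⟨⁅g, u⁆, fun r hr => ?_⟩
  obtain ⟨q, hq, k, hk, rfl⟩ := hp r hr
  have hgq : ⁅g, q⁆ = 1 :=
    commutatorElement_eq_one_iff_commute.mpr (h.commute_rk (h.kk_le_rk hg) hq)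
  have e1 : ⁅g, q * k⁆ = ⁅g, k⁆ := by
    rw [h.shape.comm_mul_right (h.shape.le hq) (hF (comm_mem_nxt (h.kk_le_rk hg) hk)), hgq, one_mul]
  rw [e1]
  rcases h.torus.mem_or_mul_mem hk with h1 | h1
  · exact Or.inl (commutatorElement_eq_one_iff_commute.mpr (h.kk_abelian hF hg h1))
  · right
    have e2 := h.shape.comm_mul_right (g := g) (b := u) (h.kk_le_rk h1).1
      (h.comm_u_mem_E (h.kk_le_rk hg) hF)
    rwa [mul_assoc, h.shape.sq_u, mul_one,
      commutatorElement_eq_one_iff_commute.mpr (h.kk_abelian hF hg h1), one_mul] at e2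

theorem one_mem_kk {g : G} (hg : g ∈ M) (hn : ∃ e, ∀ r ∈ M, ⁅g, r⁆ = 1 ∨ ⁅g, r⁆ = e) :
    g ∈ ⁅rk M a, A⁆ := by
  obtain ⟨e, he⟩ := hn
  obtain ⟨q, hq, k, hk, rfl⟩ := hp g hg
  rcases h.torus.mem_or_mul_mem hk with h1 | h1
  · by_cases hqE : q ∈ E
    · exact mul_mem (h.torus.le_commutator hqE) h1
    exfalso
    obtain ⟨e', he', he'1, he'e⟩ := exists_mem_avoid h.shape.four_le 1 e
    obtain ⟨r, hr, hre⟩ := h.exists_comm hq hqE he'
    have h2 : ⁅k, r⁆ = 1 := commutatorElement_eq_one_iff_commute.mpr (h.commute_rk hk hr)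
    rcases he r (h.shape.le hr) with h3 | h3 <;>
      rw [h.shape.comm_mul_left (h.shape.le hq) (by rw [h2]; exact E.one_mem), h2, one_mul, hre]
        at h3
    · exact he'1 h3
    · exact he'e h3
  · exfalso
    obtain ⟨e', he', he'1, he'e⟩ := exists_mem_avoid h.shape.four_le 1 e
    obtain ⟨x, hx, hxe⟩ := h.one_exists_comm hp hL hF hne he'
    have hxE := h.comm_u_mem_E (h.kk_le_rk hx) hF
    have e1 : ⁅k, x⁆ = e' := by
      have e2 := h.shape.comm_mul_left (a := k * u) (b := u) (g := x) (h.kk_le_rk h1).1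
        (by rw [h.shape.comm_symm hxE]; exact hxE)
      rw [mul_assoc, h.shape.sq_u, mul_one,
        commutatorElement_eq_one_iff_commute.mpr (h.kk_abelian hF h1 hx), mul_one,
        h.shape.comm_symm hxE, hxe] at e2
      exact e2
    have e3 : ⁅q * k, x⁆ = e' := by
      rw [h.shape.comm_mul_left (h.shape.le hq) (by rw [e1]; exact he'), e1,
        commutatorElement_eq_one_iff_commute.mpr (h.commute_rk (h.kk_le_rk hx) hq).symm, mul_one]
    rcases he x (h.kk_le_rk hx).1 with h3 | h3 <;> rw [e3] at h3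
    · exact he'1 h3
    · exact he'e h3

theorem one_normV {l : G} (hl : l ∈ L) : l ∈ normalizer ((⁅rk M a, A⁆ : Subgroup G) : Set G) := by
  refine mem_normalizer_conj fun g hg =>
    h.one_mem_kk hp hL hF hne (hL.conj_mem hl (h.kk_le_rk hg).1) ?_
  obtain ⟨e, he⟩ := h.one_kk_narrow hp hL hF hne hg
  refine ⟨l * e * l⁻¹, fun r hr => ?_⟩
  obtain ⟨r', hr', rfl⟩ := hL.exists_pre hl hr
  rw [← h.shape.conj_comm]
  rcases he r' hr' with h1 | h1 <;> rw [h1]
  · left; group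
  · right; rfl

theorem one_commute_kk {g x : G} (hg : g ∈ ⁅M, A⁆) (hx : x ∈ ⁅rk M a, A⁆) : Commute g x := by
  obtain ⟨q, hq, k, hk, rfl⟩ := h.exists_kk hp hg
  exact (h.commute_rk (h.kk_le_rk hx) hq).symm.mul_left (h.kk_abelian hF hk hx)

theorem one_mem_comm {g : G} (hg : g ∈ M) (hc : ∀ x ∈ ⁅rk M a, A⁆, Commute g x) :
    g ∈ ⁅M, A⁆ := by
  refine (h.shape.mem_or_mul_mem hg).resolve_right fun h1 => ?_
  obtain ⟨x, hx, hxE⟩ := SetLike.not_le_iff_exists.mp hne
  refine hxE (h.mem_E_of_commute_u hx ?_)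
  have h2 := (h.one_commute_kk hp hL hF hne h1 hx).symm
  have h3 := ((hc x hx).symm.inv_right).mul_right h2
  rwa [inv_mul_cancel_left] at h3

theorem one_normK {l : G} (hl : l ∈ L) : l ∈ normalizer ((⁅M, A⁆ : Subgroup G) : Set G) := by
  refine mem_normalizer_conj fun g hg =>
    h.one_mem_comm hp hL hF hne (hL.conj_mem hl (h.shape.commutator_le hg)) fun x hx => ?_
  have hx' := (mem_normalizer_iff.mp (h.one_normV hp hL hF hne (L.inv_mem hl)) x).mp hx
  have h1 := commute_conj (h.one_commute_kk hp hL hF hne hg hx') l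
  rwa [show l * (l⁻¹ * x * l⁻¹⁻¹) * l⁻¹ = x by group] at h1

theorem one_sup : Q ⊔ ⁅rk M a, A⁆ = ⁅M, A⁆ :=
  le_antisymm (sup_le h.shape.Q_le_commutator h.kk_le_comm) fun g hg => by
    obtain ⟨q, hq, k, hk, rfl⟩ := h.exists_kk hp hg
    exact mul_mem (mem_sup_left hq) (mem_sup_right hk)

theorem one_comm_u {l : G} (hl : l ∈ L) : ⁅l, u⁆ ∈ ⁅M, A⁆ := by
  have h1 : l * u * l⁻¹ * u ∈ ⁅M, A⁆ := by
    refine (h.shape.mem_or_mul_mem (hL.conj_mem hl h.shape.u_mem)).resolve_left fun h2 => ?_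
    exact h.u_notMem_comm ((mem_normalizer_iff.mp (h.one_normK hp hL hF hne hl) u).mpr h2)
  rwa [commutatorElement_def, h.shape.inv_u]

/-- `L` acts trivially on `⁅C_M(a), A⁆ / E`. -/
theorem one_comm_kk {l x : G} (hl : l ∈ L) (hx : x ∈ ⁅rk M a, A⁆) : ⁅l, x⁆ ∈ E := by
  set x' := l * x * l⁻¹ with hx'
  have hx'm : x' ∈ ⁅rk M a, A⁆ :=
    (mem_normalizer_iff.mp (h.one_normV hp hL hF hne hl) x).mp hx
  have hxu := h.comm_u_mem_E (h.kk_le_rk hx) hF
  have hd := h.one_comm_u hp hL hF hne hl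
  have hlu : l * u * l⁻¹ = ⁅l, u⁆ * u := by rw [commutatorElement_def, inv_mul_cancel_right]
  have hx'u := h.comm_u_mem_E (h.kk_le_rk hx'm) hF
  have e2 : ⁅x', u⁆ = ⁅x, u⁆ := by
    have e0 : l * ⁅x, u⁆ * l⁻¹ = ⁅x', l * u * l⁻¹⁆ := h.shape.conj_comm
    rw [hL.conj_E hl hxu, hlu,
      h.shape.comm_mul_right (h.shape.commutator_le hd) hx'u,
      commutatorElement_eq_one_iff_commute.mpr (h.one_commute_kk hp hL hF hne hd hx'm).symm,
      one_mul] at e0
    exact e0.symm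
  have h4 : ⁅x' * x⁻¹, u⁆ = 1 := by
    have h5 := h.shape.comm_mul_left (a := x') (h.kk_le_rk hx'm).1
      (h.comm_u_mem_E (inv_mem (h.kk_le_rk hx)) hF)
    have h6 := h.shape.comm_mul_left (a := x) (h.kk_le_rk hx).1
      (h.comm_u_mem_E (inv_mem (h.kk_le_rk hx)) hF)
    rw [mul_inv_cancel, commutatorElement_one_left, ← e2, ← h5] at h6
    exact h6.symm
  rw [commutatorElement_def]
  exact h.mem_E_of_commute_u (mul_mem hx'm (inv_mem hx))
    (commutatorElement_eq_one_iff_commute.mp h4)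

/-- The series for one layer. -/
theorem flag_one : Flag M Q E A L ⁅rk M a, A⁆ a where
  V_le := h.kk_le_rk
  E_le := h.torus.le_commutator
  abelian := fun v hv v' hv' => h.kk_abelian hF hv hv'
  normA := normalizer_commutator_ge_right _ A
  normV := fun l hl => h.one_normV hp hL hF hne hl
  normQV := by
    rw [h.one_sup hp hL hF hne]
    exact fun l hl => h.one_normK hp hL hF hne hl
  rigid := fun o ho hodd hQ g hg => by
    have hkk : ∀ x ∈ ⁅rk M a, A⁆, Commute o x := fun x hx =>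
      commute_of_odd (h.shape.two.to_le h.shape.le_M) hodd (h.one_comm_kk hp hL hF hne ho hx)
        (hL.centE _ (h.one_comm_kk hp hL hF hne ho hx) o ho).symm
    have hQ' : ∀ q ∈ Q, Commute o q := fun q hq =>
      commute_of_odd (h.shape.two.to_le (h.kk_le_rk.trans inf_le_left)) hodd (hQ q hq)
        (hkk _ (hQ q hq))
    have hK : ∀ x ∈ ⁅M, A⁆, Commute o x := fun x hx => by
      obtain ⟨q, hq, k, hk, rfl⟩ := h.exists_kk hp hx
      exact (hQ' q hq).mul_right (hkk k hk)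
    have hu : Commute o u := commute_of_odd (h.shape.two.to_le h.shape.commutator_le) hodd
      (h.one_comm_u hp hL hF hne ho) (hK _ (h.one_comm_u hp hL hF hne ho))
    rcases h.shape.mem_or_mul_mem hg with h1 | h1
    · exact hK g h1
    · have h2 := (hK _ h1).mul_right hu
      rwa [mul_assoc, h.shape.sq_u, mul_one] at h2

end One

/-! ### Several layers -/

section Multi

variable (hm : ¬ nxt (rk M a) (rk M a) ≤ E)
include hm

theorem multi_ne : nxt (nxt (rk M a) (rk M a)) (rk M a) ≠ ⊥ := by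
  intro e
  refine hm fun n hn => h.torus.mem_of_sq_eq_one hn ?_
  have h1 : n * n ∈ nxt (nxt (rk M a) (rk M a)) (rk M a) := sq_mem_nxt hn
  rwa [e, mem_bot] at h1

theorem multi_F_two : IsPGroup 2 (nxt (rk M a) (rk M a) : Subgroup G) :=
  h.shape.two.to_le ((nxt_le le_normalizer).trans inf_le_left)

theorem multi_F2_le : nxt (nxt (rk M a) (rk M a)) (rk M a) ≤ nxt (rk M a) (rk M a) :=
  nxt_le (norm_nxt le_normalizer le_normalizer)

theorem multi_normA_F2 : A ≤ normalizer (nxt (nxt (rk M a) (rk M a)) (rk M a) : Set G) :=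
  norm_nxt h.normA_F h.torus.normM

theorem multi_E_le_F2 : E ≤ nxt (nxt (rk M a) (rk M a)) (rk M a) :=
  h.E_le_of_ne_bot (h.multi_F2_le hp hL hm) (h.multi_normA_F2 hp hL hm) (h.multi_ne hp hL hm)

theorem multi_E_le_F : E ≤ nxt (rk M a) (rk M a) :=
  (h.multi_E_le_F2 hp hL hm).trans (h.multi_F2_le hp hL hm)

theorem multi_nxt : nxt M M = nxt (rk M a) (rk M a) := by
  refine le_antisymm (h.shape.nxt_le_of_sq fun g hg => ?_) ?_
  · obtain ⟨q, hq, k, hk, rfl⟩ := hp g hg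
    rw [(h.commute_rk hk hq).mul_mul_mul_comm]
    exact mul_mem (h.multi_E_le_F hp hL hm (h.shape.sq_mem q hq)) (sq_mem_nxt hk)
  · refine sup_le (Subgroup.commutator_le.mpr fun p hp r hr => comm_mem_nxt hp.1 hr.1)
      ((closure_le _).mpr ?_)
    rintro _ ⟨p, hp, rfl⟩
    exact sq_mem_nxt hp.1

theorem multi_normF {l : G} (hl : l ∈ L) :
    l ∈ normalizer (nxt (rk M a) (rk M a) : Set G) := by
  rw [← h.multi_nxt hp hL hm]
  exact norm_nxt hL.normM hL.normM hl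

/-- The layer below the Frattini part is invariant. -/
theorem multi_normF2 {l : G} (hl : l ∈ L) :
    l ∈ normalizer (nxt (nxt (rk M a) (rk M a)) (rk M a) : Set G) := by
  have e : nxt (nxt (rk M a) (rk M a)) (rk M a) = nxt (nxt M M) M := by
    rw [h.multi_nxt hp hL hm]
    refine le_antisymm (sup_le (le_sup_of_le_left (commutator_mono le_rfl inf_le_left)) le_sup_right)
      (sup_le (Subgroup.commutator_le.mpr fun n hn r hr => ?_) le_sup_right)
    obtain ⟨q, hq, k, hk, rfl⟩ := hp r hr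
    have h1 : ⁅n, q⁆ = 1 := commutatorElement_eq_one_iff_commute.mpr
      (h.commute_rk (nxt_le le_normalizer hn) hq)
    rw [show ⁅n, q * k⁆ = ⁅n, q⁆ * (q * ⁅n, k⁆ * q⁻¹) by simp [commutatorElement_def, mul_assoc],
      h1, one_mul, ← (h.commute_rk (nxt_le le_normalizer
        (h.multi_F2_le hp hL hm (comm_mem_nxt hn hk))) hq).eq, mul_inv_cancel_right]
    exact comm_mem_nxt hn hk
  rw [e]
  exact norm_nxt (norm_nxt hL.normM hL.normM) hL.normM hl

theorem multi_card : Nat.card E * Nat.card (nxt (nxt (rk M a) (rk M a)) (rk M a) : Subgroup G) ≤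
    Nat.card (nxt (rk M a) (rk M a) : Subgroup G) := by
  set F := nxt (rk M a) (rk M a) with hFd
  have hne : F ≠ ⊥ := fun e => hm (e ▸ bot_le)
  obtain ⟨g, hg, hgn⟩ := SetLike.exists_of_lt
    (nxt_lt h.torus.two (nxt_le le_normalizer) (norm_nxt le_normalizer le_normalizer) hne)
  exact (h.torus.card_mul_le (h.multi_F2_le hp hL hm) (nxt_le le_normalizer)
    (h.multi_normA_F2 hp hL hm) h.normA_F
    (Or.inr fun hu => h.u_notMem_kk (h.torus.nxt_le_commutator hu)) hg hgn).1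

/-- The commutators with `u` fill the top layer of the Frattini part. -/
theorem multi_exists_comm {e₁ e₂ : G} :
    ∃ x ∈ ⁅rk M a, A⁆, ⁅x, u⁆ * e₁ ∉ nxt (nxt (rk M a) (rk M a)) (rk M a) ∧
      ⁅x, u⁆ * e₂ ∉ nxt (nxt (rk M a) (rk M a)) (rk M a) := by
  classical
  by_contra hc
  push Not at hc
  set F := nxt (rk M a) (rk M a) with hFd
  set F2 := nxt F (rk M a) with hF2
  have hsub : ∀ n ∈ F, n * e₁ ∈ F2 ∨ n * e₂ ∈ F2 := fun n hn => by
    obtain ⟨x, hx, rfl⟩ := h.torus.frattini_data.2 n hn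
    by_cases h1 : ⁅x, u⁆ * e₁ ∈ F2
    · exact Or.inl h1
    · exact Or.inr (hc x hx h1)
  let f : F → Bool × F2 := fun n =>
    if hn : (n : G) * e₁ ∈ F2 then (true, ⟨_, hn⟩) else
      (false, ⟨(n : G) * e₂, (hsub n n.2).resolve_left hn⟩)
  have hf : Function.Injective f := by
    intro n n' e
    simp only [f] at e
    split_ifs at e with h1 h2 h2
    · exact Subtype.ext (mul_right_cancel (congrArg (fun p : Bool × F2 => (p.2 : G)) e))
    · exact absurd (congrArg Prod.fst e) (by simp)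
    · exact absurd (congrArg Prod.fst e) (by simp)
    · exact Subtype.ext (mul_right_cancel (congrArg (fun p : Bool × F2 => (p.2 : G)) e))
  have h1 := Nat.card_le_card_of_injective f hf
  rw [Nat.card_prod, Nat.card_eq_fintype_card (α := Bool), Fintype.card_bool] at h1
  have h2 : 4 * Nat.card F2 ≤ Nat.card F :=
    (Nat.mul_le_mul_right _ h.shape.four_le).trans (h.multi_card hp hL hm)
  have h3 : 0 < Nat.card F2 := Nat.card_pos
  omega

theorem multi_comm_kk {q x k : G} (hq : q ∈ Q) (hk : k ∈ rk M a) (hx : x ∈ rk M a) :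
    ⁅q * k, x⁆ = ⁅k, x⁆ := by
  rw [commutator_mul_left_eq, commutatorElement_eq_one_iff_commute.mpr (h.commute_rk hx hq).symm,
    mul_one, ← (h.commute_rk (nxt_le le_normalizer (comm_mem_nxt hk hx)) hq).eq,
    mul_inv_cancel_right]

theorem multi_norm_rk {g : G} (hg : g ∈ M) :
    g ∈ normalizer (nxt (nxt (rk M a) (rk M a)) (rk M a) : Set G) := by
  obtain ⟨q, hq, k, hk, rfl⟩ := hp g hg
  refine mul_mem (mem_normalizer_conj fun y hy => ?_)
    (norm_nxt (norm_nxt le_normalizer le_normalizer) le_normalizer hk)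
  rwa [← (h.commute_rk (nxt_le le_normalizer (h.multi_F2_le hp hL hm hy)) hq).eq,
    mul_inv_cancel_right]

theorem multi_narrow {g : G} (hg : g ∈ ⁅M, A⁆) :
    ∃ e, ∀ r ∈ M, ⁅g, r⁆ ∈ nxt (nxt (rk M a) (rk M a)) (rk M a) ∨
      ⁅g, r⁆ * e ∈ nxt (nxt (rk M a) (rk M a)) (rk M a) := by
  obtain ⟨q, hq, k, hk, rfl⟩ := h.exists_kk hp hg
  set F2 := nxt (nxt (rk M a) (rk M a)) (rk M a) with hF2
  refine ⟨⁅k, u⁆⁻¹, fun r hr => ?_⟩
  obtain ⟨q', hq', k', hk', rfl⟩ := hp r hr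
  have hkr := h.kk_le_rk hk
  have e1 : ⁅q * k, q' * k'⁆ = ⁅k, k'⁆ * ⁅q, q'⁆ := by
    have hz := h.shape.comm_mem q hq q' hq'
    rw [show ⁅q * k, q' * k'⁆ = ⁅q * k, q'⁆ * (q' * ⁅q * k, k'⁆ * q'⁻¹) by
        simp [commutatorElement_def, mul_assoc],
      h.multi_comm_kk hp hL hm hq hkr hk',
      ← (h.commute_rk (nxt_le le_normalizer (comm_mem_nxt hkr hk')) hq').eq, mul_inv_cancel_right,
      commutator_mul_left_eq, commutatorElement_eq_one_iff_commute.mpr (h.commute_rk hkr hq'),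
      mul_one, mul_inv_cancel, one_mul]
    exact (h.torus.central _ hz _ (nxt_le le_normalizer (comm_mem_nxt hkr hk'))).eq
  have hzF2 := h.multi_E_le_F2 hp hL hm (h.shape.comm_mem q hq q' hq')
  rw [e1]
  rcases h.torus.mem_or_mul_mem hk' with h1 | h1
  · exact Or.inl (mul_mem (h.torus.commutator_mem_nxt_nxt hk h1) hzF2)
  · right
    have hku : ⁅k, u⁆ ∈ nxt (rk M a) (rk M a) := comm_mem_nxt hkr h.u_mem_rk
    have hk'u := h.kk_le_rk h1
    set k'' := k' * u with hk''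
    have e2 : k' = k'' * u := by rw [hk'', mul_assoc, h.shape.sq_u, mul_one]
    have e3 : ⁅k, k'⁆ = ⁅k, k''⁆ * ⁅k'', ⁅k, u⁆⁆ * ⁅k, u⁆ := by
      rw [e2]; simp [commutatorElement_def, mul_assoc]
    have hm1 : ⁅k, k''⁆ * ⁅k'', ⁅k, u⁆⁆ ∈ F2 :=
      mul_mem (h.torus.commutator_mem_nxt_nxt hk h1) (comm_mem_nxt' hku hk'u)
    rw [e3, show ⁅k, k''⁆ * ⁅k'', ⁅k, u⁆⁆ * ⁅k, u⁆ * ⁅q, q'⁆ * ⁅k, u⁆⁻¹ =
      ⁅k, k''⁆ * ⁅k'', ⁅k, u⁆⁆ * (⁅k, u⁆ * ⁅q, q'⁆ * ⁅k, u⁆⁻¹) by group,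
      ← (h.torus.central _ (h.shape.comm_mem q hq q' hq') _
        (nxt_le le_normalizer hku)).eq, mul_inv_cancel_right]
    exact mul_mem hm1 hzF2

theorem multi_mem_comm {g : G} (hg : g ∈ M)
    (hn : ∃ e, ∀ r ∈ M, ⁅g, r⁆ ∈ nxt (nxt (rk M a) (rk M a)) (rk M a) ∨
      ⁅g, r⁆ * e ∈ nxt (nxt (rk M a) (rk M a)) (rk M a)) : g ∈ ⁅M, A⁆ := by
  obtain ⟨e, he⟩ := hn
  set F2 := nxt (nxt (rk M a) (rk M a)) (rk M a) with hF2
  obtain ⟨q, hq, k, hk, rfl⟩ := hp g hg
  rcases h.torus.mem_or_mul_mem hk with h1 | h1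
  · exact h.mul_kk_mem hq h1
  exfalso
  set k₀ := k * u with hk₀
  have hk₀r : k₀ ∈ rk M a := h.kk_le_rk h1
  have hn := h.multi_norm_rk hp hL hm hk₀r.1
  -- `⁅g, x⁆` is `⁅x, u⁆⁻¹` modulo the layer
  have e0 : ∀ x ∈ ⁅rk M a, A⁆, ⁅q * k, x⁆ * ⁅x, u⁆ ∈ F2 := by
    intro x hx
    have hxr := h.kk_le_rk hx
    have hxu : ⁅x, u⁆ ∈ nxt (rk M a) (rk M a) := comm_mem_nxt hxr h.u_mem_rk
    have hzF : k₀ * ⁅x, u⁆⁻¹ * k₀⁻¹ * ⁅x, u⁆ ∈ F2 := by
      have := comm_mem_nxt' (inv_mem hxu) hk₀r (R := rk M a)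
      rwa [commutatorElement_def, inv_inv] at this
    rw [h.multi_comm_kk hp hL hm hq hk hxr,
      show k = k₀ * u by rw [hk₀, mul_assoc, h.shape.sq_u, mul_one], commutator_mul_left_eq,
      ← commutatorElement_inv x u,
      show k₀ * ⁅x, u⁆⁻¹ * k₀⁻¹ * ⁅k₀, x⁆ * ⁅x, u⁆ =
        (k₀ * ⁅x, u⁆⁻¹ * k₀⁻¹ * ⁅x, u⁆) * (⁅x, u⁆⁻¹ * ⁅k₀, x⁆ * ⁅x, u⁆⁻¹⁻¹) by group]
    exact mul_mem hzF ((mem_normalizer_iff.mp
      (norm_nxt (norm_nxt le_normalizer le_normalizer) le_normalizer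
        (nxt_le le_normalizer (inv_mem hxu))) _).mp (h.torus.commutator_mem_nxt_nxt h1 hx))
  obtain ⟨x, hx, hx1, hxe⟩ := h.multi_exists_comm hp hL hm (e₁ := 1) (e₂ := e⁻¹)
  rw [mul_one] at hx1
  rcases he x (h.kk_le_rk hx).1 with h3 | h3
  · refine hx1 ?_
    have h4 := mul_mem (inv_mem h3) (e0 x hx)
    rwa [inv_mul_cancel_left] at h4
  · refine hxe ?_
    have hxu : ⁅x, u⁆ ∈ nxt (rk M a) (rk M a) := comm_mem_nxt (h.kk_le_rk hx) h.u_mem_rk
    have h4 := mul_mem (inv_mem h3) (e0 x hx)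
    rw [show (⁅q * k, x⁆ * e)⁻¹ * (⁅q * k, x⁆ * ⁅x, u⁆) = e⁻¹ * ⁅x, u⁆ by group] at h4
    have h5 := (mem_normalizer_iff.mp (norm_nxt (norm_nxt le_normalizer le_normalizer)
      le_normalizer (nxt_le le_normalizer hxu)) _).mp h4
    rwa [show ⁅x, u⁆ * (e⁻¹ * ⁅x, u⁆) * ⁅x, u⁆⁻¹ = ⁅x, u⁆ * e⁻¹ by group] at h5

theorem multi_normK {l : G} (hl : l ∈ L) : l ∈ normalizer ((⁅M, A⁆ : Subgroup G) : Set G) := by
  refine mem_normalizer_conj fun g hg =>
    h.multi_mem_comm hp hL hm (hL.conj_mem hl (h.shape.commutator_le hg)) ?_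
  obtain ⟨e, he⟩ := h.multi_narrow hp hL hm hg
  refine ⟨l * e * l⁻¹, fun r hr => ?_⟩
  obtain ⟨r', hr', rfl⟩ := hL.exists_pre hl hr
  rw [← h.shape.conj_comm]
  rcases he r' hr' with h1 | h1
  · exact Or.inl ((mem_normalizer_iff.mp (h.multi_normF2 hp hL hm hl) _).mp h1)
  · right
    have := (mem_normalizer_iff.mp (h.multi_normF2 hp hL hm hl) _).mp h1
    rwa [show l * (⁅g, r'⁆ * e) * l⁻¹ = l * ⁅g, r'⁆ * l⁻¹ * (l * e * l⁻¹) by group] at this

theorem multi_comm_u {l : G} (hl : l ∈ L) : ⁅l, u⁆ ∈ ⁅M, A⁆ := by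
  have h1 : l * u * l⁻¹ * u ∈ ⁅M, A⁆ := by
    refine (h.shape.mem_or_mul_mem (hL.conj_mem hl h.shape.u_mem)).resolve_left fun h2 => ?_
    exact h.u_notMem_comm ((mem_normalizer_iff.mp (h.multi_normK hp hL hm hl) u).mpr h2)
  rwa [commutatorElement_def, h.shape.inv_u]

/-- The Frattini part is all of the part of `⁅C_M(a), A⁆` moving `u` into the layer below. -/
theorem multi_mem_F {k : G} (hk : k ∈ ⁅rk M a, A⁆)
    (hku : ⁅k, u⁆ ∈ nxt (nxt (rk M a) (rk M a)) (rk M a)) : k ∈ nxt (rk M a) (rk M a) := by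
  set F := nxt (rk M a) (rk M a) with hFd
  set F2 := nxt F (rk M a) with hF2
  let X : Subgroup G :=
    { carrier := {x | x ∈ ⁅rk M a, A⁆ ∧ ⁅x, u⁆ ∈ F2}
      one_mem' := ⟨one_mem _, by rw [commutatorElement_one_left]; exact F2.one_mem⟩
      mul_mem' := fun {x y} hx hy => ⟨mul_mem hx.1 hy.1, by
        rw [commutator_mul_left_eq]
        exact F2.mul_mem ((mem_normalizer_iff.mp (norm_nxt (norm_nxt le_normalizer le_normalizer)
          le_normalizer (h.kk_le_rk hx.1)) _).mp hy.2) hx.2⟩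
      inv_mem' := fun {x} hx => ⟨inv_mem hx.1, by
        have h1 : ⁅x⁻¹, u⁆ = x⁻¹ * ⁅x, u⁆⁻¹ * x⁻¹⁻¹ := by simp [commutatorElement_def, mul_assoc]
        rw [h1]
        exact (mem_normalizer_iff.mp (norm_nxt (norm_nxt le_normalizer le_normalizer)
          le_normalizer (inv_mem (h.kk_le_rk hx.1))) _).mp (F2.inv_mem hx.2)⟩ }
  have hFX : F ≤ X := fun n hn =>
    ⟨h.torus.nxt_le_commutator hn, comm_mem_nxt hn h.u_mem_rk⟩
  have hAX : A ≤ normalizer (X : Set G) := le_normalizer_iff.mpr fun b hb x hx =>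
    ⟨(mem_normalizer_iff.mp (normalizer_commutator_ge_right _ A hb) x).mp hx.1, by
      rw [← h.shape.conj_comm_u hb]
      exact (mem_normalizer_iff.mp (h.multi_normA_F2 hp hL hm hb) _).mp hx.2⟩
  by_contra hkF
  have h1 := (h.torus.card_mul_le (S := F) (K := X) hFX (fun x hx => h.kk_le_rk hx.1) h.normA_F hAX
    (Or.inr fun hu => h.u_notMem_kk hu.1) (show k ∈ X from ⟨hk, hku⟩) hkF).1
  rw [← h.torus.frattini_data.1] at h1
  have hall : X = ⁅rk M a, A⁆ := eq_of_le_of_card_ge (fun x hx => hx.1) h1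
  have hle : F ≤ F2 := fun n hn => by
    obtain ⟨x, hx, rfl⟩ := h.torus.frattini_data.2 n hn
    exact (show x ∈ X from hall.symm ▸ hx).2
  exact (nxt_lt h.torus.two (nxt_le le_normalizer) (norm_nxt le_normalizer le_normalizer)
    fun e => hm ((le_of_eq e).trans bot_le)).not_ge hle

theorem multi_radical {g : G} (hg : g ∈ ⁅M, A⁆)
    (hrad : ∀ r ∈ M, ⁅g, r⁆ ∈ nxt (nxt (rk M a) (rk M a)) (rk M a)) :
    g ∈ Q ⊔ nxt (rk M a) (rk M a) := by
  obtain ⟨q, hq, k, hk, rfl⟩ := h.exists_kk hp hg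
  refine mul_mem (mem_sup_left hq) (mem_sup_right (h.multi_mem_F hp hL hm hk ?_))
  have h1 := hrad u h.shape.u_mem
  rwa [commutator_mul_left_eq, commutatorElement_eq_one_iff_commute.mpr (h.shape.commute q hq),
    mul_one, ← (h.commute_rk (nxt_le le_normalizer
      (comm_mem_nxt (h.kk_le_rk hk) h.u_mem_rk)) hq).eq, mul_inv_cancel_right] at h1

theorem multi_mem_radical {g : G} (hg : g ∈ Q ⊔ nxt (rk M a) (rk M a)) {r : G} (hr : r ∈ M) :
    ⁅g, r⁆ ∈ nxt (nxt (rk M a) (rk M a)) (rk M a) := by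
  set F2 := nxt (nxt (rk M a) (rk M a)) (rk M a) with hF2
  have hgen : ∀ q ∈ Q, ∀ n ∈ nxt (rk M a) (rk M a), ⁅q * n, r⁆ ∈ F2 := by
    intro q hq n hn
    obtain ⟨q', hq', k', hk', rfl⟩ := hp r hr
    have hnr := nxt_le le_normalizer hn
    rw [show ⁅q * n, q' * k'⁆ = ⁅q * n, q'⁆ * (q' * ⁅q * n, k'⁆ * q'⁻¹) by
        simp [commutatorElement_def, mul_assoc],
      h.multi_comm_kk hp hL hm hq hnr hk',
      ← (h.commute_rk (nxt_le le_normalizer (comm_mem_nxt hnr hk')) hq').eq, mul_inv_cancel_right,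
      commutator_mul_left_eq, commutatorElement_eq_one_iff_commute.mpr (h.commute_rk hnr hq'),
      mul_one, mul_inv_cancel, one_mul]
    exact mul_mem (h.multi_E_le_F2 hp hL hm (h.shape.comm_mem q hq q' hq')) (comm_mem_nxt hn hk')
  have hn : nxt (rk M a) (rk M a) ≤ normalizer (Q : Set G) := fun n hn =>
    mem_normalizer_conj fun q hq => by
      rw [(h.commute_rk (nxt_le le_normalizer hn) hq).eq, mul_inv_cancel_right]; exact hq
  obtain ⟨q, hq, n, hn', rfl⟩ := (Coprime.mem_sup_iff hn).mp hg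
  exact hgen q hq n hn'

theorem multi_normQF {l : G} (hl : l ∈ L) :
    l ∈ normalizer ((Q ⊔ nxt (rk M a) (rk M a) : Subgroup G) : Set G) := by
  refine mem_normalizer_conj fun g hg => h.multi_radical hp hL hm ?_ fun r hr => ?_
  · exact (mem_normalizer_iff.mp (h.multi_normK hp hL hm hl) g).mp
      (sup_le h.shape.Q_le_commutator (h.torus.nxt_le_commutator.trans h.kk_le_comm) hg)
  · obtain ⟨r', hr', rfl⟩ := hL.exists_pre hl hr
    rw [← h.shape.conj_comm]
    exact (mem_normalizer_iff.mp (h.multi_normF2 hp hL hm hl) _).mp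
      (h.multi_mem_radical hp hL hm hg hr')

/-- An odd element centralising `E` centralises the Frattini part. -/
theorem multi_commute_F {o : G} (ho : o ∈ L) (hodd : Odd (orderOf o)) {n : G}
    (hn : n ∈ nxt (rk M a) (rk M a)) : Commute o n := by
  set F := nxt (rk M a) (rk M a) with hFd
  obtain ⟨j, hj⟩ := h.multi_F_two hp hL hm ⟨n, hn⟩
  have hj' : n ^ (2 ^ j) = 1 := congrArg Subtype.val hj
  clear hj
  induction j generalizing n with
  | zero =>
    rw [pow_zero, pow_one] at hj'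
    rw [hj']; exact Commute.one_right o
  | succ j ih =>
    have h1 : Commute o (n * n) := ih (mul_mem hn hn)
      (by rw [← pow_two, ← pow_mul, ← pow_succ']; exact hj')
    have hon : o * n * o⁻¹ ∈ F := (mem_normalizer_iff.mp (h.multi_normF hp hL hm ho) n).mp hn
    have hd : ⁅o, n⁆ ∈ F := by rw [commutatorElement_def]; exact mul_mem hon (inv_mem hn)
    have hd2 : ⁅o, n⁆ * ⁅o, n⁆ = 1 := by
      rw [commutatorElement_def, (h.F_abelian hon (inv_mem hn)).symm.mul_mul_mul_comm,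
        show o * n * o⁻¹ * (o * n * o⁻¹) = o * (n * n) * o⁻¹ by group, h1.eq, mul_inv_cancel_right]
      group
    have hdE := h.torus.mem_of_sq_eq_one hd hd2
    exact commute_of_odd (h.multi_F_two hp hL hm) hodd hd (hL.centE _ hdE o ho).symm

/-- The series for several layers. -/
theorem flag_multi : Flag M Q E A L (nxt (rk M a) (rk M a)) a where
  V_le := nxt_le le_normalizer
  E_le := h.multi_E_le_F hp hL hm
  abelian := fun v hv v' hv' => h.F_abelian hv hv'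
  normA := h.normA_F
  normV := fun l hl => h.multi_normF hp hL hm hl
  normQV := fun l hl => h.multi_normQF hp hL hm hl
  rigid := fun o ho hodd hQ g hg => by
    set F := nxt (rk M a) (rk M a) with hFd
    set F2 := nxt F (rk M a) with hF2
    have hF := fun n (hn : n ∈ F) => h.multi_commute_F hp hL hm ho hodd hn
    have hQ' : ∀ q ∈ Q, Commute o q := fun q hq =>
      commute_of_odd (h.multi_F_two hp hL hm) hodd (hQ q hq) (hF _ (hQ q hq))
    have hle : Q ⊔ F ≤ M := sup_le h.shape.le ((nxt_le le_normalizer).trans inf_le_left)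
    have hQF : ∀ x ∈ Q ⊔ F, Commute o x := by
      intro x hx
      have h1 : Q ⊔ F ≤ centralizer ({o} : Set G) := sup_le
        (fun q hq => mem_centralizer_singleton_iff.mpr (hQ' q hq).eq.symm)
        (fun n hn => mem_centralizer_singleton_iff.mpr (hF n hn).eq.symm)
      exact (mem_centralizer_singleton_iff.mp (h1 hx) : Commute x o).symm
    -- `o` is trivial on `K / Q F`
    have hS : ∀ x ∈ ⁅M, A⁆, ⁅o, x⁆ ∈ Q ⊔ F := by
      intro x hx
      set x' := o * x * o⁻¹ with hx'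
      have hx'K : x' ∈ ⁅M, A⁆ := (mem_normalizer_iff.mp (h.multi_normK hp hL hm ho) x).mp hx
      set d := ⁅o, x⁆ with hd
      have hdx : d = x' * x⁻¹ := by rw [hd, commutatorElement_def]
      have hdK : d ∈ ⁅M, A⁆ := hdx ▸ mul_mem hx'K (inv_mem hx)
      obtain ⟨q, hq, k, hk, hde⟩ := h.exists_kk hp hdK
      rw [hde]
      refine mul_mem (mem_sup_left hq) (mem_sup_right (h.multi_mem_F hp hL hm hk ?_))
      -- the commutators of `x` and `x'` with `u` agree modulo the layer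
      obtain ⟨q₁, hq₁, k₁, hk₁, hxe⟩ := h.exists_kk hp hx
      have hu0 : ∀ {p y : G}, p ∈ Q → y ∈ rk M a → ⁅p * y, u⁆ = ⁅y, u⁆ := fun {p y} hp' hy => by
        rw [commutator_mul_left_eq, commutatorElement_eq_one_iff_commute.mpr (h.shape.commute p hp'),
          mul_one, ← (h.commute_rk (nxt_le le_normalizer (comm_mem_nxt hy h.u_mem_rk)) hp').eq,
          mul_inv_cancel_right]
      have hxu : ⁅x, u⁆ ∈ F := by
        rw [hxe, hu0 hq₁ (h.kk_le_rk hk₁)]; exact comm_mem_nxt (h.kk_le_rk hk₁) h.u_mem_rk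
      obtain ⟨qc, hqc, kc, hkc, hce⟩ := h.exists_kk hp (h.multi_comm_u hp hL hm ho)
      obtain ⟨q₂, hq₂, k₂, hk₂, hx'e⟩ := h.exists_kk hp hx'K
      have hk₂r := h.kk_le_rk hk₂
      have hx'u : ⁅x', u⁆ ∈ F := by
        rw [hx'e, hu0 hq₂ hk₂r]; exact comm_mem_nxt hk₂r h.u_mem_rk
      have hn2 : ∀ g ∈ M, g ∈ normalizer (F2 : Set G) := fun g hg => h.multi_norm_rk hp hL hm hg
      -- `⁅x', c⁆` lies in the layer
      have hxc : ⁅x', ⁅o, u⁆⁆ ∈ F2 := by
        rw [hce, hx'e, show ⁅q₂ * k₂, qc * kc⁆ = ⁅q₂ * k₂, qc⁆ * (qc * ⁅q₂ * k₂, kc⁆ * qc⁻¹) by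
          simp [commutatorElement_def, mul_assoc],
          h.multi_comm_kk hp hL hm hq₂ hk₂r (h.kk_le_rk hkc), commutator_mul_left_eq,
          commutatorElement_eq_one_iff_commute.mpr (h.commute_rk hk₂r hqc), mul_one, mul_inv_cancel,
          one_mul]
        exact mul_mem (h.multi_E_le_F2 hp hL hm (h.shape.comm_mem q₂ hq₂ qc hqc))
          ((mem_normalizer_iff.mp (hn2 qc (h.shape.le hqc)) _).mp
            (h.torus.commutator_mem_nxt_nxt hk₂ hkc))
      have hagree : ⁅x', u⁆ * ⁅x, u⁆⁻¹ ∈ F2 := by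
        have e0 : ⁅x, u⁆ = ⁅x', o * u * o⁻¹⁆ := by
          rw [hx', ← h.shape.conj_comm, (hF _ hxu).eq, mul_inv_cancel_right]
        have e1 : ⁅x', o * u * o⁻¹⁆ =
            ⁅x', ⁅o, u⁆⁆ * (⁅o, u⁆ * ⁅x', u⁆ * ⁅o, u⁆⁻¹) := by
          simp [commutatorElement_def, mul_assoc]
        have hc' := h.shape.commutator_le (h.multi_comm_u hp hL hm ho)
        have h1 : ⁅o, u⁆ * ⁅x', u⁆ * ⁅o, u⁆⁻¹ * ⁅x', u⁆⁻¹ ∈ F2 := by
          rw [hce]
          have hkc' := h.kk_le_rk hkc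
          rw [show qc * kc * ⁅x', u⁆ * (qc * kc)⁻¹ = qc * (kc * ⁅x', u⁆ * kc⁻¹) * qc⁻¹ by group,
            ← (h.commute_rk (show kc * ⁅x', u⁆ * kc⁻¹ ∈ rk M a from
              mul_mem (mul_mem hkc' (nxt_le le_normalizer hx'u)) (inv_mem hkc')) hqc).eq,
            mul_inv_cancel_right, ← commutatorElement_def]
          exact comm_mem_nxt' hx'u hkc'
        have h2 : ⁅x, u⁆ * ⁅x', u⁆⁻¹ ∈ F2 := by
          rw [e0, e1, show ⁅x', ⁅o, u⁆⁆ * (⁅o, u⁆ * ⁅x', u⁆ * ⁅o, u⁆⁻¹) * ⁅x', u⁆⁻¹ =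
            ⁅x', ⁅o, u⁆⁆ * (⁅o, u⁆ * ⁅x', u⁆ * ⁅o, u⁆⁻¹ * ⁅x', u⁆⁻¹) by group]
          exact mul_mem hxc h1
        simpa using inv_mem h2
      have h3 : ⁅d, u⁆ ∈ F2 := by
        have e2 : ⁅x' * x⁻¹, u⁆ = x' * x⁻¹ * (⁅x, u⁆⁻¹ * ⁅x', u⁆) * (x' * x⁻¹)⁻¹ *
            ⁅x' * x⁻¹, ⁅x', u⁆⁻¹⁆ := by
          simp [commutatorElement_def, mul_assoc]
        rw [hdx, e2]
        have hdM : x' * x⁻¹ ∈ M := h.shape.commutator_le (mul_mem hx'K (inv_mem hx))
        refine mul_mem ((mem_normalizer_iff.mp (hn2 _ hdM) _).mp ?_) ?_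
        · have := (mem_normalizer_iff.mp (hn2 _ (M.inv_mem
            ((nxt_le le_normalizer).trans inf_le_left hxu))) _).mp hagree
          rwa [show ⁅x, u⁆⁻¹ * (⁅x', u⁆ * ⁅x, u⁆⁻¹) * ⁅x, u⁆⁻¹⁻¹ = ⁅x, u⁆⁻¹ * ⁅x', u⁆ by
            group] at this
        · rw [← hdx, hde, h.multi_comm_kk hp hL hm hq (h.kk_le_rk hk)
            (nxt_le le_normalizer (inv_mem hx'u))]
          exact comm_mem_nxt' (inv_mem hx'u) (h.kk_le_rk hk)
      rwa [hde, hu0 hq (h.kk_le_rk hk)] at h3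
    have hK : ∀ x ∈ ⁅M, A⁆, Commute o x := fun x hx =>
      commute_of_odd (h.shape.two.to_le hle) hodd (hS x hx) (hQF _ (hS x hx))
    have hu : Commute o u := commute_of_odd (h.shape.two.to_le h.shape.commutator_le) hodd
      (h.multi_comm_u hp hL hm ho) (hK _ (h.multi_comm_u hp hL hm ho))
    rcases h.shape.mem_or_mul_mem hg with h1 | h1
    · exact hK g h1
    · have h2 := (hK _ h1).mul_right hu
      rwa [mul_assoc, h.shape.sq_u, mul_one] at h2

end Multi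

/-- The series exists. -/
theorem exists_flag : ∃ V : Subgroup G, Flag M Q E A L V a := by
  by_cases hm : nxt (rk M a) (rk M a) ≤ E
  · by_cases hb : (⁅rk M a, A⁆ : Subgroup G) ≤ E
    · exact ⟨_, h.flag_base hp hL hb⟩
    · exact ⟨_, h.flag_one hp hL hm hb⟩
  · exact ⟨_, h.flag_multi hp hL hm⟩

end UData

end Cfsg.Agent.H51.AschU
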