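import Mathlib

/-!
An anisotropic quadratic map from `F_2^6` to `F_2^3` with equal fibres: its compositions with the
characters are non-degenerate of minus type, so no subgroup of order eight maps into a proper
subgroup, and the involutions preserving it are rigid.
-/

set_option autoImplicit false
set_option linter.style.haveILetI false

namespace Cfsg.Agent.H51.Asch

universe u v

/-- The data of the squaring map of a Sylow `2`-subgroup of `U₃(8)`. -/
structure UForm {V : Type u} {Z : Type v} [AddCommGroup V] [AddCommGroup Z] (q : V → Z)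
    (β : V → V → Z) : Prop where
  two : ∀ v : V, v + v = 0
  two' : ∀ z : Z, z + z = 0
  q_add : ∀ v w : V, q (v + w) = q v + q w + β v w
  β_add : ∀ v v' w : V, β (v + v') w = β v w + β v' w
  q_eq : ∀ v : V, q v = 0 ↔ v = 0
  card_V : Nat.card V = 64
  card_Z : Nat.card Z = 8
  fibre : ∀ z z' : Z, z ≠ 0 → z' ≠ 0 → Nat.card {v // q v = z} = Nat.card {v // q v = z'}

/-- A non-trivial character with values `± 1`. -/
structure SignMap {Z : Type v} [AddCommGroup Z] (χ : Z → ℤ) : Prop where
  map_add : ∀ z z' : Z, χ (z + z') = χ z * χ z'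
  pm : ∀ z : Z, χ z = 1 ∨ χ z = -1
  nontriv : ∃ z : Z, χ z = -1

variable {V : Type u} {Z : Type v} [AddCommGroup V] [AddCommGroup Z]

theorem SignMap.map_zero {χ : Z → ℤ} (hc : SignMap χ) : χ 0 = 1 := by
  rcases hc.pm 0 with e | e
  · exact e
  · have := hc.map_add 0 0
    rw [add_zero, e] at this
    norm_num at this

theorem SignMap.sq {χ : Z → ℤ} (hc : SignMap χ) (z : Z) : χ z * χ z = 1 := by
  rcases hc.pm z with e | e <;> rw [e] <;> norm_num

/-- A homomorphism followed by a character sums to zero unless trivial. -/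
theorem SignMap.sum_eq_zero {χ : Z → ℤ} (hc : SignMap χ) {W : Type*} [AddCommGroup W] [Fintype W]
    (φ : W → Z) (hφ : ∀ a b, φ (a + b) = φ a + φ b) {a : W} (ha : χ (φ a) = -1) :
    ∑ w, χ (φ w) = 0 := by
  have h1 : ∑ w, χ (φ (w + a)) = ∑ w, χ (φ w) :=
    Fintype.sum_equiv (Equiv.addRight a) _ _ fun w => rfl
  simp only [hφ, hc.map_add, ha, mul_neg, mul_one, Finset.sum_neg_distrib] at h1
  omega

theorem card_ker_mul_card_range [Finite V] {W : Type*} [AddCommGroup W] (f : V →+ W) :
    Nat.card f.ker * Nat.card f.range = Nat.card V := by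
  rw [← Nat.card_congr (QuotientAddGroup.quotientKerEquivRange f).toEquiv, mul_comm]
  exact (AddSubgroup.card_eq_card_quotient_mul_card_addSubgroup f.ker).symm

/-- A proper subgroup of an elementary group lies in the kernel of a character. -/
theorem exists_signMap [Finite Z] (two : ∀ z : Z, z + z = 0) {H : AddSubgroup Z} (hH : H ≠ ⊤) :
    ∃ χ : Z → ℤ, SignMap χ ∧ ∀ z ∈ H, χ z = 1 := by
  classical
  obtain ⟨K, ⟨hHK, hK⟩, hmax⟩ := Set.Finite.exists_maximalFor id
    {K : AddSubgroup Z | H ≤ K ∧ K ≠ ⊤} (Set.toFinite _) ⟨H, le_rfl, hH⟩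
  have hkey : ∀ z z', z ∉ K → z' ∉ K → z + z' ∈ K := by
    intro z z' hz hz'
    have htop : K ⊔ AddSubgroup.zmultiples z = ⊤ := by
      by_contra hne
      exact hz (hmax ⟨hHK.trans le_sup_left, hne⟩ le_sup_left
        (AddSubgroup.mem_sup_right (AddSubgroup.mem_zmultiples z)))
    obtain ⟨k, hk, w, hw, hkw⟩ := AddSubgroup.mem_sup.mp (htop ▸ AddSubgroup.mem_top z')
    obtain ⟨i, rfl⟩ := AddSubgroup.mem_zmultiples_iff.mp hw
    rcases Int.even_or_odd i with ⟨j, rfl⟩ | ⟨j, rfl⟩
    · exfalso
      rw [add_zsmul, two, add_zero] at hkw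
      exact hz' (hkw ▸ hk)
    · rw [add_zsmul, two_mul, add_zsmul, two, zero_add, one_zsmul] at hkw
      rw [← hkw, show z + (k + z) = k + (z + z) by abel, two, add_zero]
      exact hk
  refine ⟨fun z => if z ∈ K then 1 else -1, ⟨fun z z' => ?_, fun z => ?_, ?_⟩,
    fun z hz => if_pos (hHK hz)⟩
  · by_cases hz : z ∈ K <;> by_cases hz' : z' ∈ K
    · simp [hz, hz', K.add_mem hz hz']
    · have : z + z' ∉ K := fun h => hz' (by simpa using K.sub_mem h hz)
      simp [hz, hz', this]
    · have : z + z' ∉ K := fun h => hz (by simpa using K.sub_mem h hz')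
      simp [hz, hz', this]
    · simp [hz, hz', hkey z z' hz hz']
  · by_cases hz : z ∈ K <;> simp [hz]
  · obtain ⟨z, hz⟩ : ∃ z, z ∉ K := by
      by_contra hall
      push Not at hall
      exact hK (eq_top_iff.mpr fun z _ => hall z)
    exact ⟨z, if_neg hz⟩

namespace UForm

variable {q : V → Z} {β : V → V → Z} (h : UForm q β)
include h

theorem β_symm (v w : V) : β v w = β w v := by
  have h1 := h.q_add v w
  rw [add_comm v w, h.q_add w v, add_comm (q w) (q v)] at h1
  exact (add_left_cancel h1).symm

theorem β_add' (v w w' : V) : β v (w + w') = β v w + β v w' := by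
  rw [h.β_symm, h.β_add, h.β_symm w, h.β_symm w']

theorem q_zero : q 0 = 0 := (h.q_eq 0).mpr rfl

theorem finite : Finite V := Nat.finite_of_card_ne_zero (by rw [h.card_V]; norm_num)

theorem finite' : Finite Z := Nat.finite_of_card_ne_zero (by rw [h.card_Z]; norm_num)

theorem sum_q [Fintype V] [Fintype Z] {χ : Z → ℤ} (hc : SignMap χ) : ∑ v, χ (q v) = -8 := by
  classical
  obtain ⟨z₀, hz₀⟩ := hc.nontriv
  have hz₀0 : z₀ ≠ 0 := fun e => by rw [e, hc.map_zero] at hz₀; norm_num at hz₀
  set n := (Finset.univ.filter fun v => q v = z₀).card with hn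
  have hfib : ∀ z, z ≠ 0 → (Finset.univ.filter fun v => q v = z).card = n := fun z hz => by
    have := h.fibre z z₀ hz hz₀0
    rwa [Nat.card_eq_fintype_card, Nat.card_eq_fintype_card, Fintype.card_subtype,
      Fintype.card_subtype] at this
  have hzero : (Finset.univ.filter fun v => q v = 0).card = 1 := by
    rw [Finset.card_eq_one]
    exact ⟨0, by ext v; simp [h.q_eq]⟩
  have hsum : ∀ f : Z → ℤ, ∑ v, f (q v) = f 0 + n * ∑ z ∈ Finset.univ.erase 0, f z := by
    intro f
    rw [← Finset.sum_fiberwise Finset.univ q, ← Finset.add_sum_erase _ _ (Finset.mem_univ (0 : Z)),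
      Finset.mul_sum]
    congr 1
    · rw [Finset.sum_congr rfl fun v hv => congrArg f (Finset.mem_filter.mp hv).2, Finset.sum_const,
        hzero, one_smul]
    · refine Finset.sum_congr rfl fun z hz => ?_
      rw [Finset.sum_congr rfl fun v hv => congrArg f (Finset.mem_filter.mp hv).2, Finset.sum_const,
        hfib z (Finset.mem_erase.mp hz).1, nsmul_eq_mul]
  have h1 := hsum fun _ => 1
  rw [Finset.sum_const, Finset.sum_const, Finset.card_univ, Finset.card_erase_of_mem (Finset.mem_univ _),
    Finset.card_univ, ← Nat.card_eq_fintype_card, h.card_V, ← Nat.card_eq_fintype_card, h.card_Z] at h1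
  norm_num at h1
  have h2 := hsum χ
  have h3 : ∑ z ∈ Finset.univ.erase 0, χ z = -1 := by
    have h4 := hc.sum_eq_zero (fun z : Z => z) (fun _ _ => rfl) hz₀
    rw [← Finset.add_sum_erase _ _ (Finset.mem_univ (0 : Z)), hc.map_zero] at h4
    omega
  rw [h3, hc.map_zero] at h2
  omega

/-- The compositions with characters are non-degenerate. -/
theorem eq_zero_of_radical {χ : Z → ℤ} (hc : SignMap χ) {d : V} (hd : ∀ w, χ (β w d) = 1) :
    d = 0 := by
  classical
  haveI := h.finite
  haveI := h.finite'
  letI := Fintype.ofFinite V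
  letI := Fintype.ofFinite Z
  by_contra hd0
  set R := Finset.univ.filter fun e : V => ∀ w, χ (β w e) = 1 with hR
  have hinner : ∀ e : V, ∑ w, χ (β w e) = if e ∈ R then 64 else 0 := by
    intro e
    by_cases he : e ∈ R
    · rw [if_pos he, Finset.sum_congr rfl fun w _ => (Finset.mem_filter.mp he).2 w, Finset.sum_const,
        Finset.card_univ, ← Nat.card_eq_fintype_card, h.card_V]
      rfl
    · rw [if_neg he]
      obtain ⟨w, hw⟩ : ∃ w, χ (β w e) ≠ 1 := by simpa [hR] using he
      exact hc.sum_eq_zero (fun w => β w e) (fun a b => h.β_add a b e) ((hc.pm _).resolve_left hw)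
  -- the square of the sum
  have h1 : (∑ v, χ (q v)) * ∑ v, χ (q v) = 64 * ∑ e ∈ R, χ (q e) := by
    have key : ∀ v, χ (q v) * ∑ w, χ (q w) = ∑ e, χ (q e) * χ (β v e) := fun v => by
      rw [Finset.mul_sum]
      refine (Fintype.sum_equiv (Equiv.addLeft v) _ _ fun e => ?_).symm
      show χ (q e) * χ (β v e) = χ (q v) * χ (q (v + e))
      rw [h.q_add, hc.map_add, hc.map_add, ← mul_assoc, ← mul_assoc, hc.sq, one_mul]
    rw [Finset.sum_mul, Finset.sum_congr rfl fun v _ => key v, Finset.sum_comm,
      Finset.sum_congr rfl fun e (_ : e ∈ Finset.univ) => (Finset.mul_sum _ _ _).symm,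
      Finset.sum_congr rfl fun e (_ : e ∈ Finset.univ) => congrArg _ (hinner e), Finset.mul_sum]
    simp only [mul_ite, mul_zero, ← Finset.sum_filter, hR, Finset.filter_filter]
    refine Finset.sum_congr (by simp) fun e _ => mul_comm _ _
  rw [h.sum_q hc] at h1
  -- the translation by `d` pairs the radical
  have hd' : d ∈ R := Finset.mem_filter.mpr ⟨Finset.mem_univ d, hd⟩
  have hinv : ∀ e ∈ R, e + d ∈ R := fun e he => Finset.mem_filter.mpr ⟨Finset.mem_univ _, fun w => by
    rw [h.β_add', hc.map_add, (Finset.mem_filter.mp he).2 w, hd w, mul_one]⟩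
  have h2 : ((∑ e ∈ R, χ (q e) : ℤ) : ZMod 2) = 0 := by
    rw [Int.cast_sum]
    refine Finset.sum_involution (fun e _ => e + d) (fun e _ => ?_) (fun e _ _ he => hd0 ?_) hinv
      (fun e _ => by rw [add_assoc, h.two, add_zero])
    · rcases hc.pm (q e) with e1 | e1 <;> rcases hc.pm (q (e + d)) with e2 | e2 <;>
        simp [e1, e2] <;> decide
    · exact left_eq_add.mp he.symm
  rw [show ∑ e ∈ R, χ (q e) = 1 by omega] at h2
  norm_num at h2

/-- Pairing with a non-zero vector is surjective. -/
theorem surjective_β {d : V} (hd : d ≠ 0) : Function.Surjective fun w => β w d := by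
  classical
  haveI := h.finite'
  intro z
  let f : V →+ Z := AddMonoidHom.mk' (fun w => β w d) fun a b => h.β_add a b d
  by_contra hz
  obtain ⟨χ, hc, hH⟩ := exists_signMap h.two' (H := f.range)
    (fun e => hz (AddMonoidHom.mem_range.mp (e ▸ AddSubgroup.mem_top z)))
  exact hd (h.eq_zero_of_radical hc fun w => hH _ ⟨w, rfl⟩)

theorem card_perp {d : V} (hd : d ≠ 0) : Nat.card {w // β w d = 0} = 8 := by
  haveI := h.finite
  let f : V →+ Z := AddMonoidHom.mk' (fun w => β w d) fun a b => h.β_add a b d
  have h1 := card_ker_mul_card_range f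
  rw [AddMonoidHom.range_eq_top.mpr (h.surjective_β hd), AddSubgroup.card_top, h.card_Z, h.card_V]
    at h1
  have h2 : Nat.card {w // β w d = 0} = Nat.card f.ker := rfl
  omega

/-- No subgroup of order at least eight is mapped into a proper subgroup. -/
theorem false_of_map_le {W : AddSubgroup V} (hW : 8 ≤ Nat.card W) {H : AddSubgroup Z} (hH : H ≠ ⊤)
    (hWH : ∀ w ∈ W, q w ∈ H) : False := by
  classical
  haveI := h.finite
  haveI := h.finite'
  letI := Fintype.ofFinite V
  letI := Fintype.ofFinite Z
  obtain ⟨χ, hc, hcH⟩ := exists_signMap h.two' hH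
  have hqW : ∀ w ∈ W, χ (q w) = 1 := fun w hw => hcH _ (hWH w hw)
  set P := Finset.univ.filter fun v : V => ∀ w : W, χ (β v w) = 1 with hP
  have hinner : ∀ v : V, ∑ w : W, χ (β v w) = if v ∈ P then (Nat.card W : ℤ) else 0 := by
    intro v
    by_cases hv : v ∈ P
    · rw [if_pos hv, Finset.sum_congr rfl fun w _ => (Finset.mem_filter.mp hv).2 w, Finset.sum_const,
        Finset.card_univ, Nat.card_eq_fintype_card]
      simp
    · rw [if_neg hv]
      obtain ⟨w, hw⟩ : ∃ w : W, χ (β v w) ≠ 1 := by
        simpa [hP, Subtype.exists] using hv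
      exact hc.sum_eq_zero (fun w : W => β v w) (fun a b => h.β_add' v a b) ((hc.pm _).resolve_left hw)
  -- count the orthogonal of `W`
  have h1 : (Nat.card W : ℤ) * P.card = 64 := by
    have h2 : ∀ w : W, ∑ v, χ (β v w) = if w = 0 then 64 else 0 := by
      intro w
      by_cases hw : w = 0
      · rw [if_pos hw, hw]
        have h0 : ∀ v : V, β v ((0 : W) : V) = 0 := fun v => by
          have := h.β_add' v 0 0
          rw [add_zero, left_eq_add] at this
          exact this
        simp only [h0, hc.map_zero, Finset.sum_const, Finset.card_univ, ← Nat.card_eq_fintype_card,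
          h.card_V]
        rfl
      · rw [if_neg hw]
        obtain ⟨v, hv⟩ : ∃ v, χ (β v w) ≠ 1 := by
          by_contra hall
          push Not at hall
          exact hw (Subtype.ext (h.eq_zero_of_radical hc hall))
        exact hc.sum_eq_zero (fun v => β v w) (fun a b => h.β_add a b w) ((hc.pm _).resolve_left hv)
    have h3 : ∑ v, ∑ w : W, χ (β v w) = ∑ w : W, ∑ v, χ (β v w) := Finset.sum_comm
    simp only [hinner, h2] at h3
    rw [Finset.sum_ite_mem, Finset.univ_inter, Finset.sum_const, Finset.sum_ite_eq'] at h3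
    rw [if_pos (Finset.mem_univ _), nsmul_eq_mul] at h3
    rw [mul_comm]
    exact h3
  have hWP : ∀ w : W, (w : V) ∈ P := fun w => Finset.mem_filter.mpr ⟨Finset.mem_univ _, fun w' => by
    have h4 := congrArg χ (h.q_add (w : V) (w' : V))
    rw [hc.map_add, hc.map_add, hqW _ w.2, hqW _ w'.2, one_mul, one_mul,
      hqW _ (W.add_mem w.2 w'.2)] at h4
    exact h4.symm⟩
  have hle : Nat.card W ≤ P.card := by
    rw [Nat.card_eq_fintype_card, ← Finset.card_univ]
    exact Finset.card_le_card_of_injOn (fun w => (w : V)) (fun w _ => hWP w)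
      fun a _ b _ e => Subtype.ext e
  have h1' : Nat.card W * P.card = 64 := by exact_mod_cast h1
  have hP8 : P.card = 8 ∧ Nat.card W = 8 := by
    have : Nat.card W * Nat.card W ≤ 64 := h1' ▸ Nat.mul_le_mul_left _ hle
    have : Nat.card W ≤ 8 := by nlinarith
    have hW8 : Nat.card W = 8 := by omega
    rw [hW8] at h1'
    omega
  have hPeq : P = Finset.univ.image fun w : W => (w : V) := by
    refine (Finset.eq_of_subset_of_card_le ?_ ?_).symm
    · intro v hv
      obtain ⟨w, -, rfl⟩ := Finset.mem_image.mp hv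
      exact hWP w
    · rw [Finset.card_image_of_injective _ Subtype.val_injective, Finset.card_univ,
        ← Nat.card_eq_fintype_card, hP8.1, hP8.2]
  -- evaluate the sum over the cosets of `W`
  have key : ∀ v, ∑ w : W, χ (q (v + w)) = χ (q v) * ∑ w : W, χ (β v w) := fun v => by
    rw [Finset.mul_sum]
    exact Finset.sum_congr rfl fun w _ => by
      rw [h.q_add, hc.map_add, hc.map_add, hqW _ w.2, mul_one]
  have h5 : ∑ v, ∑ w : W, χ (q (v + w)) = -64 := by
    rw [Finset.sum_comm, Finset.sum_congr rfl fun (w : W) _ =>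
      (Fintype.sum_equiv (Equiv.addRight (w : V)) (fun v => χ (q (v + w))) (fun v => χ (q v))
        fun _ => rfl).trans (h.sum_q hc), Finset.sum_const, Finset.card_univ,
      ← Nat.card_eq_fintype_card, hP8.2]
    rfl
  have h6 : ∑ v, ∑ w : W, χ (q (v + w)) = 64 := by
    simp only [key, hinner, mul_ite, mul_zero]
    rw [Finset.sum_ite_mem, Finset.univ_inter, hPeq,
      Finset.sum_image fun a _ b _ e => Subtype.ext e,
      Finset.sum_congr rfl fun (w : W) _ => by rw [hqW _ w.2, one_mul], Finset.sum_const,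
      Finset.card_univ, ← Nat.card_eq_fintype_card, hP8.2]
    rfl
  omega

section Isometry

variable {t : V →+ V} (hq : ∀ v, q (t v) = q v) (ht : ∀ v, t (t v) = v) (hne : ∃ v, t v ≠ v)
include hq ht hne

omit ht hne in
theorem β_map (v w : V) : β (t v) (t w) = β v w := by
  have h1 := hq (v + w)
  rw [map_add, h.q_add, h.q_add, hq, hq] at h1
  exact add_left_cancel h1

/-- The fixed space of an involutory isometry has order eight and is mapped injectively. -/
theorem isometry_fixed : Nat.card {v // t v = v} = 8 ∧ (∀ v, t v = v → ∃ w, w + t w = v) ∧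
    ∀ v w, t v = v → t w = w → q v = q w → v = w := by
  classical
  haveI := h.finite
  let D : V →+ V := AddMonoidHom.id V + t
  have hD : ∀ v, D v = v + t v := fun _ => rfl
  have hfix : ∀ v, v + t v = 0 ↔ t v = v := fun v => by
    constructor
    · intro e
      rw [← add_zero (t v), ← h.two v, ← add_assoc, add_comm (t v) v, e, zero_add]
    · intro e; rw [e, h.two]
  have hker : Nat.card D.ker = Nat.card {v // t v = v} :=
    Nat.card_congr (Equiv.subtypeEquivRight fun v => hfix v)
  have hrange : D.range ≤ D.ker := by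
    rintro _ ⟨v, rfl⟩
    rw [AddMonoidHom.mem_ker, hD, hD, map_add, ht, add_comm (t v) v, h.two]
  obtain ⟨v₀, hv₀⟩ := hne
  have hw₀ : v₀ + t v₀ ≠ 0 := fun e => hv₀ ((hfix v₀).mp e)
  have hperp : ∀ x v, t x = x → β x (v + t v) = 0 := fun x v hx => by
    have h1 := h.β_map hq x v
    rw [hx] at h1
    rw [h.β_add', h1, h.two']
  have hle : Nat.card D.ker ≤ 8 := by
    rw [← h.card_perp hw₀, hker]
    exact Nat.card_le_card_of_injective (fun v => ⟨v.1, hperp v.1 v₀ v.2⟩)
      fun a b e => Subtype.ext (by simpa using congrArg Subtype.val e)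
  have hprod := card_ker_mul_card_range D
  rw [h.card_V] at hprod
  have hle' := AddSubgroup.card_le_of_le hrange
  have h8 : Nat.card D.ker = 8 ∧ Nat.card D.range = 8 := by
    have : Nat.card D.ker * Nat.card D.range ≤ Nat.card D.ker * Nat.card D.ker :=
      Nat.mul_le_mul_left _ hle'
    have : 8 ≤ Nat.card D.ker := by nlinarith
    have hk : Nat.card D.ker = 8 := by omega
    rw [hk] at hprod
    omega
  have heq : D.range = D.ker := AddSubgroup.eq_of_le_of_card_ge hrange (by omega)
  have himage : ∀ v, t v = v → ∃ w, w + t w = v := fun v hv => by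
    have h1 : v ∈ D.range := by rw [heq, AddMonoidHom.mem_ker, hD, hfix]; exact hv
    exact h1
  refine ⟨hker ▸ h8.1, himage, fun v w hv hw e => ?_⟩
  obtain ⟨w', rfl⟩ := himage w hw
  have h1 := h.q_add v (w' + t w')
  rw [e, hperp v w' hv, h.two', add_zero, h.q_eq] at h1
  rw [← add_zero v, ← h.two (w' + t w'), ← add_assoc, h1, zero_add]

/-- An isometry commuting with an involutory one has order at most two. -/
theorem apply_apply_of_commute {c : V →+ V} (hc : ∀ v, q (c v) = q v)
    (hct : ∀ v, c (t v) = t (c v)) (v : V) : c (c v) = v := by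
  obtain ⟨-, himage, hinj⟩ := h.isometry_fixed hq ht hne
  have hW : ∀ w, t w = w → c w = w := fun w hw =>
    hinj _ _ (by rw [← hct, hw]) hw (hc w)
  have h1 : t (c v + v) = c v + v := by
    have h2 := hW (v + t v) (by rw [map_add, ht, add_comm])
    rw [map_add, hct] at h2
    calc t (c v + v) = c v + t (c v) + (c v + t v) := by
          rw [map_add, show c v + t (c v) + (c v + t v) = t (c v) + t v + (c v + c v) by abel, h.two,
            add_zero]
      _ = v + t v + (c v + t v) := by rw [h2]
      _ = c v + v := by rw [show v + t v + (c v + t v) = c v + v + (t v + t v) by abel, h.two,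
            add_zero]
  have h3 := hW _ h1
  rw [map_add, add_comm (c v) v] at h3
  exact add_right_cancel h3

end Isometry

/-- No map twisted by an involution of `Z` squares to the identity or to an involutory isometry. -/
theorem false_of_twisted {g : V →+ V} {s : Z →+ Z} (hs : ∀ z, s (s z) = z) (hsne : ∃ z, s z ≠ z)
    (hg : ∀ v, q (g v) = s (q v)) (hg4 : ∀ v, g (g (g (g v))) = v) : False := by
  classical
  haveI := h.finite
  haveI := h.finite'
  let H : AddSubgroup Z := (AddMonoidHom.id Z + s).ker
  have hsfix : ∀ z, z ∈ H ↔ s z = z := fun z => by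
    show z + s z = 0 ↔ _
    constructor
    · intro e; rw [← add_zero (s z), ← h.two' z, ← add_assoc, add_comm (s z) z, e, zero_add]
    · intro e; rw [e, h.two']
  have hHtop : H ≠ ⊤ := fun e => by
    obtain ⟨z, hz⟩ := hsne
    exact hz ((hsfix z).mp (e ▸ AddSubgroup.mem_top z))
  let N : V →+ V := AddMonoidHom.id V + g
  have hNfix : ∀ v, v ∈ N.ker ↔ g v = v := fun v => by
    show v + g v = 0 ↔ _
    constructor
    · intro e; rw [← add_zero (g v), ← h.two v, ← add_assoc, add_comm (g v) v, e, zero_add]
    · intro e; rw [e, h.two]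
  have hprod := card_ker_mul_card_range N
  rw [h.card_V] at hprod
  by_cases hg2 : ∀ v, g (g v) = v
  · refine h.false_of_map_le (W := N.ker) ?_ hHtop fun w hw => (hsfix _).mpr ?_
    · have hle : N.range ≤ N.ker := by
        rintro _ ⟨v, rfl⟩
        rw [hNfix]
        show g (v + g v) = v + g v
        rw [map_add, hg2, add_comm]
      have := AddSubgroup.card_le_of_le hle
      nlinarith
    · rw [← hg, (hNfix w).mp hw]
  push Not at hg2
  let t : V →+ V := g.comp g
  have htq : ∀ v, q (t v) = q v := fun v => by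
    show q (g (g v)) = q v
    rw [hg, hg, hs]
  obtain ⟨hcard, himage, hinj⟩ := h.isometry_fixed (t := t) htq hg4 hg2
  -- the kernel of `g + 1` lies in the fixed space of `t`
  have hkt : ∀ v, v ∈ N.ker → t v = v := fun v hv => by
    show g (g v) = v
    rw [(hNfix v).mp hv, (hNfix v).mp hv]
  let Wt : AddSubgroup V := (AddMonoidHom.id V + t).ker
  have hWt : ∀ v, v ∈ Wt ↔ t v = v := fun v => by
    show v + t v = 0 ↔ _
    constructor
    · intro e; rw [← add_zero (t v), ← h.two v, ← add_assoc, add_comm (t v) v, e, zero_add]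
    · intro e; rw [e, h.two]
  have hWtcard : Nat.card Wt = 8 := by
    rw [← hcard]; exact Nat.card_congr (Equiv.subtypeEquivRight hWt)
  have hNN : ∀ v, N (N v) = v + t v := fun v => by
    show v + g v + g (v + g v) = v + g (g v)
    rw [map_add, show v + g v + (g v + g (g v)) = v + g (g v) + (g v + g v) by abel, h.two, add_zero]
  -- restrict `g + 1` to its image
  let N' : N.range →+ V := N.comp N.range.subtype
  have h1 := card_ker_mul_card_range N'
  have hr : N'.range = Wt := by
    ext v
    constructor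
    · rintro ⟨⟨_, w, rfl⟩, rfl⟩
      show N (N w) ∈ Wt
      rw [hNN, hWt, map_add]
      show t w + g (g (g (g w))) = w + t w
      rw [hg4, add_comm]
    · intro hv
      obtain ⟨w, rfl⟩ := himage v ((hWt v).mp hv)
      exact ⟨⟨N w, w, rfl⟩, hNN w⟩
  have hk : Nat.card N'.ker = Nat.card N.ker := by
    refine Nat.card_congr
      { toFun := fun w => ⟨w.1.1, w.2⟩
        invFun := fun w => ⟨⟨w.1, ?_⟩, w.2⟩
        left_inv := fun w => rfl
        right_inv := fun w => rfl }
    obtain ⟨w', hw'⟩ := himage w.1 (hkt _ w.2)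
    exact ⟨N w', (hNN w').trans hw'⟩
  rw [hr, hWtcard, hk] at h1
  rw [← h1] at hprod
  have h2 : Nat.card N.ker * Nat.card N.ker * 8 = 64 := by rw [← hprod]; ring
  have : Nat.card N.ker ≤ 3 := by nlinarith
  interval_cases Nat.card N.ker <;> omega

end UForm

end Cfsg.Agent.H51.Asch
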