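import Cfsg.Agent.H51.Asch.UnitaryEight

/-!
The kill of a line with `|E| = 8`, `|Q| = 512` without translations: the two-point part of the Sylow
two-subgroup acts on `Q / E` as a group of order at most two, so the elements normalising it
normalise `Q ⟨u⟩`, and one of them induces an involution on `E`.
-/

set_option autoImplicit false
set_option linter.style.haveILetI false

namespace Cfsg.Agent.H51.Asch

open Subgroup MulAction
open Cfsg.Agent.H14.Asch
open Cfsg.Agent.H73.Asch (RankTwoBad Line2 RankOnePairs)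
open Cfsg.Agent.H39 (mul_self_of_orderOf_eq_two)
open scoped commutatorElement Pointwise IsMulCommutative

universe u v

variable {G : Type u} [Group G] [Finite G] {Ω : Type v} [MulAction G Ω] [Finite Ω] {D : Set G}
  {u : G} {x y : Ω} {E Q P A : Subgroup G} [IsMulCommutative E] {a : G}

namespace Setup

variable (c : Setup D u x y E Q P A a) (h : Crit G Ω D)
include c h

theorem central_R {e g : G} (he : e ∈ E) (hg : g ∈ Q ⊔ zpowers u) : Commute e g := by
  rcases c.mem_R.mp hg with h1 | h1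
  · exact c.line.central e he g h1
  · rw [show g = g * u * u by rw [mul_assoc, c.sq_u, mul_one]]
    exact (c.line.central e he _ h1).mul_right (line2_commute c.line (c.line.E_le he))

theorem kappa_mem {g k : G} (hg : g ∈ Q ⊔ zpowers u) (hk : k ∈ Q ⊔ zpowers u) :
    g⁻¹ * k * g * k⁻¹ ∈ E := by
  obtain ⟨g', hg', hgg⟩ : ∃ g' ∈ Q, g = g' ∨ g = g' * u := by
    rcases c.mem_R.mp hg with h1 | h1
    · exact ⟨g, h1, Or.inl rfl⟩
    · exact ⟨g * u, h1, Or.inr (by rw [mul_assoc, c.sq_u, mul_one])⟩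
  obtain ⟨k', hk', hkk⟩ : ∃ k' ∈ Q, k = k' ∨ k = k' * u := by
    rcases c.mem_R.mp hk with h1 | h1
    · exact ⟨k, h1, Or.inl rfl⟩
    · exact ⟨k * u, h1, Or.inr (by rw [mul_assoc, c.sq_u, mul_one])⟩
  have hgu : Commute g' u := line2_commute c.line hg'
  have hku : Commute k' u := line2_commute c.line hk'
  have e1 : g⁻¹ * k * g * k⁻¹ = g'⁻¹ * k * g' * k⁻¹ := by
    rcases hgg with rfl | rfl
    · rfl
    · have hk2 : Commute k u := by
        rcases hkk with rfl | rfl
        · exact hku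
        · exact hku.mul_left (Commute.refl u)
      calc (g' * u)⁻¹ * k * (g' * u) * k⁻¹ = u⁻¹ * (g'⁻¹ * k * g') * (u * k⁻¹) := by group
        _ = u⁻¹ * ((g'⁻¹ * k * g') * u) * k⁻¹ := by group
        _ = u⁻¹ * (u * (g'⁻¹ * k * g')) * k⁻¹ := by rw [((hgu.inv_left.mul_left hk2).mul_left hgu).eq]
        _ = _ := by group
  have e2 : g'⁻¹ * k * g' * k⁻¹ = g'⁻¹ * k' * g' * k'⁻¹ := by
    rcases hkk with rfl | rfl
    · rfl
    · calc g'⁻¹ * (k' * u) * g' * (k' * u)⁻¹ = g'⁻¹ * k' * (u * g') * u⁻¹ * k'⁻¹ := by group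
        _ = g'⁻¹ * k' * (g' * u) * u⁻¹ * k'⁻¹ := by rw [hgu.eq]
        _ = _ := by group
  rw [e1, e2]
  have := c.line.comm_mem g'⁻¹ (inv_mem hg') k' hk'
  rwa [commutatorElement_def, inv_inv] at this

/-- The model `R / Z` of `R = Q ⟨u⟩`, `Z = E ⟨u⟩`. -/
theorem exists_model : ∃ (V : Type u) (_ : AddCommGroup V) (π : G → V) (q : V → Additive E)
    (β : V → V → Additive E), VModel (Q ⊔ zpowers u) (E ⊔ zpowers u) E π q β := by
  classical
  set R := Q ⊔ zpowers u with hR
  set Z := E ⊔ zpowers u with hZ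
  have hEZ : E ≤ Z := le_sup_left
  have hZR : Z ≤ R := sup_le_sup_right c.line.E_le _
  have hcen : ∀ z ∈ Z, ∀ g ∈ R, Commute z g := by
    intro z hz g hg
    have hgu : Commute g u := c.commute g
      ((sup_le c.Q_le (zpowers_le.mpr c.u_mem) : R ≤ P) hg)
    rcases c.mem_Z.mp hz with h1 | h1
    · exact c.central_R h h1 hg
    · rw [show z = z * u * u by rw [mul_assoc, c.sq_u, mul_one]]
      exact (c.central_R h h1 hg).mul_left hgu.symm
  haveI hN : (Z.subgroupOf R).Normal := ⟨fun z hz g => by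
    have : g * z * g⁻¹ = z := Subtype.ext (by
      push_cast
      rw [← (hcen z (mem_subgroupOf.mp hz) g g.2).eq, mul_inv_cancel_right])
    rwa [this]⟩
  letI : CommGroup (R ⧸ Z.subgroupOf R) :=
    { (inferInstance : Group (R ⧸ Z.subgroupOf R)) with
      mul_comm := fun s t => by
        induction s using QuotientGroup.induction_on with
        | _ s =>
          induction t using QuotientGroup.induction_on with
          | _ t =>
            rw [← QuotientGroup.mk_mul, ← QuotientGroup.mk_mul, QuotientGroup.eq, mem_subgroupOf]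
            push_cast
            refine hEZ ?_
            have := c.kappa_mem h t.2 (inv_mem s.2)
            rwa [inv_inv, ← mul_assoc, mul_inv_rev] at * }
  let π : G → Additive (R ⧸ Z.subgroupOf R) := fun g =>
    if hg : g ∈ R then Additive.ofMul (QuotientGroup.mk ⟨g, hg⟩) else 0
  have hπ : ∀ g (hg : g ∈ R), π g = Additive.ofMul (QuotientGroup.mk ⟨g, hg⟩) := fun g hg =>
    dif_pos hg
  have hsurj : ∀ v, ∃ g ∈ R, π g = v := fun v => by
    obtain ⟨⟨g, hg⟩, hgv⟩ := QuotientGroup.mk_surjective (Additive.toMul v)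
    exact ⟨g, hg, by rw [hπ g hg, hgv, ofMul_toMul]⟩
  have hmul : ∀ g ∈ R, ∀ k ∈ R, π (g * k) = π g + π k := fun g hg k hk => by
    rw [hπ _ (mul_mem hg hk), hπ g hg, hπ k hk, ← ofMul_mul, ← QuotientGroup.mk_mul]
    rfl
  have heq : ∀ g ∈ R, (π g = 0 ↔ g ∈ Z) := fun g hg => by
    rw [hπ g hg]
    show (QuotientGroup.mk ⟨g, hg⟩ : R ⧸ Z.subgroupOf R) = 1 ↔ _
    rw [QuotientGroup.eq_one_iff, mem_subgroupOf]
  choose rep hrep hrepπ using hsurj
  have hquot : ∀ g ∈ R, (rep (π g))⁻¹ * g ∈ Z := fun g hg => by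
    refine (heq _ (mul_mem (inv_mem (hrep _)) hg)).mp ?_
    have h1 := hmul _ (inv_mem (hrep (π g))) _ (hrep (π g))
    rw [inv_mul_cancel, (heq 1 R.one_mem).mpr Z.one_mem, hrepπ] at h1
    rw [hmul _ (inv_mem (hrep _)) _ hg]
    exact h1.symm
  let q : Additive (R ⧸ Z.subgroupOf R) → Additive E := fun v =>
    Additive.ofMul ⟨rep v * rep v, c.sq_mem h (hrep v)⟩
  have hzz : ∀ z ∈ Z, z * z = 1 := fun z hz => by
    rcases c.mem_Z.mp hz with h1 | h1
    · exact line2_mul_self c.line h h1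
    · rw [show z = z * u * u by rw [mul_assoc, c.sq_u, mul_one],
        Commute.mul_mul_mul_comm (line2_commute c.line (c.line.E_le h1)).symm, line2_mul_self c.line h h1,
        c.sq_u, mul_one]
  have hq : ∀ g ∈ R, ((Additive.toMul (q (π g)) : E) : G) = g * g := fun g hg => by
    show rep (π g) * rep (π g) = g * g
    obtain ⟨z, hz, hgz⟩ : ∃ z ∈ Z, g = rep (π g) * z :=
      ⟨_, hquot g hg, by rw [mul_inv_cancel_left]⟩
    rw [congrArg (fun t => t * t) hgz,
      (hcen z hz _ (hrep (π g))).mul_mul_mul_comm, hzz z hz, mul_one]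
  let β : Additive (R ⧸ Z.subgroupOf R) → Additive (R ⧸ Z.subgroupOf R) → Additive E :=
    fun v w => q (v + w) - (q v + q w)
  have hE2 : ∀ z : Additive E, z + z = 0 := fun z => by
    apply Additive.toMul.injective
    exact Subtype.ext (line2_mul_self c.line h (Additive.toMul z).2)
  have hβ : ∀ g ∈ R, ∀ k ∈ R,
      ((Additive.toMul (β (π g) (π k)) : E) : G) = g⁻¹ * k * g * k⁻¹ := by
    intro g hg k hk
    have hkap := c.kappa_mem h hg hk
    have hkey : Additive.ofMul (⟨g⁻¹ * k * g * k⁻¹, hkap⟩ : E) + (q (π g) + q (π k)) =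
        q (π g + π k) := by
      apply Additive.toMul.injective
      refine Subtype.ext ?_
      rw [toMul_add, toMul_add, toMul_ofMul, Subgroup.coe_mul, Subgroup.coe_mul, hq g hg, hq k hk,
        ← hmul g hg k hk, hq _ (mul_mem hg hk)]
      show g⁻¹ * k * g * k⁻¹ * (g * g * (k * k)) = g * k * (g * k)
      rw [← mul_assoc, (c.central_R h hkap (mul_mem hg hg)).eq]
      group
    show ((Additive.toMul (q (π g + π k) - (q (π g) + q (π k))) : E) : G) = _
    rw [← hkey, add_sub_cancel_right, toMul_ofMul]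
  have hcard : Nat.card (Additive (R ⧸ Z.subgroupOf R)) = 64 := by
    let ψ : Q →* R ⧸ Z.subgroupOf R :=
      (QuotientGroup.mk' (Z.subgroupOf R)).comp (Subgroup.inclusion le_sup_left)
    have hψ : Function.Surjective ψ := by
      intro t
      obtain ⟨⟨g, hg⟩, rfl⟩ := QuotientGroup.mk_surjective t
      rcases c.mem_R.mp hg with h1 | h1
      · exact ⟨⟨g, h1⟩, rfl⟩
      · refine ⟨⟨g * u, h1⟩, QuotientGroup.eq.mpr (mem_subgroupOf.mpr ?_)⟩
        show (g * u)⁻¹ * g ∈ Z
        rw [show (g * u)⁻¹ * g = u⁻¹ by group]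
        exact inv_mem (mem_sup_right (mem_zpowers u))
    have hker : ψ.ker = E.subgroupOf Q := by
      ext g
      rw [MonoidHom.mem_ker, mem_subgroupOf]
      show (QuotientGroup.mk (Subgroup.inclusion le_sup_left g) : R ⧸ Z.subgroupOf R) = 1 ↔ _
      rw [QuotientGroup.eq_one_iff, mem_subgroupOf, Subgroup.coe_inclusion]
      exact ⟨fun hz => c.inf_Z h (mem_inf.mpr ⟨g.2, hz⟩), fun he => hEZ he⟩
    have h1 := Subgroup.card_eq_card_quotient_mul_card_subgroup ψ.ker
    rw [Nat.card_congr (QuotientGroup.quotientKerEquivOfSurjective ψ hψ).toEquiv, hker,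
      Nat.card_congr (subgroupOfEquivOfLe c.line.E_le).toEquiv, c.card_E, c.card_Q] at h1
    show Nat.card (R ⧸ Z.subgroupOf R) = 64
    omega
  have hqeq : ∀ v, q v = 0 ↔ v = 0 := by
    intro v
    obtain ⟨g, hg, rfl⟩ : ∃ g ∈ R, π g = v := ⟨rep v, hrep v, hrepπ v⟩
    constructor
    · intro e
      have hgg : g * g = 1 := by
        rw [← hq g hg, e]; rfl
      refine (heq g hg).mpr ?_
      rcases c.mem_R.mp hg with h1 | h1
      · by_cases hg1 : g = 1
        · rw [hg1]; exact one_mem _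
        · exact hEZ (c.line.omega g h1 (orderOf_eq_prime (by rw [pow_two]; exact hgg) hg1))
      · have hguu : g * u * (g * u) = 1 := by
          rw [Commute.mul_mul_mul_comm (c.commute g
            ((sup_le c.Q_le (zpowers_le.mpr c.u_mem) : R ≤ P) hg)).symm, hgg, c.sq_u, mul_one]
        refine c.mem_Z.mpr (Or.inr ?_)
        by_cases hg1 : g * u = 1
        · rw [hg1]; exact one_mem _
        · exact c.line.omega _ h1 (orderOf_eq_prime (by rw [pow_two]; exact hguu) hg1)
    · intro e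
      apply Additive.toMul.injective
      refine Subtype.ext ?_
      rw [hq g hg, hzz g ((heq g hg).mp e)]
      rfl
  -- the fibres are permuted by `A`
  have hfib : ∀ z z' : Additive E, z ≠ 0 → z' ≠ 0 →
      Nat.card {v // q v = z} ≤ Nat.card {v // q v = z'} := by
    intro z z' hz hz'
    haveI : Finite (Additive (R ⧸ Z.subgroupOf R)) :=
      Nat.finite_of_card_ne_zero (by rw [hcard]; norm_num)
    obtain ⟨b, hb, hbz⟩ := c.trans _ (Additive.toMul z).2 _ (Additive.toMul z').2
      (fun e => hz (by apply Additive.toMul.injective; exact Subtype.ext e))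
      (fun e => hz' (by apply Additive.toMul.injective; exact Subtype.ext e))
    obtain ⟨-, -, hbR, hbZ⟩ := c.normalizer_of_A h hb
    have hmem : ∀ v, b * rep v * b⁻¹ ∈ R := fun v => (mem_normalizer_iff.mp hbR _).mp (hrep v)
    refine Nat.card_le_card_of_injective (fun v => ⟨π (b * rep v.1 * b⁻¹), ?_⟩) fun v w e => ?_
    · apply Additive.toMul.injective
      refine Subtype.ext ?_
      have hv : rep v.1 * rep v.1 = ((Additive.toMul z : E) : G) :=
        congrArg (fun t => ((Additive.toMul t : E) : G)) v.2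
      rw [hq _ (hmem _), ← hbz, ← hv]
      show b * rep v.1 * b⁻¹ * (b * rep v.1 * b⁻¹) = b * (rep v.1 * rep v.1) * b⁻¹
      group
    · have e' : π (b * rep v.1 * b⁻¹) = π (b * rep w.1 * b⁻¹) := congrArg Subtype.val e
      have h2 : (rep v.1)⁻¹ * rep w.1 ∈ Z := by
        refine (mem_normalizer_iff.mp hbZ _).mpr ?_
        rw [show b * ((rep v.1)⁻¹ * rep w.1) * b⁻¹ = (b * rep v.1 * b⁻¹)⁻¹ * (b * rep w.1 * b⁻¹) by
          group, ← heq _ (mul_mem (inv_mem (hmem _)) (hmem _)),
          hmul _ (inv_mem (hmem _)) _ (hmem _), ← e', ← hmul _ (inv_mem (hmem _)) _ (hmem _),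
          inv_mul_cancel]
        exact (heq 1 R.one_mem).mpr Z.one_mem
      refine Subtype.ext ?_
      have h3 := hmul _ (hrep v.1) _ (hZR h2)
      rw [mul_inv_cancel_left, (heq _ (hZR h2)).mpr h2, add_zero, hrepπ, hrepπ] at h3
      exact h3.symm
  refine ⟨Additive (R ⧸ Z.subgroupOf R), inferInstance, π, q, β,
    { form :=
        { two := fun v => ?_
          two' := hE2
          q_add := fun v w => ?_
          β_add := fun v v' w => ?_
          q_eq := hqeq
          card_V := hcard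
          card_Z := ?_
          fibre := fun z z' hz hz' => le_antisymm (hfib z z' hz hz') (hfib z' z hz' hz) }
      Z_le := hZR, E_le := hEZ, π_mul := hmul, π_eq := heq
      π_surj := fun v => ⟨rep v, hrep v, hrepπ v⟩, q_π := hq, β_π := hβ }⟩
  · obtain ⟨g, hg, rfl⟩ : ∃ g ∈ R, π g = v := ⟨rep v, hrep v, hrepπ v⟩
    rw [← hmul g hg g hg, heq _ (mul_mem hg hg)]
    exact hEZ (c.sq_mem h hg)
  · show q (v + w) = q v + q w + (q (v + w) - (q v + q w))
    rw [add_sub_cancel]
  · obtain ⟨g, hg, rfl⟩ : ∃ g ∈ R, π g = v := ⟨rep v, hrep v, hrepπ v⟩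
    obtain ⟨g', hg', rfl⟩ : ∃ g ∈ R, π g = v' := ⟨rep v', hrep v', hrepπ v'⟩
    obtain ⟨k, hk, rfl⟩ : ∃ g ∈ R, π g = w := ⟨rep w, hrep w, hrepπ w⟩
    rw [← hmul g hg g' hg']
    apply Additive.toMul.injective
    refine Subtype.ext ?_
    rw [toMul_add, Subgroup.coe_mul, hβ _ (mul_mem hg hg') k hk, hβ g hg k hk, hβ g' hg' k hk]
    have hkap := c.kappa_mem h hg hk
    calc (g * g')⁻¹ * k * (g * g') * k⁻¹ = g'⁻¹ * ((g⁻¹ * k * g * k⁻¹) * (k * g' * k⁻¹)) := by group
      _ = g'⁻¹ * ((k * g' * k⁻¹) * (g⁻¹ * k * g * k⁻¹)) := by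
          rw [(c.central_R h hkap (mul_mem (mul_mem hk hg') (inv_mem hk))).eq]
      _ = (g'⁻¹ * k * g' * k⁻¹) * (g⁻¹ * k * g * k⁻¹) := by group
      _ = _ := ((c.central_R h hkap (mem_sup_left (c.line.E_le (c.kappa_mem h hg' hk)))).eq).symm
  · exact (Nat.card_congr Additive.toMul).trans c.card_E

end Setup

end Cfsg.Agent.H51.Asch
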