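import Cfsg.Agent.H14.Asch.ShapesBase

/-!
Shape three with scalars: a line `Q` of unitary type. Conjugation by a scalar element takes `q` to
an element commuting with `q`; so the centraliser in `Q` of an element outside `E` is abelian of
order `|E| ^ 2`, `Q` has order `|E| ^ 3`, and the elements of the torus of scalar type commute with
every automorphism of `Q` fixing `E`.
-/

set_option autoImplicit false
set_option linter.style.haveILetI false
set_option linter.unusedSectionVars false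

namespace Cfsg.Agent.H51.AschU

open Subgroup
open Cfsg.Agent.H14.Asch (ShapeData commute_conj)
open scoped commutatorElement

universe u

variable {G : Type u} [Group G]

/-- Conjugation by a power of `z` takes each element of `Q` to one commuting with it. -/
def Scalar (Q : Subgroup G) (z : G) : Prop :=
  ∀ i : ℕ, ∀ q ∈ Q, Commute (z ^ i * q * (z ^ i)⁻¹) q

/-- The scalar elements of `A` are transitive on the non-trivial elements of `E`. -/
def Scalars (A E Q : Subgroup G) : Prop :=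
  ∀ e ∈ E, e ≠ 1 → ∀ f ∈ E, f ≠ 1 → ∃ z ∈ A, Scalar Q z ∧ z * e * z⁻¹ = f

/-- A line of shape three with scalars. -/
structure UData (M Q E A : Subgroup G) (u a : G) : Prop where
  shape : ShapeData M Q E A u
  mem : a ∈ A
  centE : ∀ e ∈ E, Commute a e
  free : ∀ g ∈ Q, Commute a g → g ∈ E
  scalars : Scalars A E Q

theorem Scalar.npow {Q : Subgroup G} {z : G} (hz : Scalar Q z) (k : ℕ) : Scalar Q (z ^ k) :=
  fun i q hq => by rw [← pow_mul]; exact hz _ q hq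

theorem Scalar.commute {Q : Subgroup G} {z q : G} (hz : Scalar Q z) (hq : q ∈ Q) :
    Commute (z * q * z⁻¹) q := by simpa using hz 1 q hq

variable [Finite G]

theorem Scalar.exists_sqrt {A Q : Subgroup G} (hodd : Odd (Nat.card A)) {z : G} (hzA : z ∈ A)
    (hz : Scalar Q z) : ∃ w ∈ A, Scalar Q w ∧ w * w = z := by
  obtain ⟨k, hk⟩ := hodd.of_dvd_nat (Subgroup.orderOf_dvd_natCard A hzA)
  refine ⟨z ^ (k + 1), pow_mem hzA _, hz.npow _, ?_⟩
  rw [← pow_add, show k + 1 + (k + 1) = orderOf z + 1 by omega, pow_succ, pow_orderOf_eq_one,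
    one_mul]

/-- In the quotient by a subgroup classes are told apart by their representatives. -/
theorem out_inv_mul_mem {Q E : Subgroup G} (x : Q) :
    ((Quotient.out (QuotientGroup.mk x : Q ⧸ E.subgroupOf Q) : Q) : G)⁻¹ * x ∈ E :=
  mem_subgroupOf.mp (QuotientGroup.eq.mp (Quotient.out_eq _))

namespace UData

variable {M Q E A : Subgroup G} {u a : G} (h : UData M Q E A u a)
include h

theorem conj_mem_Q {b q : G} (hb : b ∈ A) (hq : q ∈ Q) : b * q * b⁻¹ ∈ Q :=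
  (mem_normalizer_iff.mp (h.shape.normQ hb) q).mp hq

theorem conj_mem_E {b e : G} (hb : b ∈ A) (he : e ∈ E) : b * e * b⁻¹ ∈ E :=
  (mem_normalizer_iff.mp (h.shape.normE hb) e).mp he

theorem comm_right {p r s : G} (hp : p ∈ Q) (hr : r ∈ Q) (hs : s ∈ Q) :
    ⁅p, r * s⁆ = ⁅p, r⁆ * ⁅p, s⁆ :=
  h.shape.comm_mul_right (h.shape.le hr) (h.shape.comm_mem p hp s hs)

theorem comm_left {p r s : G} (hp : p ∈ Q) (hr : r ∈ Q) (hs : s ∈ Q) :
    ⁅p * r, s⁆ = ⁅r, s⁆ * ⁅p, s⁆ :=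
  h.shape.comm_mul_left (h.shape.le hp) (h.shape.comm_mem r hr s hs)

theorem comm_swap {p r : G} (hp : p ∈ Q) (hr : r ∈ Q) : ⁅r, p⁆ = ⁅p, r⁆ :=
  h.shape.comm_symm (h.shape.comm_mem p hp r hr)

/-- An element of `Q` commutes with a conjugate of itself only inside `E`. -/
theorem not_commute_twist {p : G} (hp : p ∈ Q) (hpE : p ∉ E) : ¬ Commute p (a * p * a⁻¹) :=
  fun hc => hpE (h.shape.mem_E_of_commute_conj h.mem h.centE h.free hp hc)

theorem mem_E_of_central {p : G} (hp : p ∈ Q) (hc : ∀ r ∈ Q, Commute p r) : p ∈ E := by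
  by_contra hpE
  exact h.not_commute_twist hp hpE (hc _ (h.conj_mem_Q h.mem hp))

/-- Scalars are self-adjoint. -/
theorem comm_shift {z p r : G} (hzA : z ∈ A) (hz : Scalar Q z) (hp : p ∈ Q) (hr : r ∈ Q) :
    ⁅z * p * z⁻¹, r⁆ = ⁅p, z * r * z⁻¹⁆ := by
  have hp' := h.conj_mem_Q hzA hp
  have hr' := h.conj_mem_Q hzA hr
  have h0 : ⁅z * p * z⁻¹ * (z * r * z⁻¹), p * r⁆ = 1 := by
    rw [commutatorElement_eq_one_iff_commute,
      show z * p * z⁻¹ * (z * r * z⁻¹) = z * (p * r) * z⁻¹ by group]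
    exact hz.commute (Q.mul_mem hp hr)
  rw [h.comm_left hp' hr' (Q.mul_mem hp hr), h.comm_right hr' hp hr, h.comm_right hp' hp hr,
    commutatorElement_eq_one_iff_commute.mpr (hz.commute hp),
    commutatorElement_eq_one_iff_commute.mpr (hz.commute hr), mul_one, one_mul,
    h.comm_swap hp hr'] at h0
  rw [← h.shape.inv_E (h.shape.comm_mem p hp _ hr'), eq_inv_of_mul_eq_one_right h0]

theorem comm_scalar {w z p r : G} (hw : w ∈ A) (hws : Scalar Q w) (hwz : w * w = z)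
    (hp : p ∈ Q) (hr : r ∈ Q) : ⁅z * p * z⁻¹, r⁆ = w * ⁅p, r⁆ * w⁻¹ := by
  rw [← hwz, show w * w * p * (w * w)⁻¹ = w * (w * p * w⁻¹) * w⁻¹ by group,
    h.comm_shift hw hws (h.conj_mem_Q hw hp) hr, ← h.shape.conj_comm]

theorem commute_scalar {z p x : G} (hzA : z ∈ A) (hz : Scalar Q z) (hp : p ∈ Q) (hx : x ∈ Q)
    (hc : Commute p x) : Commute (z * p * z⁻¹) x := by
  obtain ⟨w, hw, hws, hwz⟩ := hz.exists_sqrt h.shape.odd hzA
  rw [← commutatorElement_eq_one_iff_commute, h.comm_scalar hw hws hwz hp hx,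
    commutatorElement_eq_one_iff_commute.mpr hc, mul_one, mul_inv_cancel]

theorem mem_E_of_sq_eq {p r : G} (hp : p ∈ Q) (hr : r ∈ Q) (hc : Commute p r)
    (he : p * p = r * r) : p⁻¹ * r ∈ E := by
  refine h.shape.omega _ (Q.mul_mem (inv_mem hp) hr) ?_
  rw [hc.inv_left.symm.mul_mul_mul_comm, ← he]
  group

/-- What commutes with `p` outside `E` is a scalar multiple of it modulo `E`. -/
theorem exists_scalar_of_commute {p x : G} (hp : p ∈ Q) (hpE : p ∉ E) (hx : x ∈ Q)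
    (hxE : x ∉ E) (hc : Commute p x) :
    ∃ z ∈ A, Scalar Q z ∧ (z * p * z⁻¹)⁻¹ * x ∈ E := by
  obtain ⟨z, hzA, hz, hzp⟩ := h.scalars _ (h.shape.sq_mem p hp)
    (fun e => hpE (h.shape.omega p hp e)) _ (h.shape.sq_mem x hx)
    (fun e => hxE (h.shape.omega x hx e))
  exact ⟨z, hzA, hz, h.mem_E_of_sq_eq (h.conj_mem_Q hzA hp) hx
    (h.commute_scalar hzA hz hp hx hc) (by rw [← hzp]; group)⟩

/-- The centraliser of an element outside `E` is abelian. -/
theorem commute_line {p x x' : G} (hp : p ∈ Q) (hpE : p ∉ E) (hx : x ∈ Q) (hc : Commute p x)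
    (hx' : x' ∈ Q) (hc' : Commute p x') : Commute x x' := by
  by_cases hxE : x ∈ E
  · exact h.shape.central x hxE x' (h.shape.le hx')
  obtain ⟨z, hzA, hz, hzx⟩ := h.exists_scalar_of_commute hp hpE hx hxE hc
  have h1 := (h.commute_scalar hzA hz hp hx' hc').mul_left
    (h.shape.central _ hzx x' (h.shape.le hx'))
  rwa [mul_inv_cancel_left] at h1

/-- Every element of `E` is a commutator with `p` outside `E`, the other element in a given
invariant subgroup. -/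
theorem exists_comm_mem {S : Subgroup G} (hAS : A ≤ normalizer (S : Set G)) {p : G} (hp : p ∈ Q)
    (hpS : p ∈ S) (hpE : p ∉ E) {e : G} (he : e ∈ E) : ∃ r ∈ Q, r ∈ S ∧ ⁅p, r⁆ = e := by
  by_cases he1 : e = 1
  · exact ⟨p, hp, hpS, by rw [he1, commutatorElement_self]⟩
  have h0 : ⁅p, a * p * a⁻¹⁆ ≠ 1 := fun e0 =>
    h.not_commute_twist hp hpE (commutatorElement_eq_one_iff_commute.mp e0)
  have haQ := h.conj_mem_Q h.mem hp
  obtain ⟨w, hwA, hw, hwe⟩ := h.scalars _ (h.shape.comm_mem p hp _ haQ) h0 e he he1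
  have hz : w * w ∈ A := A.mul_mem hwA hwA
  refine ⟨_, h.conj_mem_Q hz haQ,
    (mem_normalizer_iff.mp (hAS hz) _).mp ((mem_normalizer_iff.mp (hAS h.mem) _).mp hpS), ?_⟩
  rw [← h.comm_shift hz (by rw [← pow_two]; exact hw.npow 2) hp haQ,
    h.comm_scalar hwA hw rfl hp haQ, hwe]

theorem exists_comm {p : G} (hp : p ∈ Q) (hpE : p ∉ E) {e : G} (he : e ∈ E) :
    ∃ r ∈ Q, ⁅p, r⁆ = e :=
  let ⟨r, hr, _, hre⟩ := h.exists_comm_mem h.shape.normQ hp hp hpE he
  ⟨r, hr, hre⟩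

/-- An invariant subgroup of `Q` above `E` is `E` or `Q`. -/
theorem le_of_mem {S : Subgroup G} (hAS : A ≤ normalizer (S : Set G)) (hES : E ≤ S) {p : G}
    (hp : p ∈ Q) (hpS : p ∈ S) (hpE : p ∉ E) : Q ≤ S := by
  intro x hx
  obtain ⟨r, hr, hrS, hre⟩ := h.exists_comm_mem hAS hp hpS hpE (h.shape.comm_mem p hp x hx)
  have hc : ⁅p, r⁻¹ * x⁆ = 1 := by
    rw [← commutatorElement_inv, h.comm_swap hp (Q.mul_mem (inv_mem hr) hx),
      h.comm_right hp (inv_mem hr) hx]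
    have h1 := h.comm_right hp (inv_mem hr) hr
    rw [inv_mul_cancel, commutatorElement_one_right, hre] at h1
    rw [h1.symm, inv_one]
  have hy : r⁻¹ * x ∈ S := by
    by_cases hyE : r⁻¹ * x ∈ E
    · exact hES hyE
    obtain ⟨z, hzA, hz, hzy⟩ := h.exists_scalar_of_commute hp hpE (Q.mul_mem (inv_mem hr) hx) hyE
      (commutatorElement_eq_one_iff_commute.mp hc)
    have h1 := S.mul_mem ((mem_normalizer_iff.mp (hAS hzA) p).mp hpS) (hES hzy)
    rwa [mul_inv_cancel_left] at h1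
  have h1 := S.mul_mem hrS hy
  rwa [mul_inv_cancel_left] at h1

theorem card_centralizer_eq {p : G} (hp : p ∈ Q) (hpE : p ∉ E) :
    Nat.card (Q ⊓ centralizer {p} : Subgroup G) = Nat.card E * Nat.card E := by
  classical
  set L := Q ⊓ centralizer ({p} : Set G) with hL
  have hmem : ∀ {x}, x ∈ L ↔ x ∈ Q ∧ Commute p x := fun {x} => by
    rw [hL, mem_inf, mem_centralizer_singleton_iff]
    exact and_congr_right fun _ => ⟨fun e => e.symm, fun e => e.eq.symm⟩
  have hr : ∀ e : E, ∃ x ∈ L, x * x = (e : G) := by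
    intro e
    by_cases he : (e : G) = 1
    · exact ⟨1, L.one_mem, by rw [he, mul_one]⟩
    obtain ⟨z, hzA, hz, hze⟩ := h.scalars _ (h.shape.sq_mem p hp)
      (fun e => hpE (h.shape.omega p hp e)) e e.2 he
    refine ⟨z * p * z⁻¹, hmem.mpr ⟨h.conj_mem_Q hzA hp, (hz.commute hp).symm⟩, ?_⟩
    rw [← hze]; group
  choose r hrL hr2 using hr
  let f : E × E → L := fun q => ⟨r q.1 * q.2, L.mul_mem (hrL q.1)
    (hmem.mpr ⟨h.shape.le_E q.2.2, (h.shape.central _ q.2.2 p (h.shape.le hp)).symm⟩)⟩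
  have hsq : ∀ q : E × E, (f q : G) * (f q : G) = q.1 := fun q => by
    show r q.1 * (q.2 : G) * (r q.1 * (q.2 : G)) = q.1
    rw [(h.shape.central _ q.2.2 _ (h.shape.le (hmem.mp (hrL q.1)).1)).mul_mul_mul_comm, hr2,
      h.shape.sq _ q.2.2, mul_one]
  have hf : Function.Bijective f := by
    constructor
    · intro q q' e
      have e1 : q.1 = q'.1 := Subtype.ext (by rw [← hsq q, e, hsq q'])
      have e2 : r q.1 * (q.2 : G) = r q'.1 * (q'.2 : G) := congrArg Subtype.val e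
      rw [e1] at e2
      exact Prod.ext e1 (Subtype.ext (mul_left_cancel e2))
    · rintro ⟨x, hx⟩
      set e : E := ⟨x * x, h.shape.sq_mem x (hmem.mp hx).1⟩ with he
      have h1 : (r e)⁻¹ * x ∈ E := h.mem_E_of_sq_eq (hmem.mp (hrL e)).1 (hmem.mp hx).1
        (h.commute_line hp hpE (hmem.mp (hrL e)).1 (hmem.mp (hrL e)).2 (hmem.mp hx).1
          (hmem.mp hx).2) (hr2 e)
      exact ⟨(e, ⟨_, h1⟩), Subtype.ext (mul_inv_cancel_left _ _)⟩
  rw [← Nat.card_eq_of_bijective f hf, Nat.card_prod]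

theorem card_Q (hQE : ¬ Q ≤ E) :
    Nat.card Q = Nat.card E * (Nat.card E * Nat.card E) := by
  classical
  obtain ⟨p, hp, hpE⟩ := SetLike.not_le_iff_exists.mp hQE
  rw [← h.card_centralizer_eq hp hpE, ← Nat.card_prod]
  set L := Q ⊓ centralizer ({p} : Set G) with hL
  have hmem : ∀ {x}, x ∈ L ↔ x ∈ Q ∧ Commute p x := fun {x} => by
    rw [hL, mem_inf, mem_centralizer_singleton_iff]
    exact and_congr_right fun _ => ⟨fun e => e.symm, fun e => e.eq.symm⟩
  have hr : ∀ e : E, ∃ x ∈ Q, ⁅p, x⁆ = (e : G) := fun e => h.exists_comm hp hpE e.2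
  choose r hrQ hre using hr
  have hval : ∀ q : E × L, ⁅p, r q.1 * (q.2 : G)⁆ = q.1 := fun q => by
    rw [h.comm_right hp (hrQ q.1) (hmem.mp q.2.2).1,
      commutatorElement_eq_one_iff_commute.mpr (hmem.mp q.2.2).2, mul_one, hre]
  refine (Nat.card_eq_of_bijective
    (fun q : E × L => (⟨r q.1 * q.2, Q.mul_mem (hrQ q.1) (hmem.mp q.2.2).1⟩ : Q)) ⟨?_, ?_⟩).symm
  · intro q q' e
    have e2 : r q.1 * (q.2 : G) = r q'.1 * (q'.2 : G) := congrArg Subtype.val e
    have e1 : q.1 = q'.1 := Subtype.ext (by rw [← hval q, e2, hval q'])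
    rw [e1] at e2
    exact Prod.ext e1 (Subtype.ext (mul_left_cancel e2))
  · rintro ⟨x, hx⟩
    set e : E := ⟨⁅p, x⁆, h.shape.comm_mem p hp x hx⟩ with he
    have h1 : (r e)⁻¹ * x ∈ L := by
      refine hmem.mpr ⟨Q.mul_mem (inv_mem (hrQ e)) hx,
        commutatorElement_eq_one_iff_commute.mp ?_⟩
      have h2 := h.comm_right hp (hrQ e) (Q.mul_mem (inv_mem (hrQ e)) hx)
      rw [mul_inv_cancel_left, hre] at h2
      exact mul_left_cancel (h2.symm.trans (mul_one _).symm)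
    exact ⟨(e, ⟨_, h1⟩), Subtype.ext (mul_inv_cancel_left _ _)⟩

theorem card_abelian_le {B : Subgroup G} (hBQ : B ≤ Q)
    (hc : ∀ x ∈ B, ∀ y ∈ B, Commute x y) : Nat.card B ≤ Nat.card E * Nat.card E := by
  by_cases hBE : B ≤ E
  · exact (card_le_of_le hBE).trans (Nat.le_mul_of_pos_left _ Nat.card_pos)
  obtain ⟨p, hpB, hpE⟩ := SetLike.not_le_iff_exists.mp hBE
  rw [← h.card_centralizer_eq (hBQ hpB) hpE]
  exact card_le_of_le (le_inf hBQ fun x hx =>
    mem_centralizer_singleton_iff.mpr (hc x hx p hpB).eq)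

/-- An automorphism fixing `E` of a central product of `Q` with an abelian group commutes with the
scalars modulo that group. -/
theorem scalar_equivariant {V : Subgroup G}
    (hVQ : ∀ v ∈ V, ∀ q ∈ Q, Commute v q) (hVV : ∀ v ∈ V, ∀ v' ∈ V, Commute v v') {l : G}
    (hlV : l ∈ normalizer (V : Set G))
    (hlQV : l ∈ normalizer ((Q ⊔ V : Subgroup G) : Set G)) (hlE : ∀ e ∈ E, Commute l e)
    {z q p p' : G} (hzA : z ∈ A) (hz : Scalar Q z) (hq : q ∈ Q) (hp : p ∈ Q)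
    (hpl : p⁻¹ * (l * q * l⁻¹) ∈ V) (hp' : p' ∈ Q)
    (hp'l : p'⁻¹ * (l * (z * q * z⁻¹) * l⁻¹) ∈ V) : (z * p * z⁻¹)⁻¹ * p' ∈ E := by
  obtain ⟨w, hw, hws, hwz⟩ := hz.exists_sqrt h.shape.odd hzA
  have hsup : ∀ g ∈ Q ⊔ V, ∃ s ∈ Q, s⁻¹ * g ∈ V := by
    intro g hg
    have hVn : V ≤ normalizer (Q : Set G) := fun v hv =>
      Cfsg.Agent.H39.mem_normalizer_of_conj_mem fun s hs => by
        rw [(hVQ v hv s hs).eq, mul_inv_cancel_right]; exact hs
    obtain ⟨s, hs, v, hv, rfl⟩ := (Coprime.mem_sup_iff hVn).mp hg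
    exact ⟨s, hs, by rwa [inv_mul_cancel_left]⟩
  -- the value of the commutator on conjugates
  have hval : ∀ {q₁ q₂ p₁ p₂ : G}, q₁ ∈ Q → q₂ ∈ Q → p₁ ∈ Q → p₂ ∈ Q →
      p₁⁻¹ * (l * q₁ * l⁻¹) ∈ V → p₂⁻¹ * (l * q₂ * l⁻¹) ∈ V → ⁅p₁, p₂⁆ = ⁅q₁, q₂⁆ := by
    intro q₁ q₂ p₁ p₂ h1 h2 h3 h4 h5 h6
    set v₁ := p₁⁻¹ * (l * q₁ * l⁻¹) with hv₁
    set v₂ := p₂⁻¹ * (l * q₂ * l⁻¹) with hv₂
    have e1 : ⁅p₁ * v₁, p₂ * v₂⁆ = ⁅q₁, q₂⁆ := by
      rw [hv₁, hv₂, mul_inv_cancel_left, mul_inv_cancel_left, ← h.shape.conj_comm,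
        (hlE _ (h.shape.comm_mem q₁ h1 q₂ h2)).eq, mul_inv_cancel_right]
    have c1 : ⁅v₁, p₂ * v₂⁆ = 1 := commutatorElement_eq_one_iff_commute.mpr
      ((hVQ v₁ h5 p₂ h4).mul_right (hVV v₁ h5 v₂ h6))
    have c2 : ⁅p₁, v₂⁆ = 1 := commutatorElement_eq_one_iff_commute.mpr (hVQ v₂ h6 p₁ h3).symm
    rw [h.shape.comm_mul_left (h.shape.le h3) (by rw [c1]; exact E.one_mem), c1, one_mul,
      h.shape.comm_mul_right (h.shape.le h4) (by rw [c2]; exact E.one_mem), c2, mul_one] at e1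
    exact e1
  have hzp := h.conj_mem_Q hzA hp
  refine h.mem_E_of_central (Q.mul_mem (inv_mem hzp) hp') fun r hr => ?_
  obtain ⟨s, hs, hsr⟩ := hsup _ (by
    simpa using (mem_normalizer_iff.mp (inv_mem hlQV) r).mp (mem_sup_left hr) :
      l⁻¹ * r * l ∈ Q ⊔ V)
  have hsl : r⁻¹ * (l * s * l⁻¹) ∈ V := by
    have h1 := V.inv_mem ((mem_normalizer_iff.mp hlV _).mp hsr)
    rwa [show (l * (s⁻¹ * (l⁻¹ * r * l)) * l⁻¹)⁻¹ = r⁻¹ * (l * s * l⁻¹) by group] at h1
  have h1 := hval (h.conj_mem_Q hzA hq) hs hp' hr hp'l hsl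
  rw [h.comm_scalar hw hws hwz hq hs, ← hval hq hs hp hr hpl hsl,
    ← h.comm_scalar hw hws hwz hp hr] at h1
  have h2 := h.comm_left (inv_mem hzp) hzp hr
  rw [inv_mul_cancel, commutatorElement_one_left] at h2
  rw [← commutatorElement_eq_one_iff_commute, h.comm_left (inv_mem hzp) hp' hr, h1]
  exact h2.symm

end UData

end Cfsg.Agent.H51.AschU
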