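import Cfsg.Agent.H51.Asch.Sections

/-!
Weights of a coprime action on a `2`-group: an operator killing the sections of the fixed points
of a commuting `2`-group kills all sections; without a pairing into the trivial module the
commutator subgroup has no fixed point.
-/

set_option autoImplicit false
set_option linter.style.haveILetI false

namespace Cfsg.Agent.H51.Asch

open Subgroup
open scoped commutatorElement Classical

universe u

variable {G : Type u} [Group G] {P : Subgroup G}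

theorem KillsAll.mono {R R' : Subgroup G} {l : List P} (h : KillsAll R l) (hle : R' ≤ R) :
    KillsAll R' l := fun H K hH => h H K (hH.trans hle)

/-- The next term of the series of `S` descending under `R` with elementary central layers. -/
def nxt (S R : Subgroup G) : Subgroup G := ⁅S, R⁆ ⊔ closure ((fun s => s * s) '' (S : Set G))

theorem comm_mem_nxt {S R : Subgroup G} {s r : G} (hs : s ∈ S) (hr : r ∈ R) :
    ⁅s, r⁆ ∈ nxt S R := mem_sup_left (commutator_mem_commutator hs hr)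

theorem comm_mem_nxt' {S R : Subgroup G} {s r : G} (hs : s ∈ S) (hr : r ∈ R) :
    ⁅r, s⁆ ∈ nxt S R := by
  rw [← commutatorElement_inv]; exact inv_mem (comm_mem_nxt hs hr)

theorem sq_mem_nxt {S R : Subgroup G} {s : G} (hs : s ∈ S) : s * s ∈ nxt S R :=
  mem_sup_right (subset_closure ⟨s, hs, rfl⟩)

theorem nxt_le {S R : Subgroup G} (hRS : R ≤ normalizer (S : Set G)) : nxt S R ≤ S := by
  refine sup_le (commutator_le.mpr fun s hs r hr => ?_) ((closure_le S).mpr ?_)
  · rw [commutatorElement_def, mul_assoc, mul_assoc, ← mul_assoc r]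
    exact S.mul_mem hs ((mem_normalizer_iff.mp (hRS hr) _).mp (inv_mem hs))
  · rintro _ ⟨s, hs, rfl⟩
    exact S.mul_mem hs hs

theorem nxt_mono {S S' R : Subgroup G} (h : S ≤ S') : nxt S R ≤ nxt S' R :=
  sup_le_sup (commutator_mono h le_rfl) (closure_mono (Set.image_mono h))

theorem map_conj_nxt (g : G) {S R : Subgroup G} (hS : g ∈ normalizer (S : Set G))
    (hR : g ∈ normalizer (R : Set G)) {x : G} (hx : x ∈ nxt S R) :
    g * x * g⁻¹ ∈ nxt S R := by
  have hle : (nxt S R).map (MulAut.conj g).toMonoidHom ≤ nxt S R := by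
    rw [nxt, Subgroup.map_sup, map_commutator, MonoidHom.map_closure]
    refine sup_le_sup (commutator_mono ?_ ?_) (closure_mono ?_)
    · rintro _ ⟨s, hs, rfl⟩; exact (mem_normalizer_iff.mp hS s).mp hs
    · rintro _ ⟨s, hs, rfl⟩; exact (mem_normalizer_iff.mp hR s).mp hs
    · rintro _ ⟨_, ⟨s, hs, rfl⟩, rfl⟩
      exact ⟨g * s * g⁻¹, (mem_normalizer_iff.mp hS s).mp hs, by
        simp only [MulEquiv.coe_toMonoidHom, MulAut.conj_apply]; group⟩
  exact hle (mem_map_of_mem _ hx)

theorem norm_nxt {S R X : Subgroup G} (hXS : X ≤ normalizer (S : Set G))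
    (hXR : X ≤ normalizer (R : Set G)) : X ≤ normalizer (nxt S R : Set G) :=
  le_normalizer_iff.mpr fun x hx _ hn => map_conj_nxt x (hXS hx) (hXR hx) hn

theorem sec_nxt {S R : Subgroup G} (hRS : R ≤ normalizer (S : Set G))
    (hPS : P ≤ normalizer (S : Set G)) (hPR : P ≤ normalizer (R : Set G)) :
    Sec P S (nxt S R) :=
  ⟨nxt_le hRS, fun _ h => sq_mem_nxt h, hPS, norm_nxt hPS hPR⟩

theorem nxt_lt [Finite G] {S R : Subgroup G} (hR : IsPGroup 2 R) (hSR : S ≤ R)
    (hRS : R ≤ normalizer (S : Set G)) (hne : S ≠ ⊥) : nxt S R < S := by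
  refine lt_of_le_of_ne (nxt_le hRS) fun he => ?_
  haveI : Fact (Nat.Prime 2) := ⟨Nat.prime_two⟩
  have hlt : ⁅S, R⁆ < S :=
    Coprime.commutator_lt_of_isPGroup (hR.to_le hSR) hR hRS hne
  set N := (⁅S, R⁆).subgroupOf S with hN
  haveI : N.Normal := normal_subgroupOf_of_le_normalizer
    (hSR.trans (normalizer_commutator_ge_right S R))
  letI : CommGroup (S ⧸ N) :=
    { (inferInstance : Group (S ⧸ N)) with
      mul_comm := fun a b => by
        induction a using QuotientGroup.induction_on with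
        | _ x =>
          induction b using QuotientGroup.induction_on with
          | _ y =>
            rw [← QuotientGroup.mk_mul, ← QuotientGroup.mk_mul, QuotientGroup.eq, hN,
              mem_subgroupOf]
            have h := commutator_mem_commutator (inv_mem y.2) (hSR (inv_mem x.2))
            simpa [commutatorElement_def, mul_assoc] using h }
  let sqh : S ⧸ N →* S ⧸ N := powMonoidHom 2
  have hsurj : Function.Surjective sqh := by
    rw [← MonoidHom.range_eq_top, eq_top_iff]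
    intro a _
    obtain ⟨⟨x, hx⟩, rfl⟩ := QuotientGroup.mk'_surjective N a
    have hmem : ∀ y ∈ nxt S R, ∃ hy : y ∈ S,
        ((⟨y, hy⟩ : S) : S ⧸ N) ∈ sqh.range := by
      have hle : nxt S R ≤ (sqh.range.comap (QuotientGroup.mk' N)).map S.subtype := by
        refine sup_le (fun y hy => ?_) ((closure_le _).mpr ?_)
        · refine ⟨⟨y, hlt.le hy⟩, ?_, rfl⟩
          rw [SetLike.mem_coe, mem_comap, QuotientGroup.mk'_apply,
            (QuotientGroup.eq_one_iff _).mpr (mem_subgroupOf.mpr hy)]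
          exact one_mem _
        · rintro _ ⟨s, hs, rfl⟩
          refine ⟨⟨s, hs⟩ * ⟨s, hs⟩, ⟨((⟨s, hs⟩ : S) : S ⧸ N), ?_⟩, rfl⟩
          simp only [sqh, sq, powMonoidHom_apply]
          rfl
      intro y hy
      obtain ⟨z, hz, rfl⟩ := hle hy
      exact ⟨z.2, hz⟩
    obtain ⟨_, h⟩ := hmem x (he.ge hx)
    exact h
  have hinj := Finite.injective_iff_surjective.mpr hsurj
  haveI : Nontrivial (S ⧸ N) := QuotientGroup.nontrivial_iff.mpr fun h =>
    hlt.not_ge (subgroupOf_eq_top.mp h)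
  obtain ⟨a, ha⟩ := exists_prime_orderOf_dvd_card' (G := S ⧸ N) 2 (by
    obtain ⟨n, hn⟩ := IsPGroup.iff_card.mp ((hR.to_le hSR).to_quotient N)
    have h1 := Finite.one_lt_card (α := S ⧸ N)
    rw [hn] at h1 ⊢
    exact dvd_pow_self 2 (by rintro rfl; simp at h1))
  have h1 : a = 1 := hinj (by
    simp only [sqh, powMonoidHom_apply, one_pow]
    rw [← ha, pow_orderOf_eq_one])
  rw [h1, orderOf_one] at ha
  norm_num at ha

/-- L1: if `E ≤ R` is centralised by `P`, an operator killing the sections of `C_R(E)` kills all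
sections of `R`. -/
theorem killsAll_of_centralizer [Finite G] (hcomm : ∀ a b : P, a * b = b * a)
    (hodd : Odd (Nat.card P)) {R E : Subgroup G} (hR : IsPGroup 2 R)
    (hPR : P ≤ normalizer (R : Set G)) (hER : E ≤ R) (hPE : P ≤ centralizer (E : Set G))
    {l : List P} (hC : KillsAll (R ⊓ centralizer (E : Set G)) l) : KillsAll R l := by
  suffices h : ∀ S : Subgroup G, S ≤ R → R ≤ normalizer (S : Set G) →
      P ≤ normalizer (S : Set G) → KillsAll S l from h R le_rfl le_normalizer hPR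
  intro S
  induction S using WellFoundedLT.induction with
  | ind S ih =>
    intro hSR hRS hPS
    by_cases hne : S = ⊥
    · subst hne
      exact killsAll_of_ev_eq_one fun x hx => by rw [mem_bot.mp hx, ev_one]
    have hlt := nxt_lt hR hSR hRS hne
    have hRT : R ≤ normalizer (nxt S R : Set G) := norm_nxt hRS le_normalizer
    have hPT : P ≤ normalizer (nxt S R : Set G) := norm_nxt hPS hPR
    have hT := ih _ hlt (hlt.le.trans hSR) hRT hPT
    refine killsAll_of_layer hPT hcomm hodd hT fun h hh => ?_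
    have sST : Sec P S (nxt S R) := sec_nxt hRS hPS hPR
    suffices key : ∀ U : Subgroup G, U ≤ nxt S R → R ≤ normalizer (U : Set G) →
        P ≤ normalizer (U : Set G) → ∀ h ∈ S, (∀ e ∈ E, ⁅h, e⁆ ∈ U) →
        ∃ n, (ev l)^[n] h ∈ nxt S R by
      obtain ⟨n, hn⟩ := key _ le_rfl hRT hPT h hh fun e he => comm_mem_nxt hh (hER he)
      exact sST.mem_of_iterate hcomm hodd l hh hn
    intro U
    induction U using WellFoundedLT.induction with
    | ind U ihU =>
      intro hUT hRU hPU h hh hcen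
      by_cases hU : U = ⊥
      · subst hU
        have hc : h ∈ centralizer (E : Set G) := mem_centralizer_iff.mpr fun e he =>
          (commutatorElement_eq_one_iff_mul_comm.mp (mem_bot.mp (hcen e he))).symm
        have hPC : P ≤ normalizer ((R ⊓ centralizer (E : Set G) : Subgroup G) : Set G) := by
          refine inf_norm hPR (le_normalizer_iff.mpr fun b hb c hc => mem_centralizer_iff.mpr
            fun e he => ?_)
          have h1 : e * b = b * e := mem_centralizer_iff.mp (hPE hb) e he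
          have h2 : e * b⁻¹ = b⁻¹ * e := mem_centralizer_iff.mp (inv_mem (hPE hb)) e he
          have h3 : e * c = c * e := mem_centralizer_iff.mp hc e he
          calc e * (b * c * b⁻¹) = b * (e * c) * b⁻¹ := by simp [← mul_assoc, h1]
            _ = b * c * (e * b⁻¹) := by rw [h3]; simp [mul_assoc]
            _ = b * c * b⁻¹ * e := by rw [h2]; simp [mul_assoc]
        exact ⟨1, (hC _ _ inf_le_right (sST.inf hPC) h ⟨hh, hSR hh, hc⟩).1⟩
      have hUS : U < S := lt_of_le_of_lt hUT hlt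
      have hU'lt := nxt_lt hR (hUS.le.trans hSR) hRU hU
      have sU : Sec P U (nxt U R) := sec_nxt hRU hPU hPR
      have hstep : ∀ e ∈ E, ⁅ev l h, e⁆ ∈ nxt U R := by
        intro e he
        obtain ⟨V, _, ⟨M⟩⟩ := sU.exists_model
        have hb : ∀ b : P, (b : G) * e * (b : G)⁻¹ = e := fun b => by
          rw [← mem_centralizer_iff.mp (hPE b.2) e he, mul_inv_cancel_right]
        have hl : ∀ k : List P, ⁅ev k h, e⁆ ∈ U ∧
            M.val ⁅ev k h, e⁆ = M.phi k (M.val ⁅h, e⁆) := by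
          intro k
          induction k with
          | nil => simp [commutatorElement_one_left, M.val_one]
          | cons b k ihk =>
            have hx : (b : G) * h * (b : G)⁻¹ ∈ R :=
              (mem_normalizer_iff.mp (hPR b.2) h).mp (hSR hh)
            have hbc : ⁅(b : G) * h * (b : G)⁻¹, e⁆ = (b : G) * ⁅h, e⁆ * (b : G)⁻¹ := by
              conv_lhs => rw [← hb b]
              simp [commutatorElement_def, mul_assoc]
            have hbmem : ⁅(b : G) * h * (b : G)⁻¹, e⁆ ∈ U :=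
              hbc ▸ (mem_normalizer_iff.mp (hPU b.2) _).mp (hcen e he)
            set x := (b : G) * h * (b : G)⁻¹ with hxdef
            have e1 : ⁅x * ev k h, e⁆ = x * ⁅ev k h, e⁆ * x⁻¹ * ⁅x, e⁆ := by
              simp [commutatorElement_def, mul_assoc]
            have e2 : x * ⁅ev k h, e⁆ * x⁻¹ = ⁅x, ⁅ev k h, e⁆⁆ * ⁅ev k h, e⁆ := by
              simp [commutatorElement_def, mul_assoc]
            have hc1 : ⁅x, ⁅ev k h, e⁆⁆ ∈ nxt U R := comm_mem_nxt' ihk.1 hx
            have hc2 := sU.le hc1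
            rw [ev_cons, e1, e2]
            refine ⟨U.mul_mem (U.mul_mem hc2 ihk.1) hbmem, ?_⟩
            rw [M.val_mul (U.mul_mem hc2 ihk.1) hbmem, M.val_mul hc2 ihk.1,
              (M.val_eq_zero hc2).mpr hc1, zero_add, ihk.2, hbc,
              M.val_conj hPU b (hcen e he), Model.phi_cons, add_comm]
            rfl
        obtain ⟨hmem, hval⟩ := hl l
        rw [← M.val_eq_zero hmem, hval, ← M.val_ev hPU l (hcen e he),
          M.val_eq_zero (ev_mem hPU l (hcen e he))]
        exact (ih U hUS (hUS.le.trans hSR) hRU hPU) U (nxt U R) le_rfl sU _ (hcen e he)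
      obtain ⟨n, hn⟩ := ihU _ hU'lt (hU'lt.le.trans hUT) (norm_nxt hRU le_normalizer)
        (norm_nxt hPU hPR) (ev l h) (ev_mem hPS l hh) hstep
      exact ⟨n + 1, by rwa [Function.iterate_succ_apply]⟩

/-! ### No fixed point in the commutator subgroup -/

/-- All elements of `P`. -/
noncomputable def elems (P : Subgroup G) [Finite P] : List P :=
  (@Finset.univ P (Fintype.ofFinite P)).toList

/-- The operator complementary to the fixed points. -/
noncomputable def nOne (P : Subgroup G) [Finite P] : List P := 1 :: elems P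

/-- The adjoint list. -/
def linv (l : List P) : List P := l.map (·⁻¹)

theorem length_elems [Finite P] : (elems P).length = Nat.card P := by
  letI := Fintype.ofFinite P
  rw [elems, Finset.length_toList, Nat.card_eq_fintype_card]
  rfl

theorem killsAll_lmul [Finite G] {R : Subgroup G} {l : List P} (m : List P)
    (h : KillsAll R l) : KillsAll R (lmul l m) := by
  intro H K hH s x hx
  obtain ⟨V, _, ⟨M⟩⟩ := s.exists_model
  rw [← M.val_eq_zero (ev_mem s.normH _ hx), M.val_ev s.normH _ hx, M.phi_lmul]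
  change M.phi l (M.phi m (M.val x)) = 0
  rw [← M.val_ev s.normH m hx, ← M.val_ev s.normH l (ev_mem s.normH m hx),
    M.val_eq_zero (ev_mem s.normH l (ev_mem s.normH m hx))]
  exact h H K hH s _ (ev_mem s.normH m hx)

theorem killsAll_lmul_nOne_of_centralized [Finite G] {R : Subgroup G} (hodd : Odd (Nat.card P))
    (hR : P ≤ centralizer (R : Set G)) (l : List P) : KillsAll R (lmul l (nOne P)) :=
  killsAll_of_centralized (by
    rw [length_lmul, nOne, List.length_cons, length_elems]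
    exact (hodd.add_one).mul_left _) hR

namespace Model

variable {H K : Subgroup G} {V : Type u} [AddCommGroup V] (M : Model P H K V)

theorem phi_elems [Finite P] :
    M.phi (elems P) = ∑ b ∈ @Finset.univ P (Fintype.ofFinite P), M.rho b := by
  rw [phi, elems, Finset.sum_map_toList]

theorem rho_mul_elems [Finite P] (c : P) : M.phi (elems P) * M.rho c = M.phi (elems P) := by
  letI := Fintype.ofFinite P
  rw [phi_elems, Finset.sum_mul]
  refine Fintype.sum_equiv (Equiv.mulRight c) _ _ fun b => ?_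
  rw [Equiv.coe_mulRight, _root_.map_mul]

include M in
theorem odd_nsmul {n : ℕ} (hn : Odd n) (v : V) : n • v = v := by
  obtain ⟨k, rfl⟩ := hn
  rw [add_nsmul, mul_comm, mul_nsmul', two_nsmul, M.add_self, nsmul_zero, zero_add, one_nsmul]

theorem phi_elems_sq [Finite P] (hodd : Odd (Nat.card P)) :
    M.phi (elems P) * M.phi (elems P) = M.phi (elems P) := by
  conv_lhs => arg 2; rw [phi]
  rw [← List.sum_map_mul_left]
  rw [show ((elems P).map fun b => M.phi (elems P) * M.rho b) =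
    List.replicate (Nat.card P) (M.phi (elems P)) from List.eq_replicate_iff.mpr
      ⟨by rw [List.length_map, length_elems], fun f hf => by
        obtain ⟨b, -, rfl⟩ := List.mem_map.mp hf; exact M.rho_mul_elems b⟩,
    List.sum_replicate]
  exact AddMonoidHom.ext fun v => M.odd_nsmul hodd _

theorem phi_lmul_nOne [Finite P] (l : List P) {v : V} (hv : M.phi (elems P) v = 0) :
    M.phi (lmul l (nOne P)) v = M.phi l v := by
  rw [phi_lmul, nOne, phi_cons, _root_.map_one]
  change M.phi l (v + M.phi (elems P) v) = _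
  rw [hv, add_zero]

end Model

theorem killsAll_elems [Finite G] (hodd : Odd (Nat.card P)) (R : Subgroup G) :
    KillsAll R (lmul (elems P) (nOne P)) := by
  intro H K _ s x hx
  obtain ⟨V, _, ⟨M⟩⟩ := s.exists_model
  rw [← M.val_eq_zero (ev_mem s.normH _ hx), M.val_ev s.normH _ hx, M.phi_lmul, nOne,
    Model.phi_cons, _root_.map_one, mul_add, mul_one, M.phi_elems_sq hodd, M.end_add_self]
  rfl

/-- `P` has no fixed point on the layer below `S` of the series of `S` under `Q`. -/
def Fpf (P S Q : Subgroup G) [Finite P] : Prop := ∀ h ∈ S, ev (elems P) h ∈ nxt S Q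

theorem fpf_self [Finite G] {Q : Subgroup G} (hPQ : P ≤ normalizer (Q : Set G))
    (hQ : ⁅Q, P⁆ = Q) : Fpf P Q Q := by
  intro h hh
  have s : Sec P Q (nxt Q Q) := sec_nxt le_normalizer hPQ hPQ
  obtain ⟨V, _, ⟨M⟩⟩ := s.exists_model
  let Z : Subgroup G :=
    { carrier := {x | x ∈ Q ∧ M.phi (elems P) (M.val x) = 0}
      mul_mem' := fun {a b} ha hb => ⟨Q.mul_mem ha.1 hb.1, by
        rw [M.val_mul ha.1 hb.1, map_add, ha.2, hb.2, add_zero]⟩
      one_mem' := ⟨Q.one_mem, by rw [M.val_one, map_zero]⟩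
      inv_mem' := fun {a} ha => ⟨Q.inv_mem ha.1, by rw [M.val_inv ha.1]; exact ha.2⟩ }
  have hle : ⁅Q, P⁆ ≤ Z := by
    refine commutator_le.mpr fun q hq b hb => ?_
    have hc := (mem_normalizer_iff.mp (hPQ hb) _).mp (inv_mem hq)
    have e : ⁅q, b⁆ = q * (b * q⁻¹ * b⁻¹) := by simp [commutatorElement_def, mul_assoc]
    refine ⟨e ▸ Q.mul_mem hq hc, ?_⟩
    rw [e, M.val_mul hq hc, M.val_conj hPQ ⟨b, hb⟩ (inv_mem hq), M.val_inv hq, map_add]
    change _ + (M.phi (elems P) * M.rho ⟨b, hb⟩) (M.val q) = 0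
    rw [M.rho_mul_elems, M.add_self]
  have hz := hle (hQ.symm ▸ hh)
  rw [← M.val_eq_zero (ev_mem hPQ _ hh), M.val_ev hPQ _ hh]
  exact hz.2

theorem fpf_nxt [Finite G] (hcomm : ∀ a b : P, a * b = b * a) (hodd : Odd (Nat.card P))
    {Q S : Subgroup G} (hPQ : P ≤ normalizer (Q : Set G)) (hSQ : S ≤ Q)
    (hQS : Q ≤ normalizer (S : Set G)) (hPS : P ≤ normalizer (S : Set G))
    (hS : Fpf P S Q) (hQ : Fpf P Q Q) {l m : List P}
    (hl : KillsAll Q (lmul l (nOne P)))
    (hm : KillsAll Q (lmul (1 :: lmul m (linv l)) (nOne P))) : Fpf P (nxt S Q) Q := by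
  set T := nxt S Q with hTdef
  have hTS : T ≤ S := nxt_le hQS
  have hTQ : T ≤ Q := hTS.trans hSQ
  have hQT : Q ≤ normalizer (T : Set G) := norm_nxt hQS le_normalizer
  have hPT : P ≤ normalizer (T : Set G) := norm_nxt hPS hPQ
  have s2 : Sec P T (nxt T Q) := sec_nxt hQT hPT hPQ
  obtain ⟨V, _, ⟨M⟩⟩ := s2.exists_model
  set f : G → V := fun t => M.phi (elems P) (M.val t) with hf
  have hfmul : ∀ {a b}, a ∈ T → b ∈ T → f (a * b) = f a + f b := fun ha hb => by
    simp only [hf, M.val_mul ha hb, map_add]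
  have hfinv : ∀ {a}, a ∈ T → f a⁻¹ = f a := fun ha => by simp only [hf, M.val_inv ha]
  have hfzero : ∀ {a}, a ∈ nxt T Q → f a = 0 := fun ha => by
    simp only [hf, (M.val_eq_zero (s2.le ha)).mpr ha, map_zero]
  have hfQ : ∀ {q t}, q ∈ Q → t ∈ T → f (q * t * q⁻¹) = f t := fun {q t} hq ht => by
    have e : q * t * q⁻¹ = ⁅q, t⁆ * t := by simp [commutatorElement_def, mul_assoc]
    rw [e, hfmul (s2.le (comm_mem_nxt' ht hq)) ht, hfzero (comm_mem_nxt' ht hq), zero_add]
  have hfP : ∀ (b : P) {t}, t ∈ T → f ((b : G) * t * (b : G)⁻¹) = f t := fun b t ht => by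
    simp only [hf, M.val_conj hPT b ht]
    exact DFunLike.congr_fun (M.rho_mul_elems b) (M.val t)
  have hcT : ∀ {x y}, x ∈ S → y ∈ Q → ⁅x, y⁆ ∈ T := fun hx hy => comm_mem_nxt hx hy
  have hBl : ∀ {x x' y}, x ∈ S → x' ∈ S → y ∈ Q →
      f ⁅x * x', y⁆ = f ⁅x, y⁆ + f ⁅x', y⁆ := fun {x x' y} hx hx' hy => by
    have e : ⁅x * x', y⁆ = x * ⁅x', y⁆ * x⁻¹ * ⁅x, y⁆ := by
      simp [commutatorElement_def, mul_assoc]
    rw [e, hfmul ((mem_normalizer_iff.mp (hQT (hSQ hx)) _).mp (hcT hx' hy)) (hcT hx hy),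
      hfQ (hSQ hx) (hcT hx' hy), add_comm]
  have hBr : ∀ {x y y'}, x ∈ S → y ∈ Q → y' ∈ Q →
      f ⁅x, y * y'⁆ = f ⁅x, y⁆ + f ⁅x, y'⁆ := fun {x y y'} hx hy hy' => by
    have e : ⁅x, y * y'⁆ = ⁅x, y⁆ * (y * ⁅x, y'⁆ * y⁻¹) := by
      simp [commutatorElement_def, mul_assoc]
    rw [e, hfmul (hcT hx hy) ((mem_normalizer_iff.mp (hQT hy) _).mp (hcT hx hy')),
      hfQ hy (hcT hx hy')]
  have hBone : ∀ {x}, x ∈ S → f ⁅x, (1 : G)⁆ = 0 := fun {x} hx => by
    rw [commutatorElement_one_right]; exact hfzero (one_mem _)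
  have hBinv : ∀ {x y}, x ∈ S → y ∈ Q → f ⁅x, y⁻¹⁆ = f ⁅x, y⁆ := fun {x y} hx hy => by
    have h := hBr hx hy (inv_mem hy)
    rw [mul_inv_cancel, hBone hx] at h
    calc f ⁅x, y⁻¹⁆ = f ⁅x, y⁆ + f ⁅x, y⁆ + f ⁅x, y⁻¹⁆ := by rw [M.add_self, zero_add]
      _ = f ⁅x, y⁆ := by rw [add_assoc, ← h, add_zero]
  have hBker : ∀ {x y}, x ∈ S → y ∈ nxt Q Q → f ⁅x, y⁆ = 0 := by
    intro x y hx hy
    let Z : Subgroup G :=
      { carrier := {y | y ∈ Q ∧ f ⁅x, y⁆ = 0}
        mul_mem' := fun {a b} ha hb => ⟨Q.mul_mem ha.1 hb.1, by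
          rw [hBr hx ha.1 hb.1, ha.2, hb.2, add_zero]⟩
        one_mem' := ⟨Q.one_mem, hBone hx⟩
        inv_mem' := fun {a} ha => ⟨Q.inv_mem ha.1, by rw [hBinv hx ha.1]; exact ha.2⟩ }
    have hle : nxt Q Q ≤ Z := by
      refine sup_le (commutator_le.mpr fun a ha b hb => ?_) ((closure_le _).mpr ?_)
      · refine ⟨Q.mul_mem (Q.mul_mem (Q.mul_mem ha hb) (inv_mem ha)) (inv_mem hb), ?_⟩
        show f ⁅x, a * b * a⁻¹ * b⁻¹⁆ = 0
        rw [hBr hx (Q.mul_mem (Q.mul_mem ha hb) (inv_mem ha)) (inv_mem hb),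
          hBr hx (Q.mul_mem ha hb) (inv_mem ha), hBr hx ha hb, hBinv hx ha, hBinv hx hb]
        rw [show f ⁅x, a⁆ + f ⁅x, b⁆ + f ⁅x, a⁆ + f ⁅x, b⁆ =
          (f ⁅x, a⁆ + f ⁅x, a⁆) + (f ⁅x, b⁆ + f ⁅x, b⁆) by abel, M.add_self, M.add_self, add_zero]
      · rintro _ ⟨a, ha, rfl⟩
        exact ⟨Q.mul_mem ha ha, by rw [hBr hx ha ha, M.add_self]⟩
    exact (hle hy).2
  have hBlist : ∀ {x y} (k : List P), x ∈ S → y ∈ Q →
      f ⁅ev k x, y⁆ = f ⁅x, ev (linv k) y⁆ := by
    intro x y k hx hy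
    induction k with
    | nil =>
      simp only [linv, List.map_nil, ev_nil, hBone hx, commutatorElement_one_left]
      exact hfzero (one_mem _)
    | cons b k ih =>
      have hb1 := (mem_normalizer_iff.mp (hPS b.2) x).mp hx
      have hy1 : ((b⁻¹ : P) : G) * y * ((b⁻¹ : P) : G)⁻¹ ∈ Q :=
        (mem_normalizer_iff.mp (hPQ (b⁻¹).2) y).mp hy
      have e : ⁅(b : G) * x * (b : G)⁻¹, y⁆ =
          (b : G) * ⁅x, ((b⁻¹ : P) : G) * y * ((b⁻¹ : P) : G)⁻¹⁆ * (b : G)⁻¹ := by
        simp [commutatorElement_def, mul_assoc]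
      simp only [linv, List.map_cons, ev_cons]
      rw [hBl hb1 (ev_mem hPS k hx) hy, ih, e, hfP b (hcT hx hy1),
        hBr hx hy1 (ev_mem hPQ _ hy)]
      rfl
  have sST : Sec P S T := sec_nxt hQS hPS hPQ
  have hkillS : ∀ x ∈ S, ev l x ∈ T := by
    intro x hx
    obtain ⟨W, _, ⟨M1⟩⟩ := sST.exists_model
    have h0 : M1.phi (elems P) (M1.val x) = 0 := by
      rw [← M1.val_ev hPS _ hx, M1.val_eq_zero (ev_mem hPS _ hx)]; exact hS x hx
    rw [← M1.val_eq_zero (ev_mem hPS _ hx), M1.val_ev hPS _ hx, ← M1.phi_lmul_nOne l h0,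
      ← M1.val_ev hPS _ hx, M1.val_eq_zero (ev_mem hPS _ hx)]
    exact hl S T hSQ sST x hx
  have hB : ∀ {x y}, x ∈ S → y ∈ Q → f ⁅x, y⁆ = 0 := by
    intro x y hx hy
    have s0 : Sec P Q (nxt Q Q) := sec_nxt le_normalizer hPQ hPQ
    obtain ⟨W, _, ⟨M0⟩⟩ := s0.exists_model
    set z := ev (linv l) (ev m y) with hz
    have hzQ : z ∈ Q := ev_mem hPQ _ (ev_mem hPQ _ hy)
    have h0 : M0.phi (elems P) (M0.val y) = 0 := by
      rw [← M0.val_ev hPQ _ hy, M0.val_eq_zero (ev_mem hPQ _ hy)]; exact hQ y hy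
    have h1 : M0.phi (lmul (1 :: lmul m (linv l)) (nOne P)) (M0.val y) = 0 := by
      rw [← M0.val_ev hPQ _ hy, M0.val_eq_zero (ev_mem hPQ _ hy)]
      exact hm Q _ le_rfl s0 y hy
    rw [M0.phi_lmul_nOne _ h0, Model.phi_cons, _root_.map_one, M0.phi_lmul,
      (M0.phi_commute hcomm m (linv l)).eq] at h1
    have hmem : y⁻¹ * z ∈ nxt Q Q := by
      rw [← M0.val_eq_zero (Q.mul_mem (inv_mem hy) hzQ), M0.val_mul (inv_mem hy) hzQ,
        M0.val_inv hy, hz, M0.val_ev hPQ _ (ev_mem hPQ _ hy), M0.val_ev hPQ _ hy]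
      exact h1
    have h2 := hBr hx hy (Q.mul_mem (inv_mem hy) hzQ)
    rw [hBker hx hmem, add_zero, mul_inv_cancel_left, hz,
      ← hBlist l hx (ev_mem hPQ m hy)] at h2
    rw [← h2]
    exact hfzero (comm_mem_nxt (hkillS x hx) (ev_mem hPQ m hy))
  have hsqadd : ∀ {x x'}, x ∈ S → x' ∈ S →
      f (x * x' * (x * x')) = f (x * x) + f (x' * x') := fun {x x'} hx hx' => by
    have e : x * x' * (x * x') = x * x * ⁅x⁻¹, x'⁆ * (x' * x') := by
      simp [commutatorElement_def, mul_assoc]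
    have hc := hcT (inv_mem hx) (hSQ hx')
    rw [e, hfmul (T.mul_mem (sq_mem_nxt hx) hc) (sq_mem_nxt hx'), hfmul (sq_mem_nxt hx) hc,
      hB (inv_mem hx) (hSQ hx'), add_zero]
  have hsq : ∀ x ∈ S, f (x * x) = 0 := by
    intro x hx
    have hkey : ∀ k : List P, f (ev k x * ev k x) = k.length • f (x * x) := by
      intro k
      induction k with
      | nil => simp only [ev_nil, mul_one, List.length_nil, zero_nsmul]; exact hfzero (one_mem _)
      | cons b k ih =>
        have hb1 := (mem_normalizer_iff.mp (hPS b.2) x).mp hx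
        have e : (b : G) * x * (b : G)⁻¹ * ((b : G) * x * (b : G)⁻¹) =
            (b : G) * (x * x) * (b : G)⁻¹ := by simp [mul_assoc]
        rw [ev_cons, hsqadd hb1 (ev_mem hPS k hx), ih, e, hfP b (sq_mem_nxt hx),
          List.length_cons, succ_nsmul, add_comm]
    have h := hkey (elems P)
    rw [length_elems, M.odd_nsmul hodd, hfzero (sq_mem_nxt (hS x hx))] at h
    exact h.symm
  intro t ht
  let Z : Subgroup G :=
    { carrier := {x | x ∈ T ∧ f x = 0}
      mul_mem' := fun {a b} ha hb => ⟨T.mul_mem ha.1 hb.1, by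
        rw [hfmul ha.1 hb.1, ha.2, hb.2, add_zero]⟩
      one_mem' := ⟨T.one_mem, hfzero (one_mem _)⟩
      inv_mem' := fun {a} ha => ⟨T.inv_mem ha.1, by rw [hfinv ha.1]; exact ha.2⟩ }
  have hle : nxt S Q ≤ Z := by
    refine sup_le (commutator_le.mpr fun x hx y hy => ⟨hcT hx hy, hB hx hy⟩)
      ((closure_le _).mpr ?_)
    rintro _ ⟨x, hx, rfl⟩
    exact ⟨sq_mem_nxt hx, hsq x hx⟩
  rw [← M.val_eq_zero (ev_mem hPT _ ht), M.val_ev hPT _ ht]
  exact (hle ht).2

/-- L2: without a pairing into the trivial module, an element of `⁅R, P⁆` fixed by the members of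
an odd list killing the moved part is trivial. -/
theorem eq_one_of_fixed [Finite G] (hcomm : ∀ a b : P, a * b = b * a) (hodd : Odd (Nat.card P))
    {R : Subgroup G} (hR : IsPGroup 2 R) (hPR : P ≤ normalizer (R : Set G)) {l m L : List P}
    (hl : KillsAll R (lmul l (nOne P)))
    (hm : KillsAll R (lmul (1 :: lmul m (linv l)) (nOne P)))
    (hLlen : Odd L.length) (hL : KillsAll R (lmul L (nOne P)))
    {x : G} (hx : x ∈ ⁅R, P⁆) (hfix : ∀ b ∈ L, (b : G) * x * (b : G)⁻¹ = x) : x = 1 := by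
  haveI : Fact (Nat.Prime 2) := ⟨Nat.prime_two⟩
  set Q := ⁅R, P⁆ with hQdef
  have hQR : Q ≤ R := Coprime.commutator_le_left_of_normalizer hPR
  have hPQ : P ≤ normalizer (Q : Set G) := normalizer_commutator_ge_right R P
  have hcop : (Nat.card P).Coprime (Nat.card R) := by
    obtain ⟨n, hn⟩ := IsPGroup.iff_card.mp hR
    rw [hn]
    exact (Nat.coprime_two_right.mpr hodd).pow_right n
  have hsolv : Group.IsSolvable R := by
    haveI := hR.isNilpotent
    infer_instance
  have hQQ : ⁅Q, P⁆ = Q := Coprime.commutator_commutator_eq hPR hcop (Or.inr hsolv)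
  have hQ := fpf_self hPQ hQQ
  suffices h : ∀ S : Subgroup G, S ≤ Q → Q ≤ normalizer (S : Set G) →
      P ≤ normalizer (S : Set G) → Fpf P S Q → x ∈ S → x = 1 from
    h Q le_rfl le_normalizer hPQ hQ hx
  intro S
  induction S using WellFoundedLT.induction with
  | ind S ih =>
    intro hSQ hQS hPS hS hxS
    by_cases hne : S = ⊥
    · exact mem_bot.mp (hne ▸ hxS)
    have s : Sec P S (nxt S Q) := sec_nxt hQS hPS hPQ
    refine ih _ (nxt_lt (hR.to_le hQR) hSQ hQS hne) (s.le.trans hSQ)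
      (norm_nxt hQS le_normalizer) s.normK
      (fpf_nxt hcomm hodd hPQ hSQ hQS hPS hS hQ (hl.mono hQR) (hm.mono hQR)) ?_
    obtain ⟨V, _, ⟨M⟩⟩ := s.exists_model
    rw [← M.val_eq_zero hxS]
    have h0 : M.phi (elems P) (M.val x) = 0 := by
      rw [← M.val_ev hPS _ hxS, M.val_eq_zero (ev_mem hPS _ hxS)]; exact hS x hxS
    have hfixv : ∀ k : List P, (∀ b ∈ k, b ∈ L) → M.phi k (M.val x) = k.length • M.val x := by
      intro k hk
      induction k with
      | nil => simp
      | cons b k ihk =>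
        rw [Model.phi_cons, List.length_cons, succ_nsmul',
          ← ihk fun c hc => hk c (List.mem_cons_of_mem _ hc)]
        change M.rho b (M.val x) + _ = _
        rw [← M.val_conj hPS b hxS, hfix b (hk b (List.mem_cons_self ..))]
        rfl
    have h1 : M.phi L (M.val x) = 0 := by
      rw [← M.phi_lmul_nOne L h0, ← M.val_ev hPS _ hxS, M.val_eq_zero (ev_mem hPS _ hxS)]
      exact hL S _ (hSQ.trans hQR) s x hxS
    rw [hfixv L fun _ h => h, M.odd_nsmul hLlen] at h1
    exact h1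

/-- L2: `⁅R, P⁆` meets the centraliser of `P` trivially. -/
theorem commutator_inf_centralizer_eq_bot [Finite G] (hcomm : ∀ a b : P, a * b = b * a)
    (hodd : Odd (Nat.card P)) {R : Subgroup G} (hR : IsPGroup 2 R)
    (hPR : P ≤ normalizer (R : Set G)) {l m : List P}
    (hl : KillsAll R (lmul l (nOne P)))
    (hm : KillsAll R (lmul (1 :: lmul m (linv l)) (nOne P))) :
    ⁅R, P⁆ ⊓ centralizer (P : Set G) = ⊥ :=
  (eq_bot_iff_forall _).mpr fun x hx => eq_one_of_fixed hcomm hodd hR hPR hl hm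
    (L := elems P) (by rw [length_elems]; exact hodd) (killsAll_elems hodd R) hx.1 fun b _ => by
      rw [mem_centralizer_iff.mp hx.2 b b.2, mul_inv_cancel_right]

end Cfsg.Agent.H51.Asch
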